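import Cfsg.Agent.SymBlocks.Defect

/-!
# The regular rank of a block of a symmetric group
-/

set_option autoImplicit false
set_option linter.unusedSectionVars false
set_option linter.style.haveILetI false

namespace Cfsg.Lib.SymBlocks

open Finset

universe u

variable {α : Type u} [Fintype α] [DecidableEq α] {p : ℕ} [Fact p.Prime] {M : Ideal Cfsg.AlgInt}

/-- The exponents attached to a block: one member and the common residue counts. -/
theorem exists_block_data (hM : Cfsg.IsPModular p M) {B : Set (Cfsg.IrrCharacter (Equiv.Perm α))}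
    (hB : Cfsg.IsPBlock M B) :
    ∃ γ₀ : Fin (Fintype.card α) → ℕ, StrictMono γ₀ ∧
      ∑ i, γ₀ i = Fintype.card α + ∑ i, delta (Fintype.card α) i ∧
      (∃ χ ∈ B, (χ : Equiv.Perm α → ℂ) = psi γ₀) ∧
      ∀ χ ∈ B, ∃ γ : Fin (Fintype.card α) → ℕ, StrictMono γ ∧
        ∑ i, γ i = Fintype.card α + ∑ i, delta (Fintype.card α) i ∧
        (χ : Equiv.Perm α → ℂ) = psi γ ∧ ∀ r, resCount p γ r = resCount p γ₀ r := by
  obtain ⟨χ₀, hχ₀⟩ := Cfsg.Lib.Blocks.IsPBlock.nonempty hM hB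
  obtain ⟨γ₀, hs₀, hsum₀, he₀⟩ := exists_psi_eq (N := Fintype.card α) le_rfl χ₀
  refine ⟨γ₀, hs₀, hsum₀, ⟨χ₀, hχ₀, he₀⟩, fun χ hχ => ?_⟩
  obtain ⟨γ, hs, hsum, he⟩ := exists_psi_eq (N := Fintype.card α) le_rfl χ
  refine ⟨γ, hs, hsum, he, fun r => (resCount_eq_of_sameBlock hM hs₀ hsum₀ hs hsum ?_ r).symm⟩
  rw [← he₀, ← he]
  have := Cfsg.Lib.Blocks.IsPBlock.eq_blockOf hM hB hχ₀
  rw [this] at hχ
  exact hχ

/-- **A block of weight `w` has rank below `p ^ w`.** -/
theorem blockRank_lt (hM : Cfsg.IsPModular p M) {B : Set (Cfsg.IrrCharacter (Equiv.Perm α))}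
    (hB : Cfsg.IsPBlock M B) {D : Subgroup (Equiv.Perm α)} (hD : Cfsg.IsDefectGroup p M B D)
    (hD1 : D ≠ ⊥) {s : ℕ} (hs : Cfsg.SectionalPRankLE p s D) : Cfsg.blockRank p B < p ^ s := by
  classical
  have hp := (Fact.out : p.Prime)
  obtain ⟨γ₀, hs₀, hsum₀, ⟨χ₀, hχ₀, he₀⟩, hall⟩ := exists_block_data hM hB
  set w := weight α (Fintype.card α) p (resCount p γ₀) with hw
  have hws : w ≤ s := weight_le_of_sectional hM hB hD hs hs₀ hsum₀ hχ₀ he₀
  have hs1 : 1 ≤ s := one_le_of_sectional (Cfsg.Lib.Blocks.IsDefectGroup.isPGroup hD) hD1 hs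
  set C := (finite_conf (α := α) (N := Fintype.card α) (0 : ZMod p) (resCount p γ₀)).toFinset with hC
  have hsub : Submodule.span ℂ ((fun χ : Cfsg.IrrCharacter (Equiv.Perm α) =>
      Cfsg.pRegularPart p (χ : Equiv.Perm α → ℂ)) '' B) ≤
      Submodule.span ℂ ((C.image (regV (α := α) p) : Finset (Equiv.Perm α → ℂ)) : Set _) := by
    rw [Submodule.span_le]
    rintro _ ⟨χ, hχ, rfl⟩
    obtain ⟨γ, hsγ, hsumγ, he, hcnt⟩ := hall χ hχ
    have h1 := regV_mem_span_conf (α := α) (p := p) le_rfl (0 : ZMod p) γ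
    rw [funext hcnt] at h1
    simp only [he]
    rw [Finset.coe_image, hC, Set.Finite.coe_toFinset]
    exact h1
  have hrank : Cfsg.blockRank p B ≤ C.card := by
    refine (Submodule.finrank_mono hsub).trans ?_
    exact (finrank_span_finset_le_card _).trans Finset.card_image_le
  refine lt_of_le_of_lt (hrank.trans (card_conf_le _ _)) ?_
  rw [← hw]
  split_ifs with hw0
  · exact Nat.one_lt_pow (by omega) hp.one_lt
  · calc (p - 1) * p ^ (w - 1) < p * p ^ (w - 1) :=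
          Nat.mul_lt_mul_of_pos_right (by have := hp.pos; omega) (pow_pos hp.pos _)
      _ = p ^ w := by rw [← pow_succ', Nat.sub_add_cancel (Nat.pos_of_ne_zero hw0)]
      _ ≤ p ^ s := Nat.pow_le_pow_right hp.pos hws

end Cfsg.Lib.SymBlocks
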