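import Cfsg.Agent.SymBlocks.Defect
import Cfsg.Agent.Blocks.CoveringDefect

/-!
# Elementary abelian subgroups in defect groups of blocks of alternating groups
-/

set_option autoImplicit false
set_option linter.unusedSectionVars false
set_option linter.style.haveILetI false

namespace Cfsg.Lib.SymBlocks

open Cfsg.Lib.Blocks

universe u

variable {α : Type u} [Fintype α] [DecidableEq α] {p : ℕ} [Fact p.Prime] {M : Ideal Cfsg.AlgInt}

/-- Even elements of `conj P` give elementary subgroups of `D`. -/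
theorem card_le_of_even {Q : Subgroup (Equiv.Perm α)} {P : Subgroup (Equiv.Perm α)}
    (hPQ : P ⊓ alternatingGroup α = Q) {D : Subgroup (alternatingGroup α)}
    (hQ : Q = D.map (alternatingGroup α).subtype) {s : ℕ} (hs : Cfsg.SectionalPRankLE p s D)
    {a : Equiv.Perm α} {R : Subgroup (Equiv.Perm α)}
    (hR : R.map (MulAut.conj a).toMonoidHom ≤ P) {E : Type*} [Group E] [IsMulCommutative E]
    (hexp : ∀ v : E, v ^ p = 1) (f : E →* Equiv.Perm α) (hinj : Function.Injective f)
    (hmem : ∀ v, f v ∈ R) (heven : ∀ v, Equiv.Perm.sign (f v) = 1) : Nat.card E ≤ p ^ s := by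
  set h : E →* Equiv.Perm α := (MulAut.conj a).toMonoidHom.comp f with hh
  have hev : ∀ v, h v ∈ alternatingGroup α := fun v => by
    rw [Equiv.Perm.mem_alternatingGroup, hh]
    simp [map_mul, heven v]
  have hD : ∀ v, h.codRestrict _ hev v ∈ D := fun v => by
    have : h v ∈ Q := hPQ ▸ ⟨hR ⟨f v, hmem v, rfl⟩, hev v⟩
    rw [hQ] at this
    obtain ⟨d, hd, hde⟩ := this
    rwa [show h.codRestrict _ hev v = d from Subtype.ext hde.symm]
  refine card_le_pow_of_sectional hexp hs ((h.codRestrict _ hev).codRestrict D hD) fun u v e => ?_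
  have e1 : h u = h v := congrArg Subtype.val (congrArg Subtype.val e)
  exact hinj ((MulAut.conj a).injective e1)

theorem exists_cycle_data {N : ℕ}
    {χ : Cfsg.IrrCharacter (Equiv.Perm α)} {γ : Fin N → ℕ} (hs : StrictMono γ)
    (hsum : ∑ i, γ i = Fintype.card α + ∑ i, delta N i) (hval : (χ : Equiv.Perm α → ℂ) = psi γ) :
    ∃ e : (Fin (weight α N p (resCount p γ)) × ZMod p) ⊕
        Fin (Fintype.card α - p * weight α N p (resCount p γ)) ≃ α,
      (χ : Equiv.Perm α → ℂ) (cycleProd e) ≠ 0 ∧ ∃ k : ℕ, orderOf (cycleProd e) = p ^ k := by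
  obtain ⟨e⟩ := exists_cycleEquiv (p := p) hs hsum
  refine ⟨e, ?_, ?_⟩
  · rw [hval, cycleProd_eq]
    exact Int.cast_ne_zero.2 (psiZ_rotProd_ne_zero hs hsum rfl e)
  · obtain ⟨k, -, hk⟩ := (Nat.dvd_prime_pow (Fact.out : p.Prime)).1
      (show orderOf (cycleProd e) ∣ p ^ 1 by
        rw [pow_one]; exact orderOf_dvd_of_pow_eq_one (cycleProd_pow e))
    exact ⟨k, hk⟩

/-- The permutations commuting with `x` and fixing its fixed points. -/
def fixStab (x : Equiv.Perm α) : Subgroup (Equiv.Perm α) where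
  carrier := {g | Commute x g ∧ ∀ a, x a = a → g a = a}
  one_mem' := ⟨Commute.one_right x, fun _ _ => rfl⟩
  mul_mem' := fun {g h} hg hh => ⟨hg.1.mul_right hh.1, fun a ha => by
    rw [Equiv.Perm.mul_apply, hh.2 a ha, hg.2 a ha]⟩
  inv_mem' := fun {g} hg => ⟨hg.1.inv_right, fun a ha => by
    rw [Equiv.Perm.inv_def, Equiv.symm_apply_eq, hg.2 a ha]⟩

theorem conj_mem_fixStab {x g y : Equiv.Perm α} (hy : Commute x y) (hg : g ∈ fixStab x) :
    y * g * y⁻¹ ∈ fixStab x := by
  refine ⟨(hy.mul_right hg.1).mul_right hy.inv_right, fun a ha => ?_⟩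
  have h1 : x (y⁻¹ a) = y⁻¹ a := by
    rw [← Equiv.Perm.mul_apply, hy.inv_right.eq, Equiv.Perm.mul_apply, ha]
  rw [Equiv.Perm.mul_apply, Equiv.Perm.mul_apply, hg.2 _ h1, Equiv.Perm.inv_def,
    Equiv.apply_symm_apply]

section Two

variable {r : ℕ} (e : (Fin 2 × ZMod 2) ⊕ Fin r ≃ α)

theorem cycleProd_apply_inl (i : Fin 2) (a : ZMod 2) :
    cycleProd e (e (Sum.inl (i, a))) = e (Sum.inl (i, a + 1)) :=
  transFun_inl e _ i a

theorem cycleProd_apply_inr (j : Fin r) : cycleProd e (e (Sum.inr j)) = e (Sum.inr j) :=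
  transFun_inr e _ j

/-- The regular four-group on the two cycles. -/
def fourHom : Multiplicative (Fin 2 × ZMod 2) →* Equiv.Perm α where
  toFun v := e.permCongr
    (((Equiv.addRight v.toAdd.1).prodCongr (Equiv.addRight v.toAdd.2)).sumCongr 1)
  map_one' := Equiv.ext fun z => by
    obtain ⟨(⟨i, a⟩ | j), rfl⟩ := e.surjective z <;> simp [Equiv.permCongr_apply]
  map_mul' u v := Equiv.ext fun z => by
    obtain ⟨(⟨i, a⟩ | j), rfl⟩ := e.surjective z <;>
      simp [Equiv.permCongr_apply, add_comm, add_left_comm]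

theorem fourHom_mem (v : Multiplicative (Fin 2 × ZMod 2)) : fourHom e v ∈ fixStab (cycleProd e) := by
  refine ⟨Equiv.ext fun z => ?_, fun z hz => ?_⟩
  · obtain ⟨(⟨i, a⟩ | j), rfl⟩ := e.surjective z
    · rw [Equiv.Perm.mul_apply, Equiv.Perm.mul_apply, cycleProd_apply_inl]
      simp [fourHom, Equiv.permCongr_apply, cycleProd_apply_inl, add_right_comm]
    · rw [Equiv.Perm.mul_apply, Equiv.Perm.mul_apply, cycleProd_apply_inr]
      simp [fourHom, Equiv.permCongr_apply, cycleProd_apply_inr]
  · obtain ⟨(⟨i, a⟩ | j), rfl⟩ := e.surjective z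
    · rw [cycleProd_apply_inl] at hz
      have := e.injective hz
      simp at this
    · simp [fourHom, Equiv.permCongr_apply]

theorem sign_fourHom (v : Multiplicative (Fin 2 × ZMod 2)) :
    Equiv.Perm.sign (fourHom e v) = 1 := by
  have key : ∀ (i : Fin 2) (a : ZMod 2), Equiv.Perm.sign
      ((Equiv.addRight i).prodCongr (Equiv.addRight a) : Equiv.Perm (Fin 2 × ZMod 2)) = 1 := by
    decide
  show Equiv.Perm.sign (e.permCongr _) = 1
  rw [Equiv.Perm.sign_permCongr, Equiv.Perm.sign_sumCongr, key, map_one, one_mul]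

theorem fourHom_injective : Function.Injective (fourHom e) := by
  intro u v h
  have := congrArg (fun g : Equiv.Perm α => g (e (Sum.inl (0, 0)))) h
  simp [fourHom, Equiv.permCongr_apply] at this
  exact this

theorem isPGroup_fixStab : IsPGroup 2 (fixStab (cycleProd e)) := by
  intro g
  refine ⟨2, Subtype.ext (Equiv.ext fun z => ?_)⟩
  obtain ⟨hc, hf⟩ := g.2
  set f := (g : Equiv.Perm α) with hf'
  rw [SubmonoidClass.coe_pow, ← hf', OneMemClass.coe_one, Equiv.Perm.one_apply]
  -- the images of the two cycles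
  have himg : ∀ i, ∃ j c, f (e (Sum.inl (i, 0))) = e (Sum.inl (j, c)) := by
    intro i
    obtain ⟨(⟨j, c⟩ | j), hj⟩ := e.surjective (f (e (Sum.inl (i, 0))))
    · exact ⟨j, c, hj.symm⟩
    · exfalso
      have h1 : f (e (Sum.inr j)) = e (Sum.inr j) := hf _ (cycleProd_apply_inr e j)
      have := f.injective (h1.trans hj)
      simpa using e.injective this
  choose π c hπ using himg
  have hfull : ∀ i a, f (e (Sum.inl (i, a))) = e (Sum.inl (π i, c i + a)) := by
    intro i a
    have ha : a = 0 ∨ a = 1 := by revert a; decide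
    rcases ha with rfl | rfl
    · rw [add_zero, hπ]
    · have := congrArg (fun h : Equiv.Perm α => h (e (Sum.inl (i, 0)))) hc.eq
      simp only [Equiv.Perm.mul_apply, cycleProd_apply_inl, hπ, zero_add] at this
      exact this.symm
  have hπinj : Function.Injective π := by
    intro i j hij
    have h1 : f (e (Sum.inl (i, c j - c i))) = f (e (Sum.inl (j, 0))) := by
      rw [hfull, hfull, hij, add_zero, add_sub_cancel]
    exact (Prod.ext_iff.1 (Sum.inl.inj (e.injective (f.injective h1)))).1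
  have hπ2 : ∀ i, π (π i) = i := by
    revert hπinj
    clear hπ hfull
    revert π
    decide
  have hsq : ∀ i a, (f ^ 2) (e (Sum.inl (i, a))) = e (Sum.inl (i, c (π i) + (c i + a))) := by
    intro i a
    rw [sq, Equiv.Perm.mul_apply, hfull, hfull, hπ2]
  obtain ⟨(⟨i, a⟩ | j), rfl⟩ := e.surjective z
  · rw [show (2 : ℕ) ^ 2 = 2 + 2 from rfl, pow_add, Equiv.Perm.mul_apply, hsq, hsq]
    congr 3
    generalize c (π i) = x, c i = y
    revert x y a
    decide
  · exact Equiv.Perm.pow_apply_eq_self_of_apply_eq_self (hf _ (cycleProd_apply_inr e j)) _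

end Two

theorem exp_two : ∀ v : Multiplicative (Fin 2 × ZMod 2), v ^ 2 = 1 := by decide

/-- **The rank bounds for a block of an alternating group.** -/
theorem weight_bounds {N : ℕ} (hM : Cfsg.IsPModular p M)
    {b : Set (Cfsg.IrrCharacter (alternatingGroup α))} (hb : Cfsg.IsPBlock M b)
    {D : Subgroup (alternatingGroup α)} (hD : Cfsg.IsDefectGroup p M b D) {s : ℕ}
    (hs : Cfsg.SectionalPRankLE p s D) {B : Set (Cfsg.IrrCharacter (Equiv.Perm α))}
    (hB : Cfsg.IsPBlock M B)
    (hcov : ∃ χ ∈ B, ∃ θ ∈ b, Cfsg.classInner (fun a : alternatingGroup α => (χ : Equiv.Perm α → ℂ) a)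
      (θ : alternatingGroup α → ℂ) ≠ 0)
    {χ : Cfsg.IrrCharacter (Equiv.Perm α)} (hχ : χ ∈ B) {γ : Fin N → ℕ} (hsm : StrictMono γ)
    (hsum : ∑ i, γ i = Fintype.card α + ∑ i, delta N i) (hval : (χ : Equiv.Perm α → ℂ) = psi γ) :
    (p ≠ 2 → weight α N p (resCount p γ) ≤ s) ∧ (p = 2 → weight α N p (resCount p γ) ≤ s + 1 ∧
      (weight α N p (resCount p γ) = 2 → 2 ≤ s)) := by
  classical
  have hp := (Fact.out : p.Prime)
  have hQ : Cfsg.IsDefectGroup p M b ((D.map (alternatingGroup α).subtype).subgroupOf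
      (alternatingGroup α)) := by
    rwa [show (D.map (alternatingGroup α).subtype).subgroupOf (alternatingGroup α) = D from
      Subgroup.comap_map_eq_self_of_injective (Subgroup.subtype_injective _) D]
  obtain ⟨P, hP, hPQ⟩ := exists_defect_inf_eq hM hb (Subgroup.map_subtype_le D) hQ hB hcov
  obtain ⟨e, hne, hord⟩ := exists_cycle_data (p := p) hsm hsum hval
  have hpg : IsPGroup p (orbitStab (cycleProd e)) := fun g => ⟨1, Subtype.ext (by
    rw [pow_one]; exact pow_eq_one_of_mem_orbitStab (cycleProd_pow e) g.2)⟩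
  obtain ⟨a, ha⟩ := exists_conj_le_of_apply_ne_zero hM hB hχ hord hne hpg
    (transHom_mem_orbitStab e _) (fun g hg => hg.1) (fun y hy g hg => conj_mem_orbitStab hy hg) hP
  generalize hw : weight α N p (resCount p γ) = w at e hne hord hpg ha ⊢
  have hexp : ∀ v : Multiplicative (Fin w → ZMod p), v ^ p = 1 := fun v => by
    apply Multiplicative.toAdd.injective
    rw [toAdd_pow, toAdd_one]
    exact funext fun i => by simp
  have hcard : Nat.card (Multiplicative (Fin w → ZMod p)) = p ^ w := by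
    rw [Nat.card_eq_fintype_card, Fintype.card_multiplicative, Fintype.card_fun, Fintype.card_fin,
      ZMod.card]
  refine ⟨fun hp2 => ?_, fun hp2 => ⟨?_, fun hw2 => ?_⟩⟩
  · have heven : ∀ v, Equiv.Perm.sign (transHom e v) = 1 := fun v => by
      have h1 : Equiv.Perm.sign (transHom e v) ^ p = 1 := by rw [← map_pow, ← map_pow, hexp, map_one, map_one]
      rwa [pow_eq_pow_mod p (Int.units_sq _), Nat.odd_iff.1 (hp.odd_of_ne_two hp2), pow_one] at h1
    have h := card_le_of_even hPQ rfl hs ha hexp (transHom e) (transHom_injective e)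
      (transHom_mem_orbitStab e) heven
    rw [hcard] at h
    exact (Nat.pow_le_pow_iff_right hp.one_lt).1 h
  · set K := (Equiv.Perm.sign.comp (transHom e)).ker with hK
    have h := card_le_of_even hPQ rfl hs ha (E := K) (fun v => Subtype.ext (hexp v.1))
      ((transHom e).comp K.subtype) ((transHom_injective e).comp Subtype.val_injective)
      (fun v => transHom_mem_orbitStab e v.1) (fun v => MonoidHom.mem_ker.1 v.2)
    have h2 : K.index ≤ 2 := by
      rw [hK, Subgroup.index_ker]
      refine (Nat.card_le_card_of_injective _ Subtype.val_injective).trans ?_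
      simp
    have h3 : p ^ w ≤ p ^ (s + 1) := by
      rw [← hcard, ← K.card_mul_index, pow_succ]
      exact Nat.mul_le_mul h (h2.trans hp.two_le)
    exact (Nat.pow_le_pow_iff_right hp.one_lt).1 h3
  · subst hp2
    have key : ∀ {v : ℕ} (hv : v = w) (e' : (Fin v × ZMod 2) ⊕ Fin (Fintype.card α - 2 * w) ≃ α),
        v = 2 → (χ : Equiv.Perm α → ℂ) (cycleProd e') ≠ 0 →
        (∃ k : ℕ, orderOf (cycleProd e') = 2 ^ k) → 2 ≤ s := by
      intro v _ e' hv hne' hord'
      subst hv
      have hK := isPGroup_fixStab e'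
      obtain ⟨a', ha'⟩ := exists_conj_le_of_apply_ne_zero hM hB hχ hord' hne' hK
        (P := fixStab (cycleProd e')) ⟨Commute.refl _, fun z hz => hz⟩ (fun g hg => hg.1)
        (fun y hy g hg => conj_mem_fixStab hy hg) hP
      have h := card_le_of_even hPQ rfl hs ha' (E := Multiplicative (Fin 2 × ZMod 2))
        exp_two (fourHom e') (fourHom_injective e') (fourHom_mem e')
        (sign_fourHom e')
      rw [Nat.card_eq_fintype_card, Fintype.card_multiplicative, Fintype.card_prod, Fintype.card_fin,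
        ZMod.card] at h
      by_contra hlt
      have : (2 : ℕ) ^ s ≤ 2 ^ 1 := Nat.pow_le_pow_right (by norm_num) (by omega)
      omega
    exact key rfl e hw2 hne hord

end Cfsg.Lib.SymBlocks
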