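import Cfsg.Agent.SymBlocks.AltBound
import Cfsg.Agent.SymBlocks.AltDefect
import Cfsg.Agent.SymBlocks.Main
import Cfsg.Agent.Blocks.CoveringAll
import Cfsg.Agent.Blocks.Projective

/-!
# The regular rank of a block of an alternating group
-/

set_option autoImplicit false
set_option linter.unusedSectionVars false
set_option linter.style.haveILetI false

namespace Cfsg.Lib.SymBlocks

open Finset Cfsg.Lib.Blocks

universe u

variable {α : Type u} [Fintype α] [DecidableEq α] {p : ℕ} [Fact p.Prime] {M : Ideal Cfsg.AlgInt}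

/-- A block of weight zero covers only blocks of defect zero. -/
theorem weight_ne_zero (hM : Cfsg.IsPModular p M)
    {b : Set (Cfsg.IrrCharacter (alternatingGroup α))} (hb : Cfsg.IsPBlock M b)
    {D : Subgroup (alternatingGroup α)} (hD : Cfsg.IsDefectGroup p M b D) (hD1 : D ≠ ⊥)
    {B : Set (Cfsg.IrrCharacter (Equiv.Perm α))} (hB : Cfsg.IsPBlock M B)
    (hcov : ∃ χ ∈ B, ∃ θ ∈ b, Cfsg.classInner (fun a : alternatingGroup α => (χ : Equiv.Perm α → ℂ) a)
      (θ : alternatingGroup α → ℂ) ≠ 0)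
    {cnt : ZMod p → ℕ} (hall : ∀ χ ∈ B, ∃ γ : Fin (Fintype.card α) → ℕ, StrictMono γ ∧
      ∑ i, γ i = Fintype.card α + ∑ i, delta (Fintype.card α) i ∧
      (χ : Equiv.Perm α → ℂ) = psi γ ∧ ∀ r, resCount p γ r = cnt r) :
    weight α (Fintype.card α) p cnt ≠ 0 := by
  classical
  intro hw
  have hconf : ∀ γ : Fin (Fintype.card α) → ℕ, StrictMono γ →
      ∑ i, γ i = Fintype.card α + ∑ i, delta (Fintype.card α) i →
      (∀ r, resCount p γ r = cnt r) → IsConf α p (0 : ZMod p) cnt γ := by
    intro γ hs hsum hc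
    refine ⟨hs, hsum, hc, (isPacked_iff_closedAt hs).2 ?_⟩
    have h0 : ∑ i, excess p γ i = 0 := by
      rw [sum_excess_eq_weight (α := α) hs hsum, show resCount p γ = cnt from funext hc, hw]
    have hcore : coreOf p γ = γ := funext fun i => by
      have := eq_coreOf_add (p := p) hs i
      rw [(Finset.sum_eq_zero_iff.1 h0) i (mem_univ i), mul_zero, add_zero] at this
      exact this.symm
    have := closedAt_coreOf (p := p) γ 0
    rwa [hcore] at this
  have hone : Nat.card B = 1 := by
    obtain ⟨χ₀, hχ₀⟩ := IsPBlock.nonempty hM hB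
    rw [Nat.card_eq_one_iff_unique]
    refine ⟨⟨fun x y => Subtype.ext (Subtype.ext ?_)⟩, ⟨⟨χ₀, hχ₀⟩⟩⟩
    obtain ⟨γ, hs, hsum, he, hc⟩ := hall x.1 x.2
    obtain ⟨γ', hs', hsum', he', hc'⟩ := hall y.1 y.2
    have hcard := card_conf_le (α := α) (N := Fintype.card α) (0 : ZMod p) cnt
    rw [if_pos hw] at hcard
    rw [he, he', Finset.card_le_one.1 hcard γ ((Set.Finite.mem_toFinset _).2 (hconf γ hs hsum hc))
      γ' ((Set.Finite.mem_toFinset _).2 (hconf γ' hs' hsum' hc'))]
  have hdef : Cfsg.blockDefect p B = 0 := by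
    refine defect_zero_of_rank_eq hM hB ?_
    have := blockRank_le_card (p := p) B
    have := one_le_blockRank hM hB
    omega
  have hQ : Cfsg.IsDefectGroup p M b ((D.map (alternatingGroup α).subtype).subgroupOf
      (alternatingGroup α)) := by
    rwa [show (D.map (alternatingGroup α).subtype).subgroupOf (alternatingGroup α) = D from
      Subgroup.comap_map_eq_self_of_injective (Subgroup.subtype_injective _) D]
  obtain ⟨P, hP, hPQ⟩ := exists_defect_inf_eq hM hb (Subgroup.map_subtype_le D) hQ hB hcov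
  have hP1 : P = ⊥ := Subgroup.card_eq_one.1 (by rw [IsDefectGroup.card hM hB hP, hdef, pow_zero])
  rw [hP1, bot_inf_eq] at hPQ
  exact hD1 ((Subgroup.map_eq_bot_iff_of_injective D (Subgroup.subtype_injective _)).1 hPQ.symm)

/-- The block is spanned by regular parts of configurations and of chosen constituents. -/
theorem span_block_le [Nontrivial α] (hM : Cfsg.IsPModular p M)
    {b : Set (Cfsg.IrrCharacter (alternatingGroup α))} (hb : Cfsg.IsPBlock M b)
    {B : Set (Cfsg.IrrCharacter (Equiv.Perm α))} (hB : Cfsg.IsPBlock M B)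
    (hcov : ∃ χ ∈ B, ∃ θ ∈ b, Cfsg.classInner (fun a : alternatingGroup α => (χ : Equiv.Perm α → ℂ) a)
      (θ : alternatingGroup α → ℂ) ≠ 0)
    {cnt : ZMod p → ℕ} (hall : ∀ χ ∈ B, ∃ γ : Fin (Fintype.card α) → ℕ, StrictMono γ ∧
      ∑ i, γ i = Fintype.card α + ∑ i, delta (Fintype.card α) i ∧
      (χ : Equiv.Perm α → ℂ) = psi γ ∧ ∀ r, resCount p γ r = cnt r) (r₀ : ZMod p)
    (T : Finset (Fin (Fintype.card α) → ℕ))
    (hT : ∀ γ, IsConf α p r₀ cnt γ →
      γ ∈ T ∨ (StrictMono γ ∧ twinOf α γ ∈ T)) :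
    Cfsg.blockRank p b ≤ T.card +
      (finite_fixConfs (α := α) (N := Fintype.card α) cnt).toFinset.card := by
  classical
  set F := (finite_fixConfs (α := α) (N := Fintype.card α) cnt).toFinset
  set G : Finset (alternatingGroup α → ℂ) :=
    T.image (fun γ => resAlt α (regV (α := α) p γ)) ∪ F.image (halfPart α p) with hG
  have hreg : ∀ γ : Fin (Fintype.card α) → ℕ, (∀ r, resCount p γ r = cnt r) →
      resAlt α (regV (α := α) p γ) ∈ Submodule.span ℂ (G : Set (alternatingGroup α → ℂ)) := by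
    intro γ hc
    have h1 := Submodule.mem_map_of_mem (f := resAlt α)
      (regV_mem_span_conf (α := α) (p := p) le_rfl r₀ γ)
    rw [funext hc, Submodule.map_span, Set.image_image] at h1
    refine Submodule.span_le.2 ?_ h1
    rintro _ ⟨δ, hδ, rfl⟩
    refine Submodule.subset_span ?_
    rw [hG, Finset.coe_union, Finset.coe_image, Finset.coe_image]
    refine Or.inl ?_
    rcases hT δ hδ with h | ⟨hs, h⟩
    · exact ⟨δ, h, rfl⟩
    · exact ⟨twinOf α δ, h, resAlt_regV_twin (twinOf_spec le_rfl hs hδ.2.1)⟩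
  have hsub : Submodule.span ℂ ((fun θ : Cfsg.IrrCharacter (alternatingGroup α) =>
      Cfsg.pRegularPart p (θ : alternatingGroup α → ℂ)) '' b) ≤
      Submodule.span ℂ (G : Set (alternatingGroup α → ℂ)) := by
    rw [Submodule.span_le]
    rintro _ ⟨θ, hθ, rfl⟩
    obtain ⟨χ, hχ, hne⟩ := exists_over_of_covers hM hB hb hcov hθ
    obtain ⟨γ, hs, hsum, he, hc⟩ := hall χ hχ
    rw [he] at hne
    rcases constituent_mem (p := p) le_rfl hs hsum hne with h | ⟨hf, h⟩
    · simp only [h]
      exact hreg γ hc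
    · refine Submodule.span_le.2 ?_ h
      rintro _ (rfl | rfl)
      · exact hreg γ hc
      · refine Submodule.subset_span ?_
        rw [hG, Finset.coe_union, Finset.coe_image, Finset.coe_image]
        exact Or.inr ⟨γ, (Set.Finite.mem_toFinset _).2 ⟨hs, hsum, hc, hf⟩, rfl⟩
  refine (Submodule.finrank_mono hsub).trans ((finrank_span_finset_le_card _).trans ?_)
  exact (card_union_le _ _).trans (Nat.add_le_add card_image_le card_image_le)

/-- **A block of an alternating group has rank below `p ^ s`.** -/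
theorem blockRank_alt_lt (hM : Cfsg.IsPModular p M)
    {b : Set (Cfsg.IrrCharacter (alternatingGroup α))} (hb : Cfsg.IsPBlock M b)
    {D : Subgroup (alternatingGroup α)} (hD : Cfsg.IsDefectGroup p M b D) (hD1 : D ≠ ⊥) {s : ℕ}
    (hs : Cfsg.SectionalPRankLE p s D) : Cfsg.blockRank p b < p ^ s := by
  classical
  have hp := (Fact.out : p.Prime)
  haveI : Nontrivial α := by
    by_contra h
    rw [not_nontrivial_iff_subsingleton] at h
    exact hD1 (Subgroup.eq_bot_of_subsingleton D)
  obtain ⟨θ₀, hθ₀⟩ := IsPBlock.nonempty hM hb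
  obtain ⟨χ, hχ, hover⟩ := Cfsg.Lib.Chars.exists_over (G := Equiv.Perm α) (alternatingGroup α) θ₀.2
  set B := Cfsg.blockOf M ((⟨χ, hχ⟩ : Cfsg.IrrCharacter (Equiv.Perm α)) : Equiv.Perm α → ℂ)
  have hB : Cfsg.IsPBlock M B := isPBlock_blockOf _
  have hcov : ∃ χ ∈ B, ∃ θ ∈ b, Cfsg.classInner
      (fun a : alternatingGroup α => (χ : Equiv.Perm α → ℂ) a)
      (θ : alternatingGroup α → ℂ) ≠ 0 :=
    ⟨⟨χ, hχ⟩, mem_blockOf_self hM _, θ₀, hθ₀, hover⟩
  obtain ⟨γ₀, hs₀, hsum₀, ⟨χ₀, hχ₀, he₀⟩, hall⟩ := exists_block_data hM hB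
  set cnt := resCount p γ₀
  generalize hwdef : weight α (Fintype.card α) p cnt = w
  have hw0 : 0 < w := Nat.pos_of_ne_zero (hwdef ▸ weight_ne_zero hM hb hD hD1 hB hcov hall)
  obtain ⟨hodd, htwo⟩ := weight_bounds hM hb hD hs hB hcov hχ₀ hs₀ hsum₀ he₀
  rw [hwdef] at hodd htwo
  have hs1 : 1 ≤ s := one_le_of_sectional (IsDefectGroup.isPGroup hD) hD1 hs
  set F := (finite_fixConfs (α := α) (N := Fintype.card α) cnt).toFinset with hF
  by_cases hp2 : p = 2
  · subst hp2
    obtain ⟨hle, hw2⟩ := htwo rfl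
    set C := (finite_conf (α := α) (N := Fintype.card α) (0 : ZMod 2) cnt).toFinset
    have hrank : Cfsg.blockRank 2 b ≤ C.card + F.card :=
      span_block_le hM hb hB hcov hall 0 C fun γ hγ => Or.inl ((Set.Finite.mem_toFinset _).2 hγ)
    have hC := card_conf_le (α := α) (N := Fintype.card α) (0 : ZMod 2) cnt
    rw [hwdef, if_neg hw0.ne'] at hC
    change C.card ≤ _ at hC
    have hpow : ∀ k, k ≤ s → 2 ^ k ≤ 2 ^ s := fun k hk => Nat.pow_le_pow_right (by norm_num) hk
    rcases Nat.lt_or_ge w 3 with hlt | hge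
    · interval_cases w
      · have hF0 : F.card = 0 := by
          rw [Finset.card_eq_zero, Finset.eq_empty_iff_forall_notMem]
          intro γ hγ
          rw [hF, Set.Finite.mem_toFinset] at hγ
          have h1 := sum_flen_eq hγ
          rw [hwdef] at h1
          have h2 : 2 ∣ ∑ i, flen 2 γ i := Finset.dvd_sum fun i _ => by
            rw [flen_eq_two]
            split_ifs
            exacts [dvd_mul_right 2 _, dvd_zero 2]
          rw [h1] at h2
          omega
        have := hpow 1 hs1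
        simp at hC this
        omega
      · have hF1 : F.card ≤ 1 := card_fixConfs_two_le hwdef
        have := hpow 2 (hw2 rfl)
        simp at hC this
        omega
    · have h := card_two_le (α := α) (N := Fintype.card α) (cnt := cnt) (hwdef.symm ▸ hge)
      rw [hwdef] at h
      change C.card + F.card + 1 ≤ _ at h
      have := hpow (w - 1) (by omega)
      omega
  · have hws := hodd hp2
    refine lt_of_lt_of_le ?_ (Nat.pow_le_pow_right hp.pos hws)
    have h2 : (2 : ZMod p) ≠ 0 := by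
      intro h
      have h' : ((2 : ℕ) : ZMod p) = 0 := by exact_mod_cast h
      rw [ZMod.natCast_eq_zero_iff] at h'
      exact hp2 ((Nat.prime_dvd_prime_iff_eq hp Nat.prime_two).1 h')
    obtain ⟨r₀, hr₀⟩ : ∃ r₀ : ZMod p, pr (Fintype.card α) p r₀ = r₀ := ⟨((2 * (Fintype.card α) - 1 : ℕ) : ZMod p) * 2⁻¹, by
      rw [pr, sub_eq_iff_eq_add, ← mul_two, mul_assoc, inv_mul_cancel₀ h2, mul_one]⟩
    obtain ⟨hH, hmid, hnot, a, ha⟩ := two_mul_reps_add_one (N := Fintype.card α) hp2 hr₀
    set C := (finite_conf (α := α) (N := Fintype.card α) r₀ cnt).toFinset with hCdef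
    have hC := card_conf_le (α := α) (N := Fintype.card α) r₀ cnt
    rw [hwdef, if_neg hw0.ne', show p - 1 = 2 * (reps (Fintype.card α) p).card by omega] at hC
    have hS := card_fixConfs_le (α := α) hnot ha (cnt := cnt) (hwdef.symm ▸ hw0)
    rw [hwdef] at hS
    change F.card ≤ _ at hS
    change C.card ≤ _ at hC
    by_cases hne : F.Nonempty
    · obtain ⟨φ, hφ⟩ := hne
      rw [hF, Set.Finite.mem_toFinset] at hφ
      letI : LinearOrder (Fin (Fintype.card α) → ℕ) :=
        LinearOrder.lift' (toLex : (Fin (Fintype.card α) → ℕ) → Lex (Fin (Fintype.card α) → ℕ)) toLex.injective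
      obtain ⟨T, -, hT, hTcard⟩ := exists_half C (twinOf α)
        (fun γ hγ => by
          rw [hCdef, Set.Finite.mem_toFinset] at hγ ⊢
          exact isConf_twin le_rfl hr₀ hφ hγ)
        (fun γ hγ => by
          rw [hCdef, Set.Finite.mem_toFinset] at hγ
          exact twinOf_twinOf le_rfl hγ.1 hγ.2.1)
      replace hTcard : 2 * T.card ≤ C.card + (C.filter fun γ => twinOf α γ = γ).card := by
        convert hTcard
      have hrank : Cfsg.blockRank p b ≤ T.card + F.card :=
        span_block_le hM hb hB hcov hall r₀ T fun γ hγ =>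
          (hT γ ((Set.Finite.mem_toFinset _).2 hγ)).imp id fun h => ⟨hγ.1, h⟩
      have hfix : ∀ γ ∈ C.filter (fun γ => twinOf α γ = γ),
          γ ∈ F ∧ IsPacked p r₀ γ := by
        intro γ hγ
        rw [mem_filter, hCdef, Set.Finite.mem_toFinset] at hγ
        refine ⟨(Set.Finite.mem_toFinset _).2 ⟨hγ.1.1, hγ.1.2.1, hγ.1.2.2.1, ?_⟩, hγ.1.2.2.2⟩
        have h := (twinOf_spec (α := α) le_rfl hγ.1.1 hγ.1.2.1).2.2.1.1
        rwa [hγ.2] at h
      have hf : (C.filter fun γ => twinOf α γ = γ).card ≤ F.card :=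
        card_le_card fun γ hγ => (hfix γ hγ).1
      have hf1 : w = 1 → (C.filter fun γ => twinOf α γ = γ).card = 0 := by
        intro hw1
        rw [Finset.card_eq_zero, Finset.eq_empty_iff_forall_notMem]
        intro γ hγ
        obtain ⟨h1, h2⟩ := hfix γ hγ
        rw [hF, Set.Finite.mem_toFinset] at h1
        have h3 := sum_flen_eq h1
        rw [hwdef, hw1] at h3
        have h4 : 2 ∣ ∑ i, flen p γ i := Finset.dvd_sum fun i _ =>
          flen_even_of_packed h1.1 h1.2.2.2 (fun r hr => by rwa [hmid r hr]) i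
        rw [h3] at h4
        omega
      have hC' : C.card ≤ 2 * (reps (Fintype.card α) p).card *
          (2 * (reps (Fintype.card α) p).card + 1) ^ (w - 1) := by rwa [hH]
      have := bound_arith (H := (reps (Fintype.card α) p).card) (Finset.card_pos.2 ⟨a, ha⟩) hw0
        hC' hS hf hf1
      rw [hH] at this
      omega
    · have hrank : Cfsg.blockRank p b ≤ C.card + F.card :=
        span_block_le hM hb hB hcov hall r₀ C fun γ hγ => Or.inl ((Set.Finite.mem_toFinset _).2 hγ)
      rw [Finset.not_nonempty_iff_eq_empty] at hne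
      rw [hne, card_empty, add_zero] at hrank
      refine lt_of_le_of_lt (hrank.trans hC) ?_
      calc 2 * (reps (Fintype.card α) p).card * p ^ (w - 1) < p * p ^ (w - 1) :=
            Nat.mul_lt_mul_of_pos_right (by omega) (pow_pos hp.pos _)
        _ = p ^ w := by rw [← pow_succ', Nat.sub_add_cancel hw0]

end Cfsg.Lib.SymBlocks
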