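import Cfsg.Agent.SymBlocks.AltTwin

/-!
# Counting bounds for alternating groups
-/

set_option autoImplicit false
set_option linter.unusedSectionVars false
set_option linter.style.haveILetI false

namespace Cfsg.Lib.SymBlocks

open Finset

universe u

variable {α : Type u} [Fintype α] [DecidableEq α] {N p : ℕ}

theorem sum_flen_eq [NeZero p] {cnt : ZMod p → ℕ} {γ : Fin N → ℕ} (h : γ ∈ fixConfs α N p cnt) :
    ∑ i, flen p γ i = weight α N p cnt := by
  obtain ⟨hs, hsum, hc, hf⟩ := h
  rw [Nat.eq_of_mul_eq_mul_left (Nat.pos_of_ne_zero (NeZero.ne p)) (sum_flen hs hf),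
    sum_excess_eq_weight (α := α) hs hsum, show resCount p γ = cnt from funext hc]

theorem two_mul_reps_add_one [Fact p.Prime] (hp2 : p ≠ 2) {r₀ : ZMod p} (hr₀ : pr N p r₀ = r₀) :
    2 * (reps N p).card + 1 = p ∧ (∀ r : ZMod p, pr N p r = r → r = r₀) ∧ r₀ ∉ reps N p ∧
      (reps N p).Nonempty := by
  have hp := (Fact.out : p.Prime)
  have h2 : (2 : ZMod p) ≠ 0 := by
    intro h
    have h' : ((2 : ℕ) : ZMod p) = 0 := by exact_mod_cast h
    rw [ZMod.natCast_eq_zero_iff] at h'
    exact hp2 ((Nat.prime_dvd_prime_iff_eq hp Nat.prime_two).1 h')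
  have hmid : ∀ r : ZMod p, pr N p r = r → r = r₀ := fun r hr => by
    rw [pr, sub_eq_iff_eq_add] at hr hr₀
    have : (2 : ZMod p) * r = 2 * r₀ := by rw [two_mul, two_mul, ← hr, ← hr₀]
    exact mul_left_cancel₀ h2 this
  have hnot : r₀ ∉ reps N p := by
    rw [reps, mem_filter, hr₀]
    simp
  have hcard : 2 * (reps N p).card + 1 = p := by
    have himg : ((reps N p).image (pr N p)).card = (reps N p).card :=
      Finset.card_image_of_injective _ fun a b e => by simpa [pr] using e
    have hdis : Disjoint (reps N p) ((reps N p).image (pr N p)) := by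
      rw [Finset.disjoint_left]
      intro r hr hr'
      obtain ⟨t, ht, rfl⟩ := mem_image.1 hr'
      rw [reps, mem_filter, pr_pr] at hr
      rw [reps, mem_filter] at ht
      omega
    have hun : insert r₀ (reps N p ∪ (reps N p).image (pr N p)) = univ := by
      refine eq_univ_iff_forall.2 fun r => ?_
      rcases lt_trichotomy r.val (pr N p r).val with h | h | h
      · exact mem_insert_of_mem (mem_union_left _ (mem_filter.2 ⟨mem_univ _, h⟩))
      · exact mem_insert.2 (Or.inl (hmid r (ZMod.val_injective p h.symm)))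
      · refine mem_insert_of_mem (mem_union_right _ (mem_image.2 ⟨pr N p r, ?_, pr_pr r⟩))
        exact mem_filter.2 ⟨mem_univ _, by rwa [pr_pr]⟩
    have hn : r₀ ∉ reps N p ∪ (reps N p).image (pr N p) := by
      rw [mem_union, mem_image]
      rintro (h | ⟨t, ht, e⟩)
      · exact hnot h
      · have : t = r₀ := by rw [← pr_pr (N := N) t, e, hr₀]
        exact hnot (this ▸ ht)
    have := congrArg Finset.card hun
    rw [card_insert_of_notMem hn, card_union_of_disjoint hdis, himg, card_univ, ZMod.card] at this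
    omega
  refine ⟨hcard, hmid, hnot, ?_⟩
  rw [← Finset.card_pos]
  have := hp.two_le
  omega

theorem card_fixConfs_le [Fact p.Prime] {r₀ a : ZMod p} (hr₀ : r₀ ∉ reps N p) (ha : a ∈ reps N p)
    {cnt : ZMod p → ℕ} (hw : 0 < weight α N p cnt) :
    (finite_fixConfs (α := α) (N := N) cnt).toFinset.card ≤
      (reps N p).card * ((reps N p).card + 1) ^ (weight α N p cnt - 1) := by
  refine card_le_of_data _ (fixData p a) (reps N p) r₀ hr₀ hw ?_ ?_ ?_
  · intro γ hγ γ' hγ' he
    rw [Finset.mem_coe, Set.Finite.mem_toFinset] at hγ hγ'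
    exact eq_of_fixData hγ.1 hγ'.1 hγ.2.2.2 hγ'.2.2.2
      (fun r => (hγ.2.2.1 r).trans (hγ'.2.2.1 r).symm) he
  · intro γ _ b hb
    obtain ⟨i, -, hi, -⟩ := mem_fixData.1 hb
    rw [← hi, fcol]
    split_ifs with h
    exacts [h, ha]
  · intro γ hγ
    rw [Set.Finite.mem_toFinset] at hγ
    rw [length_fixData, sum_flen_eq hγ]

theorem bound_arith {H w L S f : ℕ} (hH : 1 ≤ H) (hw : 0 < w)
    (hL : L ≤ 2 * H * (2 * H + 1) ^ (w - 1)) (hS : S ≤ H * (H + 1) ^ (w - 1)) (hf : f ≤ S)
    (hf1 : w = 1 → f = 0) : L + f + 2 * S < 2 * (2 * H + 1) ^ w := by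
  obtain ⟨v, rfl⟩ : ∃ v, w = v + 1 := ⟨w - 1, by omega⟩
  rw [Nat.add_sub_cancel] at hL hS
  rw [pow_succ]
  cases v with
  | zero =>
    simp only [pow_zero, mul_one, one_mul] at hL hS ⊢
    have := hf1 rfl
    omega
  | succ u =>
    rw [pow_succ] at hL hS ⊢
    have h1 : (H + 1) ^ u ≤ (2 * H + 1) ^ u := Nat.pow_le_pow_left (by omega) u
    have hP : 0 < (2 * H + 1) ^ u := pow_pos (by omega) u
    nlinarith [Nat.mul_le_mul_left (H * (H + 1)) h1]

theorem flen_eq_two (γ : Fin N → ℕ) (i : Fin N) :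
    flen 2 γ i = if (γ i : ZMod 2) = 0 then 2 * excess 2 γ i else 0 := by
  have hval : ∀ r : ZMod 2, pr N 2 r ≠ r ∧ (r ∈ reps N 2 ↔ r = 0) := by
    intro r
    rcases Nat.eq_zero_or_pos N with hN | hN
    · exact absurd i.isLt (by omega)
    have hone : ((2 * N - 1 : ℕ) : ZMod 2) = 1 :=
      ((ZMod.natCast_eq_natCast_iff' (2 * N - 1) 1 2).2 (by omega)).trans Nat.cast_one
    have hpr : pr N 2 r = 1 - r := by rw [pr, hone]
    rw [reps, mem_filter, hpr]
    simp only [mem_univ, true_and]
    clear hpr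
    revert r
    decide
  rw [flen]
  by_cases h : (γ i : ZMod 2) = 0
  · rw [if_pos ((hval _).2.2 h), if_pos h]
  · rw [if_neg fun e => h ((hval _).2.1 e), if_neg h, if_neg]
    rintro (e | ⟨e, -⟩)
    · exact h ((hval _).2.1 e)
    · exact (hval _).1 e

theorem sorted_word {r₀ : ZMod 2} {cnt : ZMod 2 → ℕ} {γ : Fin N → ℕ}
    (hγ : IsConf α 2 r₀ cnt γ) : ((wordData 2 γ).map Prod.snd).Pairwise (· ≤ ·) := by
  rw [List.pairwise_map, wordData, List.pairwise_map]
  refine ((List.pairwise_lt_finRange N).filter _).imp_of_mem fun {i j} hi hj hij => ?_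
  simp only [List.mem_filter, decide_eq_true_eq] at hi hj
  have h2 : ∀ r x : ZMod 2, x ≠ r → x = r + 1 := by decide
  have hcol : ∀ k, excess 2 γ k ≠ 0 → (γ k : ZMod 2) = r₀ + 1 := fun k hk =>
    h2 _ _ fun e => hk (excess_eq_zero_of_packed hγ.1 hγ.2.2.2 e)
  have := excess_mono (p := 2) hγ.1 hij.le ((hcol i hi.2).trans (hcol j hj.2).symm)
  simp only
  omega

/-- The lengths of a configuration at the prime two. -/
def confCode (γ : Fin N → ℕ) : List ℕ := (wordData 2 γ).map Prod.snd

/-- The lengths of a fixed configuration at the prime two. -/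
def fixCode (γ : Fin N → ℕ) : List ℕ := (fixData 2 (0 : ZMod 2) γ).map Prod.snd

/-- The composition attached to the lengths of a fixed configuration. -/
def fixEnc : List ℕ → List ℕ
  | [] => []
  | d :: t => t.reverse ++ [d - 1, 0]

theorem confCode_spec {cnt : ZMod 2 → ℕ} {γ : Fin N → ℕ} (hγ : IsConf α 2 0 cnt γ) :
    (confCode γ).Pairwise (· ≤ ·) ∧ ((confCode γ).map (· + 1)).sum = weight α N 2 cnt ∧
      wordData 2 γ = (confCode γ).map fun d => (1, d) := by
  refine ⟨sorted_word hγ, ?_, ?_⟩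
  · rw [← (word_spec hγ).1, word, List.length_flatMap, confCode, List.map_map]
    congr 1
    refine List.map_congr_left fun b _ => ?_
    simp [block]
  · rw [confCode, List.map_map]
    refine (List.map_id _).symm.trans (List.map_congr_left fun b hb => ?_)
    have h1 := (word_spec hγ).2 b hb
    have h2 : ∀ x : ZMod 2, x ≠ 0 → x = 1 := by decide
    exact Prod.ext (h2 _ h1) rfl

theorem fixCode_spec {cnt : ZMod 2 → ℕ} {γ : Fin N → ℕ} (hγ : γ ∈ fixConfs α N 2 cnt) :
    (∀ d ∈ fixCode γ, d % 2 = 1) ∧ ((fixCode γ).map (· + 1)).sum = weight α N 2 cnt ∧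
      fixData 2 (0 : ZMod 2) γ = (fixCode γ).map fun d => (0, d) := by
  refine ⟨?_, ?_, ?_⟩
  · intro d hd
    obtain ⟨b, hb, rfl⟩ := List.mem_map.1 hd
    obtain ⟨i, hi, -, hi'⟩ := mem_fixData.1 hb
    rw [← hi']
    rw [flen_eq_two] at hi ⊢
    split_ifs at hi ⊢ with h
    · omega
    · exact absurd rfl hi
  · rw [← sum_flen_eq hγ, ← length_fixData (1 : ZMod 2) (0 : ZMod 2), List.length_flatMap, fixCode,
      List.map_map]
    congr 1
    refine List.map_congr_left fun b _ => ?_
    simp [block]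
  · rw [fixCode, List.map_map]
    refine (List.map_id _).symm.trans (List.map_congr_left fun b hb => ?_)
    obtain ⟨i, -, hi, -⟩ := mem_fixData.1 hb
    refine Prod.ext ?_ rfl
    show b.1 = 0
    rw [← hi, fcol]
    split_ifs with h
    · by_contra hne
      have := flen_eq_two γ i
      rw [reps, mem_filter] at h
      revert h
      have h2 : ∀ x : ZMod 2, x ≠ 0 → x = 1 := by decide
      rw [h2 _ hne, pr]
      intro h
      have := ZMod.val_lt (((2 * N - 1 : ℕ) : ZMod 2) - 1)
      have h3 : (1 : ZMod 2).val = 1 := rfl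
      omega
    · rfl

/-- **The bound at the prime two.** -/
theorem card_two_le {cnt : ZMod 2 → ℕ} (hw : 3 ≤ weight α N 2 cnt) :
    (finite_conf (α := α) (N := N) (0 : ZMod 2) cnt).toFinset.card +
      (finite_fixConfs (α := α) (N := N) cnt).toFinset.card + 1 ≤
        2 ^ (weight α N 2 cnt - 1) := by
  classical
  generalize hwdef : weight α N 2 cnt = w at hw ⊢
  set C := (finite_conf (α := α) (N := N) (0 : ZMod 2) cnt).toFinset
  set F := (finite_fixConfs (α := α) (N := N) cnt).toFinset
  set E : List ℕ := if w = 3 then [1, 0] else [0, w - 3, 0] with hE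
  have hEsum : (E.map (· + 1)).sum = w := by
    rw [hE]; split_ifs with h <;> simp <;> omega
  have hEuns : ¬ E.Pairwise (· ≤ ·) := by
    rw [hE]; split_ifs with h <;> simp <;> omega
  have hFspec : ∀ γ ∈ F, ∃ d t, fixCode γ = d :: t ∧ (d + 1) + (t.map (· + 1)).sum = w ∧
      d % 2 = 1 ∧ (∀ x ∈ t, x % 2 = 1) ∧
      fixData 2 (0 : ZMod 2) γ = (fixCode γ).map fun d => (0, d) := by
    intro γ hγ
    rw [Set.Finite.mem_toFinset] at hγ
    obtain ⟨h1, h2, h3⟩ := fixCode_spec hγ
    rw [hwdef] at h2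
    cases hc : fixCode γ with
    | nil => rw [hc] at h2; simp at h2; omega
    | cons d t =>
      rw [hc] at h1 h2 h3
      exact ⟨d, t, rfl, by simpa using h2, h1 d (List.mem_cons_self ..),
        fun x hx => h1 x (List.mem_cons_of_mem _ hx), h3⟩
  have hFsum : ∀ γ ∈ F, ((fixEnc (fixCode γ)).map (· + 1)).sum = w := by
    intro γ hγ
    obtain ⟨d, t, hc, hsum, hd, -, -⟩ := hFspec γ hγ
    rw [hc, fixEnc, List.map_append, List.sum_append, List.map_reverse, List.sum_reverse]
    simp only [List.map_cons, List.map_nil, List.sum_cons, List.sum_nil]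
    omega
  have hFuns : ∀ γ ∈ F, ¬ (fixEnc (fixCode γ)).Pairwise (· ≤ ·) := by
    intro γ hγ hp
    obtain ⟨d, t, hc, hsum, hd, ht, -⟩ := hFspec γ hγ
    rw [hc, fixEnc, List.pairwise_append] at hp
    obtain ⟨-, h1, h2⟩ := hp
    simp only [List.pairwise_cons, List.mem_singleton, forall_eq] at h1
    cases t with
    | nil => simp at hsum; omega
    | cons x t =>
      have := h2 x (by simp) 0 (by simp)
      have := ht x (List.mem_cons_self ..)
      omega
  have hFne : ∀ γ ∈ F, fixEnc (fixCode γ) ≠ E := by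
    intro γ hγ he
    obtain ⟨d, t, hc, hsum, hd, ht, -⟩ := hFspec γ hγ
    have h1 := congrArg List.reverse he
    rw [hc, fixEnc, hE, apply_ite List.reverse] at h1
    simp only [List.reverse_append, List.reverse_reverse, List.reverse_cons, List.reverse_nil,
      List.nil_append, List.cons_append] at h1
    split_ifs at h1 with h
    · simp only [List.cons.injEq, true_and] at h1
      omega
    · simp only [List.cons.injEq, true_and] at h1
      have := ht 0 (by rw [h1.2]; simp)
      omega
  set IC := C.image confCode with hIC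
  set IF := F.image (fun γ => fixEnc (fixCode γ)) with hIF
  have hcC : IC.card = C.card := Finset.card_image_of_injOn fun γ hγ γ' hγ' he => by
    rw [Finset.mem_coe, Set.Finite.mem_toFinset] at hγ hγ'
    refine eq_of_wordData hγ.1 hγ'.1 (fun r => (hγ.2.2.1 r).trans (hγ'.2.2.1 r).symm) ?_
    rw [(confCode_spec hγ).2.2, (confCode_spec hγ').2.2, he]
  have hcF : IF.card = F.card := Finset.card_image_of_injOn fun γ hγ γ' hγ' he => by
    obtain ⟨d, t, hc, -, hd, -, h3⟩ := hFspec γ hγ
    obtain ⟨d', t', hc', -, hd', -, h3'⟩ := hFspec γ' hγ'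
    have h1 := congrArg List.reverse he
    simp only [hc, hc', fixEnc, List.reverse_append, List.reverse_reverse, List.reverse_cons,
      List.reverse_nil, List.nil_append, List.cons_append, List.cons.injEq, true_and] at h1
    rw [Finset.mem_coe, Set.Finite.mem_toFinset] at hγ hγ'
    refine eq_of_fixData (p := 2) (a := 0) hγ.1 hγ'.1 hγ.2.2.2 hγ'.2.2.2
      (fun r => (hγ.2.2.1 r).trans (hγ'.2.2.1 r).symm) ?_
    rw [h3, h3', hc, hc', show d = d' by omega, h1.2]
  have hdis : Disjoint IC IF := by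
    rw [Finset.disjoint_left]
    intro l hl hl'
    obtain ⟨γ, hγ, rfl⟩ := mem_image.1 hl
    obtain ⟨γ', hγ', he⟩ := mem_image.1 hl'
    rw [Set.Finite.mem_toFinset] at hγ
    exact hFuns γ' hγ' (he ▸ (confCode_spec hγ).1)
  have hEn : E ∉ IC ∪ IF := by
    rw [mem_union]
    rintro (h | h) <;> obtain ⟨γ, hγ, he⟩ := mem_image.1 h
    · rw [Set.Finite.mem_toFinset] at hγ
      exact hEuns (he ▸ (confCode_spec hγ).1)
    · exact hFne γ hγ he
  have hall : ∀ l ∈ insert E (IC ∪ IF), (l.map (· + 1)).sum = w := by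
    intro l hl
    rw [mem_insert, mem_union] at hl
    rcases hl with rfl | h | h
    · exact hEsum
    · obtain ⟨γ, hγ, rfl⟩ := mem_image.1 h
      rw [Set.Finite.mem_toFinset] at hγ
      exact (confCode_spec hγ).2.1.trans hwdef
    · obtain ⟨γ, hγ, rfl⟩ := mem_image.1 h
      exact hFsum γ hγ
  have h := card_le_of_data (insert E (IC ∪ IF)) (fun l => l.map fun d => ((1 : ZMod 2), d)) {1} 0
    (by simp) (show 0 < w by omega) ?_ ?_ ?_
  · rw [card_insert_of_notMem hEn, card_union_of_disjoint hdis, hcC, hcF] at h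
    simpa using h
  · intro l _ l' _ he
    refine List.map_injective_iff.2 (fun a b e => ?_) he
    exact congrArg Prod.snd e
  · intro l _ b hb
    obtain ⟨d, -, rfl⟩ := List.mem_map.1 hb
    simp
  · intro l hl
    rw [List.length_flatMap, List.map_map, ← hall l hl]
    congr 1
    refine List.map_congr_left fun b _ => ?_
    simp [block]

/-- At weight two and the prime two there is at most one fixed configuration. -/
theorem card_fixConfs_two_le {cnt : ZMod 2 → ℕ} (hw : weight α N 2 cnt = 2) :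
    (finite_fixConfs (α := α) (N := N) cnt).toFinset.card ≤ 1 := by
  refine Finset.card_le_one.2 fun γ hγ γ' hγ' => ?_
  rw [Set.Finite.mem_toFinset] at hγ hγ'
  have key : ∀ δ ∈ fixConfs α N 2 cnt, fixCode δ = [1] := by
    intro δ hδ
    obtain ⟨h1, h2, -⟩ := fixCode_spec hδ
    rw [hw] at h2
    match hc : fixCode δ with
    | [] => rw [hc] at h2; simp at h2
    | [d] =>
      rw [hc] at h2
      simp at h2
      rw [show d = 1 by omega]
    | d :: x :: t =>
      rw [hc] at h1 h2
      have := h1 d (by simp)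
      have := h1 x (by simp)
      simp at h2
      omega
  refine eq_of_fixData (p := 2) (a := 0) hγ.1 hγ'.1 hγ.2.2.2 hγ'.2.2.2
    (fun r => (hγ.2.2.1 r).trans (hγ'.2.2.1 r).symm) ?_
  rw [(fixCode_spec hγ).2.2, (fixCode_spec hγ').2.2, key γ hγ, key γ' hγ']

end Cfsg.Lib.SymBlocks
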