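import Cfsg.Agent.SymBlocks.Valuation
import Cfsg.Agent.SymBlocks.AltBound

/-!
# Configurations of height one
-/

set_option autoImplicit false
set_option linter.unusedSectionVars false

namespace Cfsg.Lib.SymBlocks

open Finset

universe u

variable {α : Type u} [Fintype α] [DecidableEq α] {p N : ℕ}

theorem zmod_two_cases : ∀ z : ZMod 2, z = 0 ∨ z = 1 := by decide

/-- The exponents of a hook. -/
def hookSet (c a i : ℕ) : Finset ℕ := insert (c + a) ((range c).erase (c - 1 - i))

theorem card_hookSet {c a i : ℕ} (hi : i < c) : (hookSet c a i).card = c := by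
  rw [hookSet, card_insert_of_notMem (by simp), card_erase_of_mem (by simp; omega), card_range]
  omega

theorem sum_hookSet {c a i : ℕ} (hi : i < c) :
    ∑ x ∈ hookSet c a i, x = a + i + 1 + ∑ k ∈ range c, k := by
  rw [hookSet, sum_insert (by simp),
    ← Finset.add_sum_erase (range c) (fun k => k) (mem_range.2 (show c - 1 - i < c by omega))]
  omega

/-- The exponents of a row. -/
def rowSet (c n : ℕ) : Finset ℕ := if n = 0 then range c else hookSet c (n - 1) 0

theorem rowSet_spec [Fact p.Prime] {c n : ℕ} (hc : 0 < c) :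
    (rowSet c n).card = c ∧ ∑ x ∈ rowSet c n, x = n + ∑ k ∈ range c, k ∧
      hk p (rowSet c n) = padicValNat p n.factorial := by
  rw [rowSet]
  split_ifs with h
  · subst h
    exact ⟨card_range c, (zero_add _).symm, by simp [hk_range]⟩
  · refine ⟨card_hookSet hc, ?_, ?_⟩
    · rw [sum_hookSet hc]; omega
    · rw [hookSet, hk_hook hc]
      obtain ⟨m, rfl⟩ : ∃ m, n = m + 1 := ⟨n - 1, by omega⟩
      rw [Nat.add_sub_cancel, Nat.factorial_zero, padicValNat_one_right, Nat.factorial_succ,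
        padicValNat.mul (Nat.succ_ne_zero m) (Nat.factorial_ne_zero m), add_zero]
      push_cast
      ring

/-- A configuration with prescribed runners. -/
theorem exists_conf_of_runners [Fact p.Prime] {γ₀ : Fin N → ℕ} (hs₀ : StrictMono γ₀)
    (hγ₀ : ∑ i, γ₀ i = Fintype.card α + ∑ i, delta N i) (Q : ZMod p → Finset ℕ)
    (hcard : ∀ r, (Q r).card = resCount p γ₀ r)
    (hsum : ∑ r, ∑ q ∈ Q r, q =
      weight α N p (resCount p γ₀) + ∑ r, ∑ k ∈ range (resCount p γ₀ r), k) :
    ∃ γ : Fin N → ℕ, StrictMono γ ∧ ∑ i, γ i = Fintype.card α + ∑ i, delta N i ∧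
      (∀ r, resCount p γ r = resCount p γ₀ r) ∧ (∀ r, runner p γ r = Q r) := by
  classical
  have hp := (Fact.out : p.Prime)
  set f : ZMod p × ℕ → ℕ := fun x => x.1.val + p * x.2 with hf
  have hfcast : ∀ x, (f x : ZMod p) = x.1 := fun x => by simp [hf]
  have hfdiv : ∀ x, f x / p = x.2 := fun x => by
    rw [hf, Nat.add_mul_div_left _ _ hp.pos, Nat.div_eq_of_lt (ZMod.val_lt x.1), zero_add]
  have hfinj : Function.Injective f := fun x y h => Prod.ext
    (by rw [← hfcast x, ← hfcast y, h]) (by rw [← hfdiv x, ← hfdiv y, h])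
  set T : Finset (ZMod p × ℕ) := univ.biUnion fun r => (Q r).image fun q => (r, q) with hT
  have hmemT : ∀ x, x ∈ T ↔ x.2 ∈ Q x.1 := fun x => by
    simp only [hT, mem_biUnion, mem_univ, true_and, mem_image]
    exact ⟨by rintro ⟨r, q, hq, rfl⟩; exact hq, fun h => ⟨x.1, x.2, h, rfl⟩⟩
  set S := T.image f with hS
  have hdisj : Set.PairwiseDisjoint (↑(univ : Finset (ZMod p))) fun r => (Q r).image fun q => (r, q) := by
    intro a _ b _ hab
    rw [Function.onFun, Finset.disjoint_left]
    intro x hx hx'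
    obtain ⟨q, -, rfl⟩ := mem_image.1 hx
    obtain ⟨q', -, e⟩ := mem_image.1 hx'
    exact hab (congrArg Prod.fst e).symm
  have hTsum : ∀ g : ZMod p × ℕ → ℕ, ∑ x ∈ T, g x = ∑ r, ∑ q ∈ Q r, g (r, q) := fun g => by
    rw [hT, Finset.sum_biUnion hdisj]
    exact Finset.sum_congr rfl fun r _ => Finset.sum_image fun a _ b _ e => (congrArg Prod.snd e)
  have hScard : S.card = N := by
    rw [hS, card_image_of_injective _ hfinj, card_eq_sum_ones, hTsum]
    simp only [← card_eq_sum_ones, hcard]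
    exact (Finset.card_eq_sum_card_fiberwise (f := fun i : Fin N => (γ₀ i : ZMod p)) (t := univ)
      fun _ _ => mem_univ _).symm.trans (by simp)
  set γ : Fin N → ℕ := fun i => S.orderEmbOfFin hScard i with hγdef
  have hs : StrictMono γ := fun a b h => (S.orderEmbOfFin hScard).strictMono h
  have himg : univ.image γ = S := Finset.image_orderEmbOfFin_univ S hScard
  have hrun : ∀ r, runner p γ r = Q r := by
    intro r
    ext q
    simp only [runner, mem_image, mem_filter, mem_univ, true_and]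
    constructor
    · rintro ⟨i, hir, rfl⟩
      obtain ⟨x, hx, hxi⟩ := mem_image.1 (himg ▸ mem_image_of_mem γ (mem_univ i) : γ i ∈ S)
      rw [← hxi, hfcast] at hir
      rw [← hxi, hfdiv, ← hir]
      exact (hmemT x).1 hx
    · intro hq
      have hin : f (r, q) ∈ univ.image γ := himg ▸ mem_image_of_mem f ((hmemT (r, q)).2 hq)
      obtain ⟨i, -, hi⟩ := mem_image.1 hin
      exact ⟨i, by rw [hi, hfcast], by rw [hi, hfdiv]⟩
  refine ⟨γ, hs, ?_, fun r => by rw [← card_runner hs, hrun, hcard], hrun⟩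
  have h1 := coreSum_add (p := p) hs₀
  rw [sum_excess_eq_weight (α := α) hs₀ hγ₀, hγ₀] at h1
  rw [← Finset.sum_image hs.injective.injOn (f := fun x => x), himg, hS,
    Finset.sum_image fun a _ b _ e => hfinj e, hTsum, ← h1]
  simp only [hf, Finset.sum_add_distrib, Finset.sum_const, smul_eq_mul, hcard]
  rw [Finset.sum_congr (rfl : (univ : Finset (ZMod p)) = univ)
    (fun r _ => (Finset.mul_sum (Q r) (fun q => q) p).symm), ← Finset.mul_sum, hsum, coreSum]
  simp only [Finset.sum_add_distrib, Finset.sum_const, smul_eq_mul, card_range]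
  rw [show ∑ r : ZMod p, ∑ k ∈ range (resCount p γ₀ r), p * k =
      p * ∑ r : ZMod p, ∑ k ∈ range (resCount p γ₀ r), k by simp only [Finset.mul_sum]]
  ring

theorem hk_of_runners [Fact p.Prime] {γ : Fin N → ℕ} (hs : StrictMono γ)
    (hγ : ∑ i, γ i = Fintype.card α + ∑ i, delta N i) (Q : ZMod p → Finset ℕ)
    (hQ : ∀ r, runner p γ r = Q r) :
    hk p (univ.image γ) = (weight α N p (resCount p γ) : ℤ) + ∑ r, hk p (Q r) := by
  rw [hk_eq_runners hs, sum_excess_eq_weight (α := α) hs hγ]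
  simp only [hQ]

/-- A fixed configuration at the prime two is determined by its even exponents. -/
theorem eq_of_fixed_two {γ γ' : Fin N → ℕ} (hs : StrictMono γ) (hs' : StrictMono γ')
    (h : IsFixedConf N γ) (h' : IsFixedConf N γ') (hr : runner 2 γ 0 = runner 2 γ' 0) : γ = γ' := by
  refine eq_of_image_eq hs hs' (Finset.ext fun x => ?_)
  have heven : ∀ {δ : Fin N → ℕ} (_ : StrictMono δ) {y : ℕ}, (y : ZMod 2) = 0 →
      (y ∈ univ.image δ ↔ y / 2 ∈ runner 2 δ 0) := by
    intro δ _ y hy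
    simp only [runner, mem_image, mem_filter, mem_univ, true_and]
    constructor
    · rintro ⟨i, rfl⟩; exact ⟨i, hy, rfl⟩
    · rintro ⟨i, hi, he⟩
      refine ⟨i, ?_⟩
      have h1 := eq_val_add_mul (p := 2) (δ i)
      have h2 := eq_val_add_mul (p := 2) y
      rw [hi] at h1
      rw [hy] at h2
      omega
  by_cases hx : (x : ZMod 2) = 0
  · rw [heven hs hx, heven hs' hx, hr]
  · by_cases hlt : x < 2 * N
    · have hc : ((2 * N - 1 - x : ℕ) : ZMod 2) = 0 := by
        have hy : ∀ z : ZMod 2, z ≠ 0 → 1 - z = 0 := by decide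
        rw [cast_reflect hlt, pr, ((ZMod.natCast_eq_natCast_iff' (2 * N - 1) 1 2).2 (by omega)).trans
          Nat.cast_one]
        exact hy _ hx
      have e1 : x ∈ univ.image γ ↔ 2 * N - 1 - x ∉ univ.image γ := by
        conv_lhs => rw [h, mem_refl2]
        exact ⟨fun hh => hh.2, fun hh => ⟨hlt, hh⟩⟩
      have e2 : x ∈ univ.image γ' ↔ 2 * N - 1 - x ∉ univ.image γ' := by
        conv_lhs => rw [h', mem_refl2]
        exact ⟨fun hh => hh.2, fun hh => ⟨hlt, hh⟩⟩
      rw [e1, e2, heven hs hc, heven hs' hc, hr]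
    · constructor <;> intro hm
      · rw [h, mem_refl2] at hm; omega
      · rw [h', mem_refl2] at hm; omega

theorem qsize_fixed_two {γ : Fin N → ℕ} (hs : StrictMono γ)
    (hγ : ∑ i, γ i = Fintype.card α + ∑ i, delta N i) (h : IsFixedConf N γ) :
    2 * qsize 2 γ 0 = weight α N 2 (resCount 2 γ) := by
  rw [← sum_flen_eq (α := α) (p := 2) (γ := γ) ⟨hs, hγ, fun _ => rfl, h⟩, qsize, Finset.mul_sum,
    Finset.sum_filter]
  exact Finset.sum_congr rfl fun i _ => (flen_eq_two γ i).symm

/-- **A configuration of height one.** -/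
theorem exists_height_one [Fact p.Prime] {γ₀ : Fin N → ℕ} (hs₀ : StrictMono γ₀)
    (hγ₀ : ∑ i, γ₀ i = Fintype.card α + ∑ i, delta N i) {w : ℕ}
    (hw : w = weight α N p (resCount p γ₀)) (hpw : p ≤ w) (h3 : p = 2 → 3 ≤ w)
    (hbig : ∀ r, w ≤ resCount p γ₀ r) :
    ∃ γ : Fin N → ℕ, StrictMono γ ∧ ∑ i, γ i = Fintype.card α + ∑ i, delta N i ∧
      (∀ r, resCount p γ r = resCount p γ₀ r) ∧
      hk p (univ.image γ) + 1 = (w + padicValNat p w.factorial : ℕ) ∧
      (p = 2 → ¬ IsFixedConf N γ) := by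
  classical
  have hp := (Fact.out : p.Prime)
  have hcpos : ∀ r, 0 < resCount p γ₀ r := fun r => lt_of_lt_of_le (by have := hp.pos; omega) (hbig r)
  have hrange : ∀ r : ZMod p, hk p (range (resCount p γ₀ r)) = 0 := fun r => hk_range _
  -- splitting off `p ^ j`
  set d := w % p with hd
  set M' := w - d with hM'
  have hdlt : d < p := Nat.mod_lt _ hp.pos
  have hM'dvd : p ∣ M' := ⟨w / p, by have := Nat.div_add_mod w p; omega⟩
  have hM'pos : 0 < M' := by omega
  obtain ⟨k, m, hm, hkm⟩ := Nat.exists_eq_pow_mul_and_not_dvd hM'pos.ne' p hp.ne_one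
  obtain ⟨j, rfl⟩ : ∃ j, k = j + 1 := by
    refine ⟨k - 1, (Nat.sub_add_cancel ?_).symm⟩
    by_contra hk0
    rw [show k = 0 by omega, pow_zero, one_mul] at hkm
    exact hm (hkm ▸ hM'dvd)
  have hdvd1 : p ^ (j + 1) ∣ M' := hkm ▸ dvd_mul_right _ _
  have hdvd2 : ¬ p ^ (j + 2) ∣ M' := fun h => hm (by
    rw [hkm, pow_succ p (j + 1)] at h
    exact (Nat.mul_dvd_mul_iff_left (pow_pos hp.pos _)).1 h)
  have hle : p ^ j ≤ M' := (Nat.pow_le_pow_right hp.pos (Nat.le_succ j)).trans (Nat.le_of_dvd hM'pos hdvd1)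
  have hvw : padicValNat p w.factorial = padicValNat p M'.factorial := by
    obtain ⟨q, hq⟩ := hM'dvd
    rw [show w = p * q + d by omega, padicValNat_factorial_mul_add _ hdlt, hq]
  have hvd : padicValNat p d.factorial = 0 := v_factorial_lt hdlt
  have hcarry := factorial_carry j M' hdvd1 hdvd2
  by_cases hp2 : p = 2
  swap
  · -- three runners
    have h01 : (0 : ZMod p) ≠ 1 := zero_ne_one
    have h02 : (0 : ZMod p) ≠ 2 := fun e => hp2 ((Nat.prime_dvd_prime_iff_eq hp Nat.prime_two).1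
      ((ZMod.natCast_eq_zero_iff 2 p).1 (by exact_mod_cast e.symm)))
    have h12 : (1 : ZMod p) ≠ 2 := fun e => h01 (by
      have : (2 : ZMod p) - 1 = 0 := by rw [← e, sub_self]
      rw [← this]; ring)
    set n : ZMod p → ℕ := fun r => if r = 0 then d else if r = 1 then p ^ j else
      if r = 2 then M' - p ^ j else 0 with hn
    have hsplit : ∀ g : ZMod p → ℕ, (∀ r, r ≠ 0 → r ≠ 1 → r ≠ 2 → g r = 0) →
        ∑ r, g r = g 0 + g 1 + g 2 := fun g hg => by
      rw [← Finset.sum_subset (subset_univ {0, 1, 2}) fun r _ hr => by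
        simp only [mem_insert, mem_singleton, not_or] at hr
        exact hg r hr.1 hr.2.1 hr.2.2, Finset.sum_insert (by simp [h01, h02]),
        Finset.sum_pair h12, add_assoc]
    obtain ⟨γ, hs, hsum, hc, hQ⟩ := exists_conf_of_runners (α := α) hs₀ hγ₀
      (fun r => rowSet (resCount p γ₀ r) (n r)) (fun r => (rowSet_spec (p := p) (hcpos r)).1) (by
        rw [Finset.sum_congr rfl fun r _ => (rowSet_spec (p := p) (hcpos r)).2.1,
          Finset.sum_add_distrib, ← hw]
        congr 1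
        rw [hsplit n fun r a b c => by simp [hn, a, b, c]]
        simp [hn, h01.symm, h02.symm, h12.symm]
        omega)
    refine ⟨γ, hs, hsum, hc, ?_, fun e => absurd e hp2⟩
    rw [hk_of_runners (α := α) hs hsum _ hQ, funext hc, ← hw,
      Finset.sum_congr rfl fun r _ => (rowSet_spec (p := p) (hcpos r)).2.2, ← Nat.cast_sum,
      hsplit _ fun r a b c => by simp [hn, a, b, c]]
    simp only [hn, if_neg h01.symm, if_neg h02.symm, if_neg h12.symm, if_pos]
    rw [hvd, hvw, hcarry]
    push_cast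
    ring
  subst hp2
  have hall : ∀ (Q₀ Q₁ : Finset ℕ) (n₀ n₁ : ℕ), Q₀.card = resCount 2 γ₀ 0 → Q₁.card = resCount 2 γ₀ 1 →
      ∑ x ∈ Q₀, x = n₀ + ∑ k ∈ range (resCount 2 γ₀ 0), k →
      ∑ x ∈ Q₁, x = n₁ + ∑ k ∈ range (resCount 2 γ₀ 1), k → n₀ + n₁ = w →
      ∃ γ : Fin N → ℕ, StrictMono γ ∧ ∑ i, γ i = Fintype.card α + ∑ i, delta N i ∧
        (∀ r, resCount 2 γ r = resCount 2 γ₀ r) ∧ runner 2 γ 0 = Q₀ ∧ runner 2 γ 1 = Q₁ ∧
        hk 2 (univ.image γ) = w + (hk 2 Q₀ + hk 2 Q₁) := by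
    intro Q₀ Q₁ n₀ n₁ c₀ c₁ s₀ s₁ hn
    have hu : (univ : Finset (ZMod 2)) = {0, 1} := by
      ext x
      simpa using zmod_two_cases x
    obtain ⟨γ, hs, hsum, hc, hQ⟩ := exists_conf_of_runners (α := α) hs₀ hγ₀
      (fun r => if r = 0 then Q₀ else Q₁) (fun r => by
        rcases zmod_two_cases r with h' | h' <;> subst h'
        · simpa using c₀
        · simpa using c₁) (by
        rw [hu, Finset.sum_pair zero_ne_one, Finset.sum_pair zero_ne_one, ← hw]
        simp [s₀, s₁]
        omega)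
    refine ⟨γ, hs, hsum, hc, by simpa using hQ 0, by simpa using hQ 1, ?_⟩
    rw [hk_of_runners (α := α) hs hsum _ hQ, funext hc, ← hw, hu, Finset.sum_pair zero_ne_one]
    simp
  rcases Nat.eq_zero_or_pos d with hd0 | hdpos
  · -- even weight: a row or a column on the second runner
    set b := M' - 2 ^ j with hb
    have hb2 : 2 ≤ b := by
      have h2 : 2 ^ (j + 1) ≤ M' := Nat.le_of_dvd hM'pos hdvd1
      rw [pow_succ] at h2
      rcases Nat.eq_zero_or_pos j with rfl | hj
      · have := h3 rfl; simp at hb ⊢; omega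
      · have : 2 ≤ 2 ^ j := Nat.le_self_pow hj.ne' 2
        omega
    have hbc : b - 1 < resCount 2 γ₀ 1 := by have := hbig 1; omega
    obtain ⟨r1, r2, r3⟩ := rowSet_spec (p := 2) (n := 2 ^ j) (hcpos 0)
    obtain ⟨q1, q2, q3⟩ := rowSet_spec (p := 2) (n := b) (hcpos 1)
    obtain ⟨γ, hs, hsum, hc, hr0, hr1, hh⟩ := hall _ _ _ _ r1 q1 r2 q2 (by omega)
    obtain ⟨γ', hs', hsum', hc', hr0', hr1', hh'⟩ := hall _ (hookSet (resCount 2 γ₀ 1) 0 (b - 1)) _ b
      r1 (card_hookSet hbc) r2 (by rw [sum_hookSet hbc]; omega) (by omega)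
    have hval : hk 2 (univ.image γ) + 1 = (w + padicValNat 2 w.factorial : ℕ) := by
      rw [hh, r3, q3, hvw, hcarry]
      push_cast
      ring
    have hval' : hk 2 (univ.image γ') + 1 = (w + padicValNat 2 w.factorial : ℕ) := by
      rw [hh', r3, hookSet, hk_hook hbc, hvw, hcarry, Nat.factorial_zero, padicValNat_one_right,
        zero_add]
      conv_rhs => rw [show b = (b - 1) + 1 by omega, Nat.factorial_succ,
        padicValNat.mul (Nat.succ_ne_zero _) (Nat.factorial_ne_zero _)]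
      push_cast
      ring
    by_cases hf : IsFixedConf N γ
    · refine ⟨γ', hs', hsum', hc', hval', fun _ hf' => ?_⟩
      have he := eq_of_fixed_two hs hs' hf hf' (hr0.trans hr0'.symm)
      rw [he, hr1'] at hr1
      have hmem : resCount 2 γ₀ 1 + (b - 1) ∈ rowSet (resCount 2 γ₀ 1) b := by
        rw [rowSet, if_neg (by omega), hookSet]; exact mem_insert_self _ _
      rw [← hr1, hookSet, mem_insert, mem_erase, mem_range] at hmem
      omega
    · exact ⟨γ, hs, hsum, hc, hval, fun _ => hf⟩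
  · -- odd weight
    have hd1 : d = 1 := by omega
    set t := 2 ^ (j + 1) with ht
    have hsp := factorial_split (p := 2) (j + 1) M' hdvd1 hdvd2
    have hc2 := factorial_carry (p := 2) j t (dvd_refl _) fun h => by
      have := Nat.le_of_dvd (pow_pos two_pos _) h
      rw [pow_succ 2 (j + 1)] at this
      have := pow_pos (show 0 < 2 by norm_num) j
      omega
    have hthalf : t - 2 ^ j = 2 ^ j := by rw [ht, pow_succ]; omega
    have hic : 2 ^ j < resCount 2 γ₀ 1 := by
      have := hbig 1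
      have h2 : t ≤ M' := Nat.le_of_dvd hM'pos hdvd1
      omega
    obtain ⟨r1, r2, r3⟩ := rowSet_spec (p := 2) (n := M' - t) (hcpos 0)
    obtain ⟨γ, hs, hsum, hc, -, -, hh⟩ := hall _ (hookSet (resCount 2 γ₀ 1) (2 ^ j) (2 ^ j)) _ (t + 1)
      r1 (card_hookSet hic) r2 (by
        rw [sum_hookSet hic]
        have : t = 2 ^ j + 2 ^ j := by omega
        omega) (by have : t ≤ M' := Nat.le_of_dvd hM'pos hdvd1; omega)
    refine ⟨γ, hs, hsum, hc, ?_, fun _ hf => ?_⟩
    · rw [hh, r3, hookSet, hk_hook hic, hvw, hsp, hc2, hthalf,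
        show 2 ^ j + 2 ^ j + 1 = t + 1 by omega,
        padicValNat.eq_zero_of_not_dvd (n := t + 1) (by rw [ht, pow_succ]; omega)]
      push_cast
      ring
    · have := qsize_fixed_two (α := α) hs hsum hf
      rw [funext hc, ← hw] at this
      omega

end Cfsg.Lib.SymBlocks
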