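import Cfsg.Agent.SymBlocks.Count
import Cfsg.Agent.Chars.Count

/-!
# The `p`-part of the degree of `psi γ`

The valuation of the hook product splits over the classes modulo `p`: it is the weight plus the
valuations of the hook products of the quotients.
-/

set_option autoImplicit false
set_option linter.unusedSectionVars false

namespace Cfsg.Lib.SymBlocks

open Finset

variable {N p : ℕ}

/-- The valuation of the hook product of a set of exponents. -/
noncomputable def hk (p : ℕ) (Q : Finset ℕ) : ℤ :=
  ∑ x ∈ Q, (padicValNat p x.factorial : ℤ) -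
    ∑ x ∈ Q, ∑ y ∈ Q.filter (· < x), (padicValNat p (x - y) : ℤ)

variable {α : Type*} [Fintype α] [DecidableEq α]

theorem deg_psi {γ : Fin N → ℕ} (hs : StrictMono γ)
    (hγ : ∑ i, γ i = Fintype.card α + ∑ i, delta N i) :
    (Cfsg.Lib.Chars.deg (psi (α := α) γ) : ℤ) = psiZ γ (1 : Equiv.Perm α) := by
  have h1 := Cfsg.Lib.Chars.irr_apply_one_eq_deg
    (⟨_, isIrr_psi hs hγ⟩ : Cfsg.IrrCharacter (Equiv.Perm α))
  simp only [psi] at h1
  exact_mod_cast h1.symm

theorem deg_mul_prod {γ : Fin N → ℕ} (hs : StrictMono γ)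
    (hγ : ∑ i, γ i = Fintype.card α + ∑ i, delta N i) :
    Cfsg.Lib.Chars.deg (psi (α := α) γ) * ∏ i, (γ i).factorial =
      (Fintype.card α).factorial * ∏ i, ∏ j ∈ Finset.Ioi i, (γ j - γ i) := by
  apply Nat.cast_injective (R := ℚ)
  have h2 : ((Cfsg.Lib.Chars.deg (psi (α := α) γ) : ℕ) : ℚ) = (psiZ γ (1 : Equiv.Perm α) : ℚ) := by
    rw [← deg_psi hs hγ]; rfl
  have h3 : (∏ i, ((γ i).factorial : ℚ)) ≠ 0 :=
    Finset.prod_ne_zero_iff.2 fun i _ => Nat.cast_ne_zero.2 (Nat.factorial_ne_zero _)
  rw [Nat.cast_mul, Nat.cast_mul, Nat.cast_prod, Nat.cast_prod, h2, psiZ_one hγ, dv_eq,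
    Matrix.det_vandermonde, Finset.prod_inv_distrib]
  rw [Finset.prod_congr rfl (g := fun i => ∏ j ∈ Finset.Ioi i, (((γ j - γ i : ℕ) : ℕ) : ℚ))
    fun i _ => Finset.prod_congr rfl fun j hj => by
      rw [Nat.cast_sub (hs (mem_Ioi.1 hj)).le]]
  field_simp
  simp only [Nat.cast_prod]

theorem deg_valuation [Fact p.Prime] {γ : Fin N → ℕ} (hs : StrictMono γ)
    (hγ : ∑ i, γ i = Fintype.card α + ∑ i, delta N i) :
    (padicValNat p (Cfsg.Lib.Chars.deg (psi (α := α) γ)) : ℤ) + hk p (univ.image γ) =
      padicValNat p (Fintype.card α).factorial := by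
  have hd : Cfsg.Lib.Chars.deg (psi (α := α) γ) ≠ 0 := by
    have h1 := deg_psi (α := α) hs hγ
    have h2 := psiZ_one_pos (α := α) hs hγ
    omega
  have hne : ∀ i : Fin N, ∀ j ∈ Finset.Ioi i, γ j - γ i ≠ 0 := fun i j hj => by
    have := hs (mem_Ioi.1 hj); omega
  have key := congrArg (fun n : ℕ => (padicValNat p n : ℤ)) (deg_mul_prod (α := α) hs hγ)
  rw [padicValNat.mul hd (Finset.prod_ne_zero_iff.2 fun i _ => Nat.factorial_ne_zero _),
    padicValNat.mul (Nat.factorial_ne_zero _) (Finset.prod_ne_zero_iff.2 fun i _ =>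
      Finset.prod_ne_zero_iff.2 (hne i))] at key
  have hprod : ∀ {ι : Type} [DecidableEq ι] (s : Finset ι) (f : ι → ℕ), (∀ i ∈ s, f i ≠ 0) →
      (padicValNat p (∏ i ∈ s, f i) : ℤ) = ∑ i ∈ s, (padicValNat p (f i) : ℤ) := by
    intro ι _ s f hf
    induction s using Finset.induction_on with
    | empty => simp
    | insert a s ha ih =>
      rw [prod_insert ha, sum_insert ha, padicValNat.mul (hf a (mem_insert_self _ _))
        (Finset.prod_ne_zero_iff.2 fun i hi => hf i (mem_insert_of_mem hi)), Nat.cast_add,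
        ih fun i hi => hf i (mem_insert_of_mem hi)]
  rw [Nat.cast_add, Nat.cast_add] at key
  rw [hprod _ _ fun i _ => Nat.factorial_ne_zero _,
    hprod _ _ fun i _ => Finset.prod_ne_zero_iff.2 (hne i),
    Finset.sum_congr rfl fun i _ => hprod _ _ (hne i)] at key
  rw [hk, Finset.sum_image hs.injective.injOn, Finset.sum_image hs.injective.injOn]
  have hswap : ∑ i, ∑ j ∈ Finset.Ioi i, (padicValNat p (γ j - γ i) : ℤ) =
      ∑ j, ∑ y ∈ (univ.image γ).filter (· < γ j), (padicValNat p (γ j - y) : ℤ) := by
    rw [Finset.sum_comm' (t' := univ) (s' := fun j : Fin N => Finset.Iio j) (by simp)]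
    refine Finset.sum_congr rfl fun j _ => ?_
    rw [Finset.filter_image, Finset.sum_image hs.injective.injOn]
    refine Finset.sum_congr ?_ fun i _ => rfl
    ext i
    simp [hs.lt_iff_lt]
  rw [hswap] at key
  linarith

theorem hk_bounds [Fact p.Prime] {Q : Finset ℕ} {n : ℕ}
    (hsum : ∑ x ∈ Q, x = n + ∑ i ∈ range Q.card, i) :
    0 ≤ hk p Q ∧ hk p Q ≤ padicValNat p n.factorial := by
  set γ : Fin Q.card → ℕ := fun i => Q.orderEmbOfFin rfl i
  have hs : StrictMono γ := fun a b h => (Q.orderEmbOfFin rfl).strictMono h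
  have himg : univ.image γ = Q := Finset.image_orderEmbOfFin_univ Q rfl
  have hγ : ∑ i, γ i = Fintype.card (Fin n) + ∑ i, delta Q.card i := by
    rw [← Finset.sum_image hs.injective.injOn (f := fun x => x), himg, hsum, Fintype.card_fin,
      ← Fin.sum_univ_eq_sum_range]
    rfl
  have h1 := deg_valuation (α := Fin n) (p := p) hs hγ
  rw [himg, Fintype.card_fin] at h1
  have h2 : padicValNat p (Cfsg.Lib.Chars.deg (psi (α := Fin n) γ)) ≤ padicValNat p n.factorial := by
    have hd := Cfsg.Lib.Chars.IsIrrCharacter.deg_dvd (isIrr_psi (α := Fin n) hs hγ)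
    rw [Nat.card_perm, Nat.card_fin] at hd
    refine (padicValNat_dvd_iff_le (Nat.factorial_ne_zero n)).1 ?_
    exact pow_padicValNat_dvd.trans hd
  omega

theorem hk_range [Fact p.Prime] (c : ℕ) : hk p (range c) = 0 := by
  have := hk_bounds (p := p) (Q := range c) (n := 0) (by simp)
  simp only [Nat.factorial_zero, padicValNat_one_right, Nat.cast_zero] at this
  omega

theorem hk_two {Q : Finset ℕ} (hsum : ∑ x ∈ Q, x = 2 + ∑ i ∈ range Q.card, i) :
    hk 2 Q = 1 := by
  set γ : Fin Q.card → ℕ := fun i => Q.orderEmbOfFin rfl i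
  have hs : StrictMono γ := fun a b h => (Q.orderEmbOfFin rfl).strictMono h
  have himg : univ.image γ = Q := Finset.image_orderEmbOfFin_univ Q rfl
  have hγ : ∑ i, γ i = Fintype.card (Fin 2) + ∑ i, delta Q.card i := by
    rw [← Finset.sum_image hs.injective.injOn (f := fun x => x), himg, hsum, Fintype.card_fin,
      ← Fin.sum_univ_eq_sum_range]
    rfl
  have h1 := deg_valuation (α := Fin 2) (p := 2) hs hγ
  have h2 := Cfsg.Lib.Chars.deg_sq_le (⟨_, isIrr_psi (α := Fin 2) hs hγ⟩ :
    Cfsg.IrrCharacter (Equiv.Perm (Fin 2)))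
  rw [Nat.card_perm, Nat.card_fin] at h2
  simp only [Nat.factorial_two] at h2
  have h3 : Cfsg.Lib.Chars.deg (psi (α := Fin 2) γ) < 2 := by
    by_contra h
    have := Nat.pow_le_pow_left (not_lt.1 h) 2
    omega
  rw [himg, Fintype.card_fin, Nat.factorial_two] at h1
  have h4 : padicValNat 2 (Cfsg.Lib.Chars.deg (psi (α := Fin 2) γ)) = 0 :=
    padicValNat.eq_zero_of_not_dvd fun hdvd => by
      have hd := deg_psi (α := Fin 2) hs hγ
      have hpos := psiZ_one_pos (α := Fin 2) hs hγ
      obtain ⟨k, hk⟩ := hdvd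
      omega
  rw [h4] at h1
  simpa using h1

/-- A set with one exponent moved: the hook partition. -/
theorem hk_hook [Fact p.Prime] {c a i : ℕ} (hi : i < c) :
    hk p (insert (c + a) ((range c).erase (c - 1 - i))) =
      padicValNat p a.factorial + padicValNat p i.factorial + padicValNat p (a + i + 1) := by
  set x := c - 1 - i with hx
  set y := c + a with hy
  have hxc : x < c := by omega
  have hynot : y ∉ (range c).erase x := by simp; omega
  have hr := hk_range (p := p) c
  rw [hk, ← Finset.add_sum_erase _ _ (mem_range.2 hxc)] at hr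
  have hfilt : ∀ z ∈ (range c).erase x,
      (insert y ((range c).erase x)).filter (· < z) = ((range c).filter (· < z)).erase x := by
    intro z hz
    simp only [mem_erase, mem_range] at hz
    ext w
    simp only [mem_filter, mem_insert, mem_erase, mem_range]
    constructor
    · rintro ⟨rfl | ⟨h1, h2⟩, h3⟩
      · omega
      · exact ⟨h1, h2, h3⟩
    · rintro ⟨h1, h2, h3⟩
      exact ⟨Or.inr ⟨h1, h2⟩, h3⟩
  have hfy : (insert y ((range c).erase x)).filter (· < y) = (range c).erase x := by
    ext w
    simp only [mem_filter, mem_insert, mem_erase, mem_range]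
    constructor
    · rintro ⟨rfl | h, h3⟩
      · omega
      · exact h
    · intro h
      exact ⟨Or.inr h, by omega⟩
  rw [← Finset.add_sum_erase _ _ (mem_range.2 hxc)] at hr
  -- the pairs through `x`
  have hsplit : ∀ z ∈ (range c).erase x, ∑ w ∈ (range c).filter (· < z), (padicValNat p (z - w) : ℤ) =
      (if x < z then (padicValNat p (z - x) : ℤ) else 0) +
        ∑ w ∈ ((range c).filter (· < z)).erase x, (padicValNat p (z - w) : ℤ) := by
    intro z hz
    by_cases h : x < z
    · rw [if_pos h]
      exact (Finset.add_sum_erase ((range c).filter (· < z))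
        (fun w => (padicValNat p (z - w) : ℤ)) (mem_filter.2 ⟨mem_range.2 hxc, h⟩)).symm
    · rw [if_neg h, zero_add, Finset.erase_eq_of_notMem (by simp [h])]
  rw [Finset.sum_congr rfl hsplit, Finset.sum_add_distrib] at hr
  have hfac : ∀ m : ℕ, (padicValNat p m.factorial : ℤ) =
      ∑ k ∈ range m, (padicValNat p (m - k) : ℤ) := by
    intro m
    induction m with
    | zero => simp
    | succ m ih =>
      rw [Nat.factorial_succ, padicValNat.mul (Nat.succ_ne_zero m) (Nat.factorial_ne_zero m),
        Finset.sum_range_succ', Nat.cast_add, ih]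
      simp only [Nat.add_sub_add_right, Nat.sub_zero]
      ring
  have hlow : ∑ w ∈ (range c).filter (· < x), (padicValNat p (x - w) : ℤ) =
      padicValNat p x.factorial := by
    rw [hfac]
    refine Finset.sum_congr ?_ fun w _ => rfl
    ext w; simp only [mem_filter, mem_range]; omega
  have hhigh : ∑ z ∈ (range c).erase x, (if x < z then (padicValNat p (z - x) : ℤ) else 0) =
      padicValNat p i.factorial := by
    rw [← Finset.sum_filter, hfac]
    refine Finset.sum_nbij' (fun z => c - 1 - z) (fun k => c - 1 - k) ?_ ?_ ?_ ?_ ?_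
    all_goals intro z hz; simp only [mem_coe, mem_filter, mem_erase, mem_range] at hz ⊢
    any_goals omega
    exact congrArg (fun m => (padicValNat p m : ℤ)) (by omega)
  have htop : ∑ w ∈ (range c).erase x, (padicValNat p (y - w) : ℤ) + padicValNat p (y - x) +
      padicValNat p a.factorial = padicValNat p y.factorial := by
    rw [add_comm (∑ w ∈ (range c).erase x, _) (_ : ℤ),
      Finset.add_sum_erase _ (fun w => (padicValNat p (y - w) : ℤ)) (mem_range.2 hxc), hfac a, hfac y,
      hy, Finset.sum_range_add]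
    refine congrArg _ (Finset.sum_congr rfl fun k _ => ?_)
    rw [show c + a - (c + k) = a - k by omega]
  rw [hlow, hhigh] at hr
  rw [hk, sum_insert hynot, sum_insert hynot, hfy,
    Finset.sum_congr (s₁ := (range c).erase x) rfl (f := fun z => ∑ w ∈
        (insert y ((range c).erase x)).filter (· < z), (padicValNat p (z - w) : ℤ))
      (g := fun z => ∑ w ∈ ((range c).filter (· < z)).erase x, (padicValNat p (z - w) : ℤ))
      fun z hz => by rw [hfilt z hz]]
  rw [show a + i + 1 = y - x by omega]
  linarith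

/-- The runner of a class. -/
def runner (p : ℕ) (γ : Fin N → ℕ) (r : ZMod p) : Finset ℕ :=
  (univ.filter fun i => (γ i : ZMod p) = r).image fun i => γ i / p

/-- The size of the quotient at a class. -/
def qsize (p : ℕ) (γ : Fin N → ℕ) (r : ZMod p) : ℕ :=
  ∑ i ∈ univ.filter (fun i => (γ i : ZMod p) = r), excess p γ i

theorem runner_injOn [NeZero p] {γ : Fin N → ℕ} (hs : StrictMono γ) (r : ZMod p) :
    Set.InjOn (fun i => γ i / p) ↑(univ.filter fun i => (γ i : ZMod p) = r) := by
  intro a ha b hb he
  rw [Finset.mem_coe, mem_filter] at ha hb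
  simp only at he
  refine hs.injective ?_
  have h1 := eq_val_add_mul (p := p) (γ a)
  have h2 := eq_val_add_mul (p := p) (γ b)
  rw [ha.2] at h1
  rw [hb.2, ← he] at h2
  omega

theorem card_runner [NeZero p] {γ : Fin N → ℕ} (hs : StrictMono γ) (r : ZMod p) :
    (runner p γ r).card = resCount p γ r :=
  Finset.card_image_of_injOn (runner_injOn hs r)

theorem sum_runner [NeZero p] {γ : Fin N → ℕ} (hs : StrictMono γ) (r : ZMod p) :
    ∑ x ∈ runner p γ r, x = qsize p γ r + ∑ k ∈ range (runner p γ r).card, k := by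
  rw [card_runner hs, runner, Finset.sum_image (runner_injOn hs r), qsize]
  have hrk : ∑ i ∈ univ.filter (fun i => (γ i : ZMod p) = r), rk p γ i =
      ∑ k ∈ range (resCount p γ r), k := by
    refine Finset.sum_nbij (fun i => rk p γ i) ?_ ?_ ?_ ?_
    · intro i hi
      rw [mem_range, ← (mem_filter.1 hi).2]
      exact rk_lt_resCount γ i
    · intro a ha b hb he
      rw [Finset.mem_coe, mem_filter] at ha hb
      rcases lt_trichotomy a b with h | h | h
      · exact absurd he (rk_lt_rk h (ha.2.trans hb.2.symm)).ne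
      · exact h
      · exact absurd he (rk_lt_rk h (hb.2.trans ha.2.symm)).ne'
    · intro k hk
      obtain ⟨i, hr, hik⟩ := exists_rk (γ := γ) r (mem_range.1 hk)
      exact ⟨i, mem_filter.2 ⟨mem_univ _, hr⟩, hik⟩
    · intro i _; rfl
  rw [← hrk, ← Finset.sum_add_distrib]
  refine Finset.sum_congr rfl fun i _ => ?_
  have := rk_le_quot (p := p) hs i
  rw [excess]
  omega

theorem sum_qsize [NeZero p] (γ : Fin N → ℕ) : ∑ r, qsize p γ r = ∑ i, excess p γ i :=
  Finset.sum_fiberwise univ (fun i => (γ i : ZMod p)) (excess p γ)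

/-- **The hook product splits over the classes.** -/
theorem hk_eq_runners [Fact p.Prime] {γ : Fin N → ℕ} (hs : StrictMono γ) :
    hk p (univ.image γ) =
      (∑ i, excess p γ i : ℕ) + ∑ r : ZMod p, hk p (runner p γ r) := by
  have hp := (Fact.out : p.Prime)
  have hv : ∀ i, (padicValNat p (γ i).factorial : ℤ) =
      (γ i / p : ℕ) + padicValNat p (γ i / p).factorial := fun i => by
    conv_lhs => rw [← Nat.div_add_mod (γ i) p]
    rw [padicValNat_factorial_mul_add _ (Nat.mod_lt _ hp.pos), padicValNat_factorial_mul]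
    push_cast
    ring
  have hpair : ∀ i k, γ k < γ i → (padicValNat p (γ i - γ k) : ℤ) =
      if (γ k : ZMod p) = γ i then 1 + (padicValNat p (γ i / p - γ k / p) : ℤ) else 0 := by
    intro i k hlt
    split_ifs with h
    · have hlt' := quot_lt (p := p) hs (hs.lt_iff_lt.1 hlt) h
      have h1 := eq_val_add_mul (p := p) (γ i)
      have h2 := eq_val_add_mul (p := p) (γ k)
      rw [h] at h2
      have h3 : γ i - γ k = p * (γ i / p - γ k / p) := by rw [Nat.mul_sub]; omega
      rw [h3, padicValNat.mul hp.ne_zero (by omega), padicValNat_self]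
      push_cast
      ring
    · rw [padicValNat.eq_zero_of_not_dvd, Nat.cast_zero]
      rintro hd
      refine h ?_
      rw [← ZMod.natCast_eq_zero_iff, Nat.cast_sub hlt.le, sub_eq_zero] at hd
      exact hd.symm
  have hrun : ∀ r, hk p (runner p γ r) = ∑ i ∈ univ.filter (fun i => (γ i : ZMod p) = r),
      ((padicValNat p (γ i / p).factorial : ℤ) -
        ∑ k ∈ univ.filter (fun k => k < i ∧ (γ k : ZMod p) = γ i),
          (padicValNat p (γ i / p - γ k / p) : ℤ)) := by
    intro r
    rw [hk, runner, Finset.sum_image (runner_injOn hs r), Finset.sum_image (runner_injOn hs r),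
      ← Finset.sum_sub_distrib]
    refine Finset.sum_congr rfl fun i hi => ?_
    rw [Finset.filter_image, Finset.sum_image ((runner_injOn hs r).mono (by
      intro k hk; exact (Finset.mem_coe.2 (mem_filter.1 hk).1)))]
    congr 1
    refine Finset.sum_congr ?_ fun k _ => rfl
    ext k
    simp only [mem_filter, mem_univ, true_and] at hi ⊢
    constructor
    · rintro ⟨hk, hlt⟩
      refine ⟨?_, hk.trans hi.symm⟩
      by_contra hc
      have := Nat.div_le_div_right (c := p) (hs.monotone (not_lt.1 hc))
      omega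
    · rintro ⟨hlt, hk⟩
      exact ⟨hk.trans hi, quot_lt hs hlt hk⟩
  rw [Finset.sum_congr rfl fun r _ => hrun r, Finset.sum_fiberwise univ (fun i => (γ i : ZMod p)),
    hk, Finset.sum_image hs.injective.injOn, Finset.sum_image hs.injective.injOn, Nat.cast_sum,
    ← Finset.sum_sub_distrib, ← Finset.sum_add_distrib]
  refine Finset.sum_congr rfl fun i _ => ?_
  rw [Finset.filter_image, Finset.sum_image hs.injective.injOn, hv,
    Finset.sum_congr rfl fun k hk => hpair i k (mem_filter.1 hk).2, ← Finset.sum_filter,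
    Finset.filter_filter, Finset.sum_add_distrib, Finset.sum_const, nsmul_eq_mul, mul_one]
  rw [show (univ.filter fun k => γ k < γ i ∧ (γ k : ZMod p) = γ i) =
      univ.filter fun k => k < i ∧ (γ k : ZMod p) = γ i from
    Finset.filter_congr fun k _ => by rw [hs.lt_iff_lt]]
  have := rk_le_quot (p := p) hs i
  rw [excess, Nat.cast_sub this, rk]
  ring

theorem hk_runner_bounds [Fact p.Prime] {γ : Fin N → ℕ} (hs : StrictMono γ) (r : ZMod p) :
    0 ≤ hk p (runner p γ r) ∧ hk p (runner p γ r) ≤ padicValNat p (qsize p γ r).factorial :=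
  hk_bounds (sum_runner hs r)

theorem hk_image_le [Fact p.Prime] {γ : Fin N → ℕ} (hs : StrictMono γ)
    (hγ : ∑ i, γ i = Fintype.card α + ∑ i, delta N i) :
    (weight α N p (resCount p γ) : ℤ) ≤ hk p (univ.image γ) ∧
      hk p (univ.image γ) ≤ (weight α N p (resCount p γ) +
        padicValNat p (weight α N p (resCount p γ)).factorial : ℕ) := by
  rw [hk_eq_runners hs, sum_excess_eq_weight (α := α) hs hγ]
  refine ⟨?_, ?_⟩
  · have := Finset.sum_nonneg fun r (_ : r ∈ (univ : Finset (ZMod p))) => (hk_runner_bounds hs r).1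
    omega
  · have h1 := Finset.sum_le_sum fun r (_ : r ∈ (univ : Finset (ZMod p))) => (hk_runner_bounds hs r).2
    have h2 : ∑ r : ZMod p, padicValNat p (qsize p γ r).factorial ≤
        padicValNat p (weight α N p (resCount p γ)).factorial := by
      have hd := Nat.prod_factorial_dvd_factorial_sum univ (qsize p γ)
      rw [sum_qsize, sum_excess_eq_weight (α := α) hs hγ] at hd
      have h3 : padicValNat p (∏ r : ZMod p, (qsize p γ r).factorial) =
          ∑ r : ZMod p, padicValNat p (qsize p γ r).factorial := by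
        rw [← Finset.prod_map_val, ← Finset.sum_map_val]
        induction (univ : Finset (ZMod p)).val using Multiset.induction_on with
        | empty => simp
        | cons a s ih =>
          rw [Multiset.map_cons, Multiset.map_cons, Multiset.prod_cons, Multiset.sum_cons,
            padicValNat.mul (Nat.factorial_ne_zero _) (Multiset.prod_ne_zero (by
              simp [Nat.factorial_ne_zero])), ih]
      rw [← h3]
      exact (padicValNat_dvd_iff_le (Nat.factorial_ne_zero _)).1 (pow_padicValNat_dvd.trans hd)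
    rw [← Nat.cast_sum] at h1
    omega

theorem v_factorial_lt [Fact p.Prime] {n : ℕ} (h : n < p) : padicValNat p n.factorial = 0 :=
  padicValNat.eq_zero_of_not_dvd fun hd => by
    rw [(Fact.out : p.Prime).dvd_factorial] at hd
    omega

theorem factorial_split [Fact p.Prime] : ∀ (j M : ℕ), p ^ j ∣ M → ¬ p ^ (j + 1) ∣ M →
    padicValNat p M.factorial = padicValNat p (M - p ^ j).factorial + padicValNat p (p ^ j).factorial := by
  have hp := (Fact.out : p.Prime)
  intro j
  induction j with
  | zero =>
    intro M _ h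
    rw [zero_add, pow_one] at h
    obtain ⟨k, rfl⟩ : ∃ k, M = k + 1 := ⟨M - 1, by
      rcases Nat.eq_zero_or_pos M with rfl | hM
      · exact absurd (dvd_zero p) h
      · omega⟩
    rw [Nat.factorial_succ, padicValNat.mul (Nat.succ_ne_zero k) (Nat.factorial_ne_zero k),
      padicValNat.eq_zero_of_not_dvd h]
    simp
  | succ j ih =>
    intro M h1 h2
    obtain ⟨M', rfl⟩ : p ∣ M := dvd_trans (dvd_pow_self p (Nat.succ_ne_zero j)) h1
    rw [pow_succ' p j, Nat.mul_dvd_mul_iff_left hp.pos] at h1
    rw [pow_succ' p (j + 1), Nat.mul_dvd_mul_iff_left hp.pos] at h2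
    have hle : p ^ j ≤ M' := Nat.le_of_dvd (Nat.pos_of_ne_zero fun e => h2 (e ▸ dvd_zero _)) h1
    rw [pow_succ' p j, ← Nat.mul_sub, padicValNat_factorial_mul, padicValNat_factorial_mul,
      padicValNat_factorial_mul, ih M' h1 h2]
    omega

theorem factorial_carry [Fact p.Prime] : ∀ (j M : ℕ), p ^ (j + 1) ∣ M → ¬ p ^ (j + 2) ∣ M →
    padicValNat p M.factorial =
      padicValNat p (M - p ^ j).factorial + padicValNat p (p ^ j).factorial + 1 := by
  have hp := (Fact.out : p.Prime)
  intro j
  induction j with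
  | zero =>
    intro M h1 h2
    obtain ⟨k, rfl⟩ : ∃ k, M = k + 1 := ⟨M - 1, by
      rcases Nat.eq_zero_or_pos M with rfl | hM
      · exact absurd (dvd_zero _) h2
      · omega⟩
    rw [zero_add, pow_one] at h1
    have hv : padicValNat p (k + 1) = 1 := by
      obtain ⟨q, hq⟩ := h1
      rw [hq, padicValNat.mul hp.ne_zero (by rintro rfl; simp at hq), padicValNat_self,
        padicValNat.eq_zero_of_not_dvd fun hd => h2 (by rw [hq, pow_two]; exact mul_dvd_mul_left p hd)]
    rw [pow_zero, Nat.add_sub_cancel, Nat.factorial_succ,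
      padicValNat.mul (Nat.succ_ne_zero k) (Nat.factorial_ne_zero k), hv, Nat.factorial_one]
    simp [add_comm]
  | succ j ih =>
    intro M h1 h2
    obtain ⟨M', rfl⟩ : p ∣ M := dvd_trans (dvd_pow_self p (Nat.succ_ne_zero _)) h1
    rw [pow_succ' p (j + 1), Nat.mul_dvd_mul_iff_left hp.pos] at h1
    rw [pow_succ' p (j + 2), Nat.mul_dvd_mul_iff_left hp.pos] at h2
    have hle : p ^ j ≤ M' := (Nat.pow_le_pow_right hp.pos (Nat.le_succ j)).trans
      (Nat.le_of_dvd (Nat.pos_of_ne_zero fun e => h2 (e ▸ dvd_zero _)) h1)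
    rw [pow_succ' p j, ← Nat.mul_sub, padicValNat_factorial_mul, padicValNat_factorial_mul,
      padicValNat_factorial_mul, ih M' h1 h2]
    omega

end Cfsg.Lib.SymBlocks
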