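import Cfsg.Agent.SymBlocks.Wreath

/-!
# Sylow subgroups of symmetric groups as wreath subgroups
-/

set_option autoImplicit false
set_option linter.unusedSectionVars false
set_option linter.style.haveILetI false

namespace Cfsg.Lib.SymBlocks

open Finset Cfsg.Lib.Chars

variable {w p : ℕ}

/-- The valuation of `(p * w)!`. -/
theorem factorization_perm_prod [Fact p.Prime] :
    (Nat.card (Equiv.Perm (Fin w × ZMod p))).factorization p = w + w.factorial.factorization p := by
  rw [Nat.card_perm, Nat.card_prod, Nat.card_fin, Nat.card_zmod, mul_comm w p,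
    Nat.factorization_def _ (Fact.out : p.Prime), Nat.factorization_def _ (Fact.out : p.Prime),
    padicValNat_factorial_mul, add_comm]

theorem card_wreath_sylow [Fact p.Prime] (S : Sylow p (Equiv.Perm (Fin w))) :
    Nat.card (wreath p (S : Subgroup (Equiv.Perm (Fin w)))) =
      p ^ (Nat.card (Equiv.Perm (Fin w × ZMod p))).factorization p := by
  rw [card_wreath, S.card_eq_multiplicity, factorization_perm_prod, pow_add, Nat.card_perm,
    Nat.card_fin]

theorem exists_moved [Fact p.Prime] (S : Sylow p (Equiv.Perm (Fin w))) (hw : p ≤ w) :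
    ∃ τ ∈ (S : Subgroup (Equiv.Perm (Fin w))), ∃ a, τ a ≠ a := by
  have hp := (Fact.out : p.Prime)
  have hne : (S : Subgroup (Equiv.Perm (Fin w))) ≠ ⊥ := by
    intro h
    have h1 := S.card_eq_multiplicity
    rw [h, Subgroup.card_bot, Nat.card_perm, Nat.card_fin] at h1
    have h2 : 0 < w.factorial.factorization p :=
      hp.factorization_pos_of_dvd (Nat.factorial_ne_zero w) (hp.dvd_factorial.2 hw)
    have := Nat.one_lt_pow h2.ne' hp.one_lt
    omega
  obtain ⟨⟨τ, hτ⟩, hx⟩ := Subgroup.ne_bot_iff_exists_ne_one.1 hne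
  have hτ1 : τ ≠ 1 := fun e => hx (Subtype.ext e)
  refine ⟨τ, hτ, ?_⟩
  by_contra h
  push Not at h
  exact hτ1 (Equiv.ext h)

/-- **A character of degree `p` on the wreath Sylow subgroup.** -/
theorem exists_deg_p_wreath [Fact p.Prime] (S : Sylow p (Equiv.Perm (Fin w))) (hw : p ≤ w) :
    ∃ φ : Cfsg.IrrCharacter (wreath p (S : Subgroup (Equiv.Perm (Fin w)))),
      Cfsg.charDegree (φ : (wreath p (S : Subgroup (Equiv.Perm (Fin w)))) → ℂ) = p := by
  obtain ⟨τ, hτ, a, ha⟩ := exists_moved S hw
  refine exists_deg_p_of_sub (a := a) (b := a) S.2 hτ ha _ le_rfl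
    (fun σ hσ => wr_mem_wreath hσ 0) (Pi.single a 1) (wr_mem_wreath (one_mem _) _)
    ⟨Pi.single_eq_same a 1, fun i hi _ => Pi.single_eq_of_ne hi 1, fun h => absurd rfl h⟩

theorem sign_wr_translation (v : Fin w → ZMod 2) :
    Equiv.Perm.sign (wr v 1) = ∏ i, if v i = 0 then 1 else -1 := by
  rw [show wr v (1 : Equiv.Perm (Fin w)) = Equiv.prodCongrRight fun i => Equiv.addRight (v i) from
    Equiv.ext fun x => by rcases x with ⟨i, b⟩; simp [wr_apply], Equiv.Perm.sign_prodCongrRight]
  refine Finset.prod_congr rfl fun i _ => ?_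
  have h : ∀ z : ZMod 2, Equiv.Perm.sign (Equiv.addRight z) = if z = 0 then 1 else -1 := by decide
  exact h (v i)

theorem sign_wr_block (σ : Equiv.Perm (Fin w)) :
    Equiv.Perm.sign (wr (0 : Fin w → ZMod 2) σ) = 1 := by
  rw [show wr (0 : Fin w → ZMod 2) σ = Equiv.prodCongrLeft fun _ => σ from
    Equiv.ext fun x => by rcases x with ⟨i, b⟩; simp [wr_apply], Equiv.Perm.sign_prodCongrLeft, Finset.prod_const,
    Finset.card_univ, ZMod.card, Int.units_sq]

/-- The even part of a wreath subgroup at the prime two. -/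
def evenWreath (S : Subgroup (Equiv.Perm (Fin w))) : Subgroup (Equiv.Perm (Fin w × ZMod 2)) :=
  wreath 2 S ⊓ alternatingGroup (Fin w × ZMod 2)

theorem block_mem_evenWreath {S : Subgroup (Equiv.Perm (Fin w))} {σ : Equiv.Perm (Fin w)}
    (hσ : σ ∈ S) : wr (0 : Fin w → ZMod 2) σ ∈ evenWreath S :=
  ⟨wr_mem_wreath hσ 0, Equiv.Perm.mem_alternatingGroup.2 (sign_wr_block σ)⟩

/-- **A character of degree two on the even wreath Sylow subgroup.** -/
theorem exists_deg_two_even (S : Sylow 2 (Equiv.Perm (Fin w))) (hw : 3 ≤ w) :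
    ∃ φ : Cfsg.IrrCharacter (evenWreath (S : Subgroup (Equiv.Perm (Fin w)))),
      Cfsg.charDegree (φ : (evenWreath (S : Subgroup (Equiv.Perm (Fin w)))) → ℂ) = 2 := by
  classical
  obtain ⟨τ, hτ, a, ha⟩ := exists_moved S (by omega)
  rcases Nat.even_or_odd w with ⟨u, rfl⟩ | hodd
  · -- the quotient by the base group is a smaller Sylow subgroup
    obtain ⟨S' : Sylow 2 (Equiv.Perm (Fin u))⟩ := (inferInstance : Nonempty (Sylow 2 (Equiv.Perm (Fin u))))
    let e : Fin u × ZMod 2 ≃ Fin (u + u) := Fintype.equivOfCardEq (by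
      rw [Fintype.card_prod, Fintype.card_fin, ZMod.card, Fintype.card_fin]; omega)
    obtain ⟨φ, hφ⟩ := exists_deg_p_wreath S' (by omega)
    set W := (wreath 2 (S' : Subgroup (Equiv.Perm (Fin u)))).map e.permCongrHom.toMonoidHom with hW
    have hcard : Nat.card W = 2 ^ (Nat.card (Equiv.Perm (Fin (u + u)))).factorization 2 := by
      rw [hW, Subgroup.card_map_of_injective e.permCongrHom.injective, card_wreath_sylow,
        Nat.card_congr e.permCongrHom.toEquiv]
    let P : Sylow 2 (Equiv.Perm (Fin (u + u))) := Sylow.ofCard W hcard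
    let iso : (wreath 2 (S' : Subgroup (Equiv.Perm (Fin u)))) ≃* (S : Subgroup (Equiv.Perm (Fin (u + u)))) :=
      (e.permCongrHom.subgroupMap _).trans (Sylow.equiv P S)
    let π : evenWreath (S : Subgroup (Equiv.Perm (Fin (u + u)))) →*
        (S : Subgroup (Equiv.Perm (Fin (u + u)))) :=
      ((wreathProj 2 _).comp (Subgroup.inclusion inf_le_left)).codRestrict _ fun g =>
        wreathProj_mem _
    have hsurj : Function.Surjective π := fun σ =>
      ⟨⟨_, block_mem_evenWreath σ.2⟩, Subtype.ext (wreathProj_apply rfl)⟩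
    refine ⟨⟨_, IsIrrCharacter.comp_surjective φ.2 (iso.symm.toMonoidHom.comp π)
      (iso.symm.surjective.comp hsurj)⟩, ?_⟩
    show Cfsg.charDegree (fun x => (φ : _ → ℂ) ((iso.symm.toMonoidHom.comp π) x)) = 2
    simp only [Cfsg.charDegree, map_one]
    exact hφ
  · obtain ⟨b, hb⟩ : ∃ b, ∀ σ ∈ (S : Subgroup (Equiv.Perm (Fin w))), σ a ≠ b := by
      by_contra h
      push Not at h
      obtain ⟨n, hn⟩ := S.2.card_orbit a
      have huniv : MulAction.orbit (S : Subgroup (Equiv.Perm (Fin w))) a = Set.univ :=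
        Set.eq_univ_of_forall fun b => by
          obtain ⟨σ, hσ, hb⟩ := h b
          exact ⟨⟨σ, hσ⟩, hb⟩
      rw [huniv, Nat.card_univ, Nat.card_fin] at hn
      rcases Nat.eq_zero_or_pos n with rfl | hn0
      · simp at hn; omega
      · rw [hn, Nat.odd_pow_iff hn0.ne'] at hodd
        exact absurd hodd (by decide)
    have hba : b ≠ a := fun e => hb 1 (one_mem _) e.symm
    refine exists_deg_p_of_sub (a := a) (b := b) S.2 hτ ha (evenWreath _) inf_le_left
      (fun σ hσ => block_mem_evenWreath hσ) (Pi.single a 1 + Pi.single b 1)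
      ⟨wr_mem_wreath (one_mem _) _, Equiv.Perm.mem_alternatingGroup.2 ?_⟩
      ⟨by simp [hba.symm], fun i hi hi' => by simp [hi, hi'], fun _ => hb⟩
    rw [sign_wr_translation, ← Finset.prod_subset (subset_univ {a, b}), Finset.prod_pair hba.symm]
    · simp [hba, hba.symm]
    · intro i _ hi
      simp only [mem_insert, mem_singleton, not_or] at hi
      simp [hi.1, hi.2]

end Cfsg.Lib.SymBlocks
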