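import Cfsg.Agent.SymBlocks.AltTwin
import Cfsg.Agent.SymBlocks.AltBound
import Cfsg.Agent.SymBlocks.Valuation
import Cfsg.Agent.SymBlocks.Wreath2

/-!
# Degrees of constituents in the alternating group, small weights
-/

set_option autoImplicit false
set_option linter.unusedSectionVars false
set_option linter.style.haveILetI false

namespace Cfsg.Lib.SymBlocks

open Finset Cfsg.Lib.Chars

universe u

variable {α : Type u} [Fintype α] [DecidableEq α] {p N : ℕ}

theorem twinOf_eq_iff (hN : Fintype.card α ≤ N) {γ : Fin N → ℕ} (hs : StrictMono γ)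
    (hγ : ∑ i, γ i = Fintype.card α + ∑ i, delta N i) : twinOf α γ = γ ↔ IsFixedConf N γ := by
  obtain ⟨hs', -, ⟨himg, -⟩, -⟩ := twinOf_spec (α := α) hN hs hγ
  constructor
  · intro h
    rw [IsFixedConf, ← himg, h]
  · intro h
    exact eq_of_image_eq hs' hs (himg.trans h.symm)

theorem deg_twinOf (hN : Fintype.card α ≤ N) {γ : Fin N → ℕ} (hs : StrictMono γ)
    (hγ : ∑ i, γ i = Fintype.card α + ∑ i, delta N i) :
    deg (psi (α := α) (twinOf α γ)) = deg (psi (α := α) γ) := by
  obtain ⟨hs', hγ', -, hsg⟩ := twinOf_spec (α := α) hN hs hγ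
  have h1 := deg_psi (α := α) hs hγ
  have h2 := deg_psi (α := α) hs' hγ'
  rw [hsg 1, map_one, Units.val_one, one_mul, ← h1] at h2
  exact_mod_cast h2

/-- **The degree of a constituent.** -/
theorem deg_constituent [Nontrivial α] (hN : Fintype.card α ≤ N) {γ : Fin N → ℕ} (hs : StrictMono γ)
    (hγ : ∑ i, γ i = Fintype.card α + ∑ i, delta N i)
    {θ : Cfsg.IrrCharacter (alternatingGroup α)}
    (hθ : Cfsg.classInner (resAlt α (psi γ)) (θ : alternatingGroup α → ℂ) ≠ 0) :
    (¬ IsFixedConf N γ ∧ deg (θ : alternatingGroup α → ℂ) = deg (psi (α := α) γ)) ∨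
      (IsFixedConf N γ ∧ 2 * deg (θ : alternatingGroup α → ℂ) = deg (psi (α := α) γ)) := by
  classical
  obtain ⟨hs', hδ, -, hsg⟩ := twinOf_spec (α := α) hN hs hγ
  have hrel : ∀ g, psi (α := α) (twinOf α γ) g =
      ((Equiv.Perm.sign g : ℤ) : ℂ) * psi γ g := fun g => by simp [psi, hsg g]
  by_cases hf : IsFixedConf N γ
  swap
  · refine Or.inl ⟨hf, ?_⟩
    have hne : (⟨psi (α := α) (twinOf α γ), isIrr_psi hs' hδ⟩ : Cfsg.IrrCharacter (Equiv.Perm α)) ≠
        ⟨psi (α := α) γ, isIrr_psi hs hγ⟩ :=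
      fun e => hf ((twinOf_eq_iff hN hs hγ).1 (psi_inj hs' hδ hs (congrArg Subtype.val e)))
    rw [resAlt_eq_of_ne (γ := ⟨_, isIrr_psi hs hγ⟩) (δ := ⟨_, isIrr_psi hs' hδ⟩) hrel hne hθ]
    rfl
  refine Or.inr ⟨hf, ?_⟩
  rw [(twinOf_eq_iff hN hs hγ).2 hf] at hrel
  set χ : Cfsg.IrrCharacter (Equiv.Perm α) := ⟨_, isIrr_psi hs hγ⟩
  set R := resAlt α (psi (α := α) γ) with hR
  obtain ⟨θ₁, hpair⟩ := exists_pair_of_eq (γ := χ) hrel
  -- a conjugate different from `θ`
  obtain ⟨g, hg⟩ : ∃ g : Equiv.Perm α, conjN (alternatingGroup α) g (θ : alternatingGroup α → ℂ) ≠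
      (θ : alternatingGroup α → ℂ) := by
    by_contra hinv
    push Not at hinv
    obtain ⟨e, -, he⟩ := restrict_eq_mult_of_invariant (alternatingGroup α) χ.2 θ.2 hinv hθ
    have hn : Cfsg.classInner R R = 2 := by
      rw [hR, show psi (α := α) γ = (χ : Equiv.Perm α → ℂ) from rfl, norm_resAlt,
        show (fun g => ((Equiv.Perm.sign g : ℤ) : ℂ) * (χ : Equiv.Perm α → ℂ) g) =
          (χ : Equiv.Perm α → ℂ) from (funext hrel).symm, classInner_irr_self]
      norm_num
    have he' : R = (e : ℂ) • (θ : alternatingGroup α → ℂ) := he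
    rw [he', classInner_smul_left, classInner_smul_right, classInner_irr_self, mul_one,
      Complex.conj_natCast, ← Nat.cast_mul] at hn
    have h2 : e * e = 2 := by exact_mod_cast hn
    rcases Nat.lt_or_ge e 2 with h | h
    · interval_cases e <;> omega
    · nlinarith
  set θ' : Cfsg.IrrCharacter (alternatingGroup α) :=
    ⟨conjN (alternatingGroup α) g (θ : alternatingGroup α → ℂ), IsIrrCharacter.conjN θ.2 g⟩
  have hθ' : Cfsg.classInner R (θ' : alternatingGroup α → ℂ) ≠ 0 := by
    have := classInner_restrict_conjN (N := alternatingGroup α) (isClassFunction_irr χ)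
      (θ : alternatingGroup α → ℂ) g
    intro h
    exact hθ (this.symm.trans h)
  have hdeg' : deg (θ' : alternatingGroup α → ℂ) = deg (θ : alternatingGroup α → ℂ) := by
    show ⌊(conjN (alternatingGroup α) g (θ : alternatingGroup α → ℂ) 1).re⌋₊ = _
    simp [conjN, deg]
    rfl
  have hne : (θ : alternatingGroup α → ℂ) ≠ (θ' : alternatingGroup α → ℂ) := fun h => hg h.symm
  have hsum : R 1 = (θ : alternatingGroup α → ℂ) 1 + (θ' : alternatingGroup α → ℂ) 1 := by
    rcases hpair θ hθ with h | h <;> rcases hpair θ' hθ' with h' | h'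
    · exact absurd (h.trans h'.symm) hne
    · rw [h', h, Pi.sub_apply]; exact (add_sub_cancel _ _).symm
    · rw [h', h, Pi.sub_apply]; exact (sub_add_cancel _ _).symm
    · exact absurd (h.trans h'.symm) hne
  rw [irr_apply_one_eq_deg, irr_apply_one_eq_deg, hdeg'] at hsum
  have h3 : R 1 = (deg (psi (α := α) γ) : ℂ) := irr_apply_one_eq_deg χ
  rw [h3] at hsum
  have h4 : deg (psi (α := α) γ) = deg (θ : alternatingGroup α → ℂ) + deg (θ : alternatingGroup α → ℂ) := by
    exact_mod_cast hsum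
  omega

/-- A set of exponents one step above the bottom. -/
theorem eq_of_sum_one {Q : Finset ℕ} (hsum : ∑ x ∈ Q, x = 1 + ∑ k ∈ range Q.card, k) :
    Q = insert Q.card ((range Q.card).erase (Q.card - 1)) := by
  have key : ∀ x ∈ Q, x ≤ Q.card := by
    intro x hx
    have h1 := card_erase_add_one hx
    have h2 : ∑ k ∈ range (Q.erase x).card, k ≤ ∑ y ∈ Q.erase x, y := by
      set γ : Fin (Q.erase x).card → ℕ := fun i => (Q.erase x).orderEmbOfFin rfl i
      have hinj : Function.Injective γ := ((Q.erase x).orderEmbOfFin rfl).injective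
      have h3 := sum_delta_le hinj
      have e : ∑ i, γ i = ∑ y ∈ Q.erase x, y := by
        rw [← Finset.sum_image hinj.injOn (f := fun y => y)]
        exact congrArg (fun T => ∑ y ∈ T, y) (Finset.image_orderEmbOfFin_univ (Q.erase x) rfl)
      rw [← Fin.sum_univ_eq_sum_range, ← e]
      exact h3
    rw [← Finset.add_sum_erase _ _ hx, ← h1, Finset.sum_range_succ] at hsum
    omega
  have hsub : Q ⊆ range (Q.card + 1) := fun x hx => mem_range.2 (Nat.lt_succ_of_le (key x hx))
  have hmiss : ((range (Q.card + 1)) \ Q).card = 1 := by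
    rw [card_sdiff_of_subset hsub, card_range]; omega
  obtain ⟨m, hm⟩ := card_eq_one.1 hmiss
  have h3 : ∑ x ∈ Q, x + m = ∑ x ∈ range (Q.card + 1), x := by
    rw [← Finset.sum_sdiff hsub, hm, sum_singleton, add_comm]
  rw [hsum, Finset.sum_range_succ] at h3
  have hmc : m + 1 = Q.card := by omega
  have hQ : Q = (range (Q.card + 1)).erase m := by
    rw [← Finset.sdiff_singleton_eq_erase, ← hm, Finset.sdiff_sdiff_eq_self hsub]
  conv_lhs => rw [hQ]
  rw [show Q.card - 1 = m by omega, Finset.range_add_one, Finset.erase_insert_of_ne (by omega)]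

/-- At weight two and the prime two the hook valuation is three unless the configuration is fixed. -/
theorem hk_two_weight [Nontrivial α] (hN : Fintype.card α ≤ N) {γ : Fin N → ℕ} (hs : StrictMono γ)
    (hγ : ∑ i, γ i = Fintype.card α + ∑ i, delta N i) (hw : weight α N 2 (resCount 2 γ) = 2)
    (hcnt : ∀ r, resCount 2 (twinOf α γ) r = resCount 2 γ r) :
    (IsFixedConf N γ → hk 2 (univ.image γ) = 2) ∧ (¬ IsFixedConf N γ → hk 2 (univ.image γ) = 3) := by
  have hu : (univ : Finset (ZMod 2)) = {0, 1} := by decide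
  have hzero : ∀ {δ : Fin N → ℕ}, StrictMono δ → ∀ r, qsize 2 δ r ≤ 1 → hk 2 (runner 2 δ r) = 0 := by
    intro δ hd r hr
    have := hk_runner_bounds (p := 2) hd r
    rw [v_factorial_lt (p := 2) (show qsize 2 δ r < 2 by omega)] at this
    simp only [Nat.cast_zero] at this
    omega
  have hval : ∀ {δ : Fin N → ℕ}, StrictMono δ → ∑ i, δ i = Fintype.card α + ∑ i, delta N i →
      (∀ r, resCount 2 δ r = resCount 2 γ r) →
      qsize 2 δ 0 + qsize 2 δ 1 = 2 ∧
        hk 2 (univ.image δ) = 2 + (hk 2 (runner 2 δ 0) + hk 2 (runner 2 δ 1)) ∧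
        (qsize 2 δ 0 ≠ 1 → hk 2 (univ.image δ) = 3) := by
    intro δ hd hdsum hc
    have h1 : qsize 2 δ 0 + qsize 2 δ 1 = 2 := by
      have := sum_qsize (p := 2) δ
      rw [hu, Finset.sum_pair zero_ne_one, sum_excess_eq_weight (α := α) hd hdsum, funext hc, hw]
        at this
      exact this
    have h2 : hk 2 (univ.image δ) = 2 + (hk 2 (runner 2 δ 0) + hk 2 (runner 2 δ 1)) := by
      rw [hk_eq_runners hd, sum_excess_eq_weight (α := α) hd hdsum, funext hc, hw, hu,
        Finset.sum_pair zero_ne_one]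
      norm_num
    refine ⟨h1, h2, fun hne => ?_⟩
    rw [h2]
    rcases (show qsize 2 δ 0 = 0 ∨ qsize 2 δ 0 = 2 by omega) with h | h
    · rw [hzero hd 0 (by omega), hk_two (Q := runner 2 δ 1) (by rw [sum_runner hd, show qsize 2 δ 1 = 2 by omega])]
      norm_num
    · rw [hk_two (Q := runner 2 δ 0) (by rw [sum_runner hd, h]), hzero hd 1 (by omega)]
      norm_num
  obtain ⟨h1, h2, h3⟩ := hval hs hγ fun _ => rfl
  constructor
  · intro hf
    have := qsize_fixed_two' hs hγ hf
    rw [hw] at this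
    rw [h2, hzero hs 0 (by omega), hzero hs 1 (by omega)]
    norm_num
  · intro hf
    refine h3 fun hq => hf ?_
    obtain ⟨hs', hγ', -, -⟩ := twinOf_spec (α := α) hN hs hγ
    obtain ⟨h1', -, h3'⟩ := hval hs' hγ' hcnt
    have hq' : qsize 2 (twinOf α γ) 0 = 1 := by
      by_contra hne
      have e1 := deg_valuation (α := α) (p := 2) hs hγ
      have e2 := deg_valuation (α := α) (p := 2) hs' hγ'
      rw [deg_twinOf hN hs hγ, h3' hne] at e2
      rw [h2, hzero hs 0 (by omega), hzero hs 1 (by omega)] at e1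
      omega
    refine (twinOf_eq_iff hN hs hγ).1 ?_
    have hQ : ∀ r, runner 2 (twinOf α γ) r = runner 2 γ r := by
      intro r
      have hr : ∀ {δ : Fin N → ℕ}, StrictMono δ → qsize 2 δ r = 1 →
          runner 2 δ r = insert (resCount 2 δ r) ((range (resCount 2 δ r)).erase (resCount 2 δ r - 1)) := by
        intro δ hd hd1
        rw [← card_runner hd r]
        exact eq_of_sum_one (by rw [sum_runner hd, hd1])
      have hcase : r = 0 ∨ r = 1 := zmod_two_cases' r
      rcases hcase with h | h <;> subst h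
      · rw [hr hs' hq', hr hs hq, hcnt]
      · rw [hr hs' (by omega), hr hs (by omega), hcnt]
    refine (hs'.range_inj hs).1 ?_
    ext x
    have hmem : ∀ {δ : Fin N → ℕ}, StrictMono δ →
        (x ∈ Set.range δ ↔ x / 2 ∈ runner 2 δ (x : ZMod 2)) := by
      intro δ _
      simp only [Set.mem_range, runner, mem_image, mem_filter, mem_univ, true_and]
      constructor
      · rintro ⟨i, rfl⟩; exact ⟨i, rfl, rfl⟩
      · rintro ⟨i, hi, he⟩
        refine ⟨i, ?_⟩
        have h1 := eq_val_add_mul (p := 2) (δ i)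
        have h2 := eq_val_add_mul (p := 2) x
        rw [hi] at h1
        omega
    rw [hmem hs', hmem hs, hQ]
where
  qsize_fixed_two' {γ : Fin N → ℕ} (hs : StrictMono γ)
      (hγ : ∑ i, γ i = Fintype.card α + ∑ i, delta N i) (h : IsFixedConf N γ) :
      2 * qsize 2 γ 0 = weight α N 2 (resCount 2 γ) := by
    rw [← sum_flen_eq (α := α) (p := 2) (γ := γ) ⟨hs, hγ, fun _ => rfl, h⟩, qsize, Finset.mul_sum,
      Finset.sum_filter]
    exact Finset.sum_congr rfl fun i _ => (flen_eq_two γ i).symm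
  zmod_two_cases' : ∀ z : ZMod 2, z = 0 ∨ z = 1 := by decide

theorem wreath_commute {w : ℕ} [NeZero p] {S : Subgroup (Equiv.Perm (Fin w))} (hS : S = ⊥)
    {g h : Equiv.Perm (Fin w × ZMod p)} (hg : g ∈ wreath p S) (hh : h ∈ wreath p S) :
    g * h = h * g := by
  obtain ⟨v, σ, hσ, rfl⟩ := hg
  obtain ⟨v', σ', hσ', rfl⟩ := hh
  rw [hS, Subgroup.mem_bot] at hσ hσ'
  subst hσ hσ'
  rw [wr_mul, wr_mul]
  congr 1
  funext i
  simp [add_comm]

theorem evenWreath_two_commute {S : Subgroup (Equiv.Perm (Fin 2))}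
    {g h : Equiv.Perm (Fin 2 × ZMod 2)} (hg : g ∈ evenWreath S) (hh : h ∈ evenWreath S) :
    g * h = h * g := by
  have hconst : ∀ {v : Fin 2 → ZMod 2} {σ : Equiv.Perm (Fin 2)},
      Equiv.Perm.sign (wr v σ) = 1 → ∀ i, v i = v 0 := by
    intro v σ hsg
    have hdec : wr v σ = wr (0 : Fin 2 → ZMod 2) σ * wr v 1 := by rw [wr_mul]; simp
    rw [hdec, map_mul, sign_wr_block, one_mul, sign_wr_translation] at hsg
    have key : ∀ v : Fin 2 → ZMod 2, (∏ i, if v i = 0 then (1 : ℤˣ) else -1) = 1 →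
        ∀ i, v i = v 0 := by decide
    exact key v hsg
  obtain ⟨⟨v, σ, -, rfl⟩, hsg⟩ := hg
  obtain ⟨⟨v', σ', -, rfl⟩, hsg'⟩ := hh
  have hc := hconst (Equiv.Perm.mem_alternatingGroup.1 hsg)
  have hc' := hconst (Equiv.Perm.mem_alternatingGroup.1 hsg')
  have hcomm : ∀ a b : Equiv.Perm (Fin 2), a * b = b * a := by decide
  rw [wr_mul, wr_mul, hcomm σ σ']
  congr 1
  funext i
  rw [hc i, hc' i, hc (σ' i), hc' (σ i), add_comm]

end Cfsg.Lib.SymBlocks
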