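import Cfsg.Agent.SymBlocks.BlockData
import Cfsg.Agent.SymBlocks.Construct
import Cfsg.Agent.SymBlocks.HeightHalf
import Cfsg.Agent.Blocks.CoveringDefect
import Cfsg.Agent.Blocks.CoveringAll

/-!
# The least positive height in a block of an alternating group
-/

set_option autoImplicit false
set_option linter.unusedSectionVars false
set_option linter.style.haveILetI false

namespace Cfsg.Lib.SymBlocks

open Finset Cfsg.Lib.Blocks Cfsg.Lib.Chars

universe u

variable {α : Type u} [Fintype α] [DecidableEq α] {p : ℕ} [Fact p.Prime] {M : Ideal Cfsg.AlgInt}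

theorem isPGroup_commute_of_iso {G H : Type*} [Group G] [Group H] (φ : G ≃* H)
    (h : ∀ a b : G, a * b = b * a) : IsMulCommutative H :=
  ⟨⟨fun a b => φ.symm.injective (by rw [map_mul, map_mul]; exact h _ _)⟩⟩

theorem exists_deg_of_iso {G H : Type*} [Group G] [Group H] [Finite G] (φ : G ≃* H) {d : ℕ}
    (h : ∃ χ : Cfsg.IrrCharacter G, Cfsg.charDegree (χ : G → ℂ) = d) :
    ∃ χ : Cfsg.IrrCharacter H, Cfsg.charDegree (χ : H → ℂ) = d := by
  obtain ⟨χ, hχ⟩ := h
  refine ⟨⟨_, IsIrrCharacter.comp_mulEquiv χ.2 φ.symm⟩, ?_⟩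
  show Cfsg.charDegree (fun x => (χ : G → ℂ) (φ.symm x)) = d
  simp only [Cfsg.charDegree, map_one]
  exact hχ

theorem even_of_pow_odd {G : Type*} [Group G] {p : ℕ} (hp : Odd p) (hG : IsPGroup p G)
    (f : G →* ℤˣ) (g : G) : f g = 1 := by
  obtain ⟨k, hk⟩ := hG g
  have h : f g ^ p ^ k = 1 := by rw [← map_pow, hk, map_one]
  rcases Int.units_eq_one_or (f g) with h1 | h1
  · exact h1
  · rw [h1, Odd.neg_one_pow (hp.pow)] at h
    exact absurd h (by decide)

/-- **The defect group of a block of the alternating group in the wreath subgroup.** -/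
theorem exists_iso_wreath {w : ℕ} {S : Sylow p (Equiv.Perm (Fin w))}
    {P : Subgroup (Equiv.Perm α)} {D : Subgroup (alternatingGroup α)}
    (hPD : P ⊓ alternatingGroup α = D.map (alternatingGroup α).subtype)
    (ι : (wreath p (S : Subgroup (Equiv.Perm (Fin w)))) →* Equiv.Perm α)
    (hinj : Function.Injective ι) (hran : ι.range = P)
    (hsign : ∀ g, Equiv.Perm.sign (ι g) = Equiv.Perm.sign (g : Equiv.Perm (Fin w × ZMod p)))
    (T : Subgroup (Equiv.Perm (Fin w × ZMod p))) (hT : T ≤ wreath p (S : Subgroup (Equiv.Perm (Fin w))))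
    (heven : ∀ g : wreath p (S : Subgroup (Equiv.Perm (Fin w))),
      (g : Equiv.Perm (Fin w × ZMod p)) ∈ T ↔ Equiv.Perm.sign (g : Equiv.Perm (Fin w × ZMod p)) = 1) :
    Nonempty (T ≃* D) := by
  set j : T →* Equiv.Perm α := ι.comp (Subgroup.inclusion hT) with hj
  have hjinj : Function.Injective j := hinj.comp (Subgroup.inclusion_injective hT)
  have hjran : j.range = D.map (alternatingGroup α).subtype := by
    ext x
    rw [← hPD, Subgroup.mem_inf, ← hran]
    constructor
    · rintro ⟨t, rfl⟩
      exact ⟨⟨_, rfl⟩, Equiv.Perm.mem_alternatingGroup.2 ((hsign _).trans ((heven _).1 t.2))⟩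
    · rintro ⟨⟨g, rfl⟩, hg⟩
      exact ⟨⟨g, (heven g).2 ((hsign g).symm.trans (Equiv.Perm.mem_alternatingGroup.1 hg))⟩, rfl⟩
  exact ⟨(MonoidHom.ofInjective hjinj).trans ((MulEquiv.subgroupCongr hjran).trans
    (Subgroup.equivMapOfInjective D _ (Subgroup.subtype_injective _)).symm)⟩

set_option maxHeartbeats 2000000 in
/-- **Least positive heights in blocks of alternating groups.** -/
theorem height_one_or_none [Nontrivial α] (hM : Cfsg.IsPModular p M)
    {b : Set (Cfsg.IrrCharacter (alternatingGroup α))} (hb : Cfsg.IsPBlock M b)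
    {D : Subgroup (alternatingGroup α)} (hD : Cfsg.IsDefectGroup p M b D) :
    ((∃ χ ∈ b, Cfsg.blockHeight p b (χ : alternatingGroup α → ℂ) = 1) ∧
      ∃ φ : Cfsg.IrrCharacter D, Cfsg.charDegree (φ : D → ℂ) = p) ∨
    ((∀ χ ∈ b, Cfsg.blockHeight p b (χ : alternatingGroup α → ℂ) = 0) ∧ IsMulCommutative D) := by
  classical
  have hp := (Fact.out : p.Prime)
  obtain ⟨N, hNdef⟩ : ∃ N, N = (p + 1) * (Fintype.card α + 1) := ⟨_, rfl⟩
  have hN : Fintype.card α ≤ N := by
    rw [hNdef]; exact (Nat.le_succ _).trans (Nat.le_mul_of_pos_left _ (Nat.succ_pos p))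
  -- the covering block
  obtain ⟨θ₀, hθ₀⟩ := IsPBlock.nonempty hM hb
  obtain ⟨χ₀, hχ₀, hover⟩ := Cfsg.Lib.Chars.exists_over (G := Equiv.Perm α) (alternatingGroup α) θ₀.2
  obtain ⟨γ₀, hs₀, hsum₀, he₀⟩ := exists_psi_eq hN (⟨χ₀, hχ₀⟩ : Cfsg.IrrCharacter (Equiv.Perm α))
  set B := Cfsg.blockOf M (psi (α := α) γ₀) with hBdef
  have hB : Cfsg.IsPBlock M B := isPBlock_blockOf ⟨_, isIrr_psi (α := α) hs₀ hsum₀⟩
  have hψ₀ : (⟨psi (α := α) γ₀, isIrr_psi hs₀ hsum₀⟩ : Cfsg.IrrCharacter (Equiv.Perm α)) ∈ B :=
    mem_blockOf_self hM (⟨psi (α := α) γ₀, isIrr_psi hs₀ hsum₀⟩ : Cfsg.IrrCharacter (Equiv.Perm α))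
  have hover' : Cfsg.classInner (fun a : alternatingGroup α => psi (α := α) γ₀ a)
      (θ₀ : alternatingGroup α → ℂ) ≠ 0 := by
    have he' : χ₀ = psi (α := α) γ₀ := he₀
    subst he'
    exact hover
  have hcov : ∃ χ ∈ B, ∃ θ ∈ b, Cfsg.classInner
      (fun a : alternatingGroup α => (χ : Equiv.Perm α → ℂ) a)
      (θ : alternatingGroup α → ℂ) ≠ 0 :=
    ⟨_, hψ₀, θ₀, hθ₀, hover'⟩
  have hQ : Cfsg.IsDefectGroup p M b ((D.map (alternatingGroup α).subtype).subgroupOf
      (alternatingGroup α)) := by
    rwa [show (D.map (alternatingGroup α).subtype).subgroupOf (alternatingGroup α) = D from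
      Subgroup.comap_map_eq_self_of_injective (Subgroup.subtype_injective _) D]
  obtain ⟨P, hP, hPQ⟩ := exists_defect_inf_eq hM hb (Subgroup.map_subtype_le D) hQ hB hcov
  generalize hwdef : weight α N p (resCount p γ₀) = w
  obtain ⟨S : Sylow p (Equiv.Perm (Fin w))⟩ := (inferInstance : Nonempty (Sylow p (Equiv.Perm (Fin w))))
  obtain ⟨hdef, ι, hinj, hran, hsign⟩ := exists_defect_wreath hM hN hs₀ hsum₀ hwdef.symm hP S
  -- the valuations
  set V : (alternatingGroup α → ℂ) → ℕ := fun f => (Cfsg.charDegree f).factorization p with hV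
  set W : (Equiv.Perm α → ℂ) → ℕ := fun f => (Cfsg.charDegree f).factorization p with hW
  set e := (Fintype.card α).factorial.factorization p with he
  set T := w + w.factorial.factorization p with hTdef
  have hvdeg : ∀ {γ : Fin N → ℕ}, StrictMono γ → ∑ i, γ i = Fintype.card α + ∑ i, delta N i →
      (W (psi γ) : ℤ) + hk p (univ.image γ) = e := by
    intro γ hs hsum
    simp only [hW, he, Nat.factorization_def _ hp]
    exact deg_valuation hs hsum
  have hmem : ∀ {γ : Fin N → ℕ} (hs : StrictMono γ)
      (hsum : ∑ i, γ i = Fintype.card α + ∑ i, delta N i), (∀ r, resCount p γ r = resCount p γ₀ r) →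
      (⟨psi γ, isIrr_psi hs hsum⟩ : Cfsg.IrrCharacter (Equiv.Perm α)) ∈ B := by
    intro γ hs hsum hc
    rw [hBdef, blockOf_eq_of_resCount hM hs₀ hsum₀ hs hsum fun r => (hc r).symm]
    exact mem_blockOf_self hM (⟨psi γ, isIrr_psi hs hsum⟩ : Cfsg.IrrCharacter (Equiv.Perm α))
  -- the member of `B` over a member of `b`
  have hup : ∀ θ ∈ b, ∃ γ : Fin N → ℕ, StrictMono γ ∧
      ∑ i, γ i = Fintype.card α + ∑ i, delta N i ∧ (∀ r, resCount p γ r = resCount p γ₀ r) ∧
      ((¬ IsFixedConf N γ ∧ V (θ : alternatingGroup α → ℂ) = W (psi γ)) ∨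
        (IsFixedConf N γ ∧ V (θ : alternatingGroup α → ℂ) + (if p = 2 then 1 else 0) = W (psi γ))) := by
    intro θ hθ
    obtain ⟨χ, hχ, hne⟩ := exists_over_of_covers hM hB hb hcov hθ
    obtain ⟨γ, hs, hsum, heq, hc⟩ := exists_of_mem_block hM hN hs₀ hsum₀ hχ
    rw [heq] at hne
    refine ⟨γ, hs, hsum, hc, ?_⟩
    rcases deg_constituent hN hs hsum hne with ⟨hf, hd⟩ | ⟨hf, hd⟩
    · exact Or.inl ⟨hf, congrArg (fun d : ℕ => d.factorization p) hd⟩
    · refine Or.inr ⟨hf, ?_⟩
      have h1 := congrArg (fun d : ℕ => d.factorization p) hd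
      rw [Nat.factorization_mul two_ne_zero (deg_irr_pos θ).ne', Finsupp.add_apply,
        Nat.Prime.factorization Nat.prime_two, Finsupp.single_apply] at h1
      simp only [hV, hW]
      show (deg (θ : alternatingGroup α → ℂ)).factorization p + _ = (deg (psi (α := α) γ)).factorization p
      split_ifs with h2
      · subst h2; simp at h1; omega
      · rw [if_neg fun e => h2 e.symm] at h1; omega
  have hdown : ∀ {γ : Fin N → ℕ}, StrictMono γ → ∑ i, γ i = Fintype.card α + ∑ i, delta N i →
      (∀ r, resCount p γ r = resCount p γ₀ r) → (p = 2 → ¬ IsFixedConf N γ) →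
      ∃ θ ∈ b, V (θ : alternatingGroup α → ℂ) = W (psi γ) := by
    intro γ hs hsum hc hnf
    obtain ⟨θ, hθ, hne⟩ := exists_constituent_mem hM hB hb hcov (hmem hs hsum hc)
    refine ⟨θ, hθ, ?_⟩
    rcases deg_constituent hN hs hsum hne with ⟨-, hd⟩ | ⟨hf, hd⟩
    · exact congrArg (fun d : ℕ => d.factorization p) hd
    · have hp2 : p ≠ 2 := fun e => hnf e hf
      have h1 := congrArg (fun d : ℕ => d.factorization p) hd
      rw [Nat.factorization_mul two_ne_zero (deg_irr_pos θ).ne', Finsupp.add_apply,
        Nat.Prime.factorization Nat.prime_two, Finsupp.single_apply, if_neg (Ne.symm hp2), zero_add] at h1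
      exact h1
  have hbound : ∀ {γ : Fin N → ℕ}, StrictMono γ → ∑ i, γ i = Fintype.card α + ∑ i, delta N i →
      (∀ r, resCount p γ r = resCount p γ₀ r) →
      (w : ℤ) ≤ hk p (univ.image γ) ∧ hk p (univ.image γ) ≤ (T : ℕ) := by
    intro γ hs hsum hc
    have h := hk_image_le (α := α) (p := p) hs hsum
    rw [funext hc, hwdef, ← Nat.factorization_def _ hp] at h
    exact h
  have hfixed : p = 2 → ∀ {γ : Fin N → ℕ}, StrictMono γ →
      ∑ i, γ i = Fintype.card α + ∑ i, delta N i → (∀ r, resCount p γ r = resCount p γ₀ r) →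
      IsFixedConf N γ → 1 ≤ w → hk p (univ.image γ) + 1 ≤ (T : ℕ) := by
    intro hp2 γ hs hsum hc hf hw1
    subst hp2
    have hq := qsize_fixed_two (α := α) hs hsum hf
    have hu : (univ : Finset (ZMod 2)) = {0, 1} := by
      ext x; simpa using zmod_two_cases x
    have hs2 := sum_qsize (p := 2) γ
    rw [hu, Finset.sum_pair zero_ne_one, sum_excess_eq_weight (α := α) hs hsum, funext hc, hwdef] at hs2
    rw [funext hc, hwdef] at hq
    rw [hk_eq_runners hs, sum_excess_eq_weight (α := α) hs hsum, funext hc, hwdef, hu,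
      Finset.sum_pair zero_ne_one]
    have h0 := (hk_runner_bounds (p := 2) hs 0).2
    have h1 := (hk_runner_bounds (p := 2) hs 1).2
    rw [show qsize 2 γ 1 = qsize 2 γ 0 by omega] at h1
    have hlt := padicValNat_factorial_lt_of_ne_zero (p := 2) (n := qsize 2 γ 0) (by omega)
    have hv : w.factorial.factorization 2 =
        padicValNat 2 (qsize 2 γ 0).factorial + qsize 2 γ 0 := by
      rw [Nat.factorization_def _ Nat.prime_two, ← hq, padicValNat_factorial_mul]
    rw [hTdef, hv]
    simp only [Nat.cast_add]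
    omega
  -- the minimum over `B`
  obtain ⟨γm, hsm, hsumm, hcm, hWm⟩ : ∃ γm : Fin N → ℕ, StrictMono γm ∧
      ∑ i, γm i = Fintype.card α + ∑ i, delta N i ∧ (∀ r, resCount p γm r = resCount p γ₀ r) ∧
      hk p (univ.image γm) = (T : ℕ) := by
    obtain ⟨χ, hχ, hh⟩ := Nat.sInf_mem (s := (fun ψ : Cfsg.IrrCharacter (Equiv.Perm α) =>
      (Cfsg.charDegree (ψ : Equiv.Perm α → ℂ)).factorization p) '' B)
      ((IsPBlock.nonempty hM hB).image _)
    obtain ⟨γ, hs, hsum, heq, hc⟩ := exists_of_mem_block hM hN hs₀ hsum₀ hχ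
    refine ⟨γ, hs, hsum, hc, ?_⟩
    have h1 := hvdeg hs hsum
    have h2 := (hbound hs hsum hc).1
    simp only at hh
    rw [Cfsg.blockDefect, ← hh, heq, Nat.card_perm, Nat.card_eq_fintype_card] at hdef
    simp only [hW] at h1 ⊢
    rw [hTdef] at hdef ⊢
    have h3 := (hbound hs hsum hc).2
    omega
  by_cases hcase : p ≤ w ∧ (p = 2 → 3 ≤ w)
  · obtain ⟨hpw, h3⟩ := hcase
    refine Or.inl ⟨?_, ?_⟩
    · have hnf : p = 2 → ¬ IsFixedConf N γm := fun hp2 hf => by
        have := hfixed hp2 hsm hsumm hcm hf (by omega)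
        omega
      obtain ⟨θm, hθm, hVm⟩ := hdown hsm hsumm hcm hnf
      have hinf : sInf ((fun ψ : Cfsg.IrrCharacter (alternatingGroup α) =>
          (Cfsg.charDegree (ψ : alternatingGroup α → ℂ)).factorization p) '' b) = W (psi γm) := by
        refine le_antisymm (hVm ▸ Nat.sInf_le ⟨θm, hθm, rfl⟩) (le_csInf ⟨_, θm, hθm, rfl⟩ ?_)
        rintro _ ⟨θ, hθ, rfl⟩
        show W (psi γm) ≤ V (θ : alternatingGroup α → ℂ)
        obtain ⟨γ, hs, hsum, hc, h⟩ := hup θ hθ
        have h1 := hvdeg hs hsum
        have h2 := hvdeg hsm hsumm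
        have h4 := (hbound hs hsum hc).2
        rcases h with ⟨-, hd⟩ | ⟨hf, hd⟩
        · omega
        · by_cases hp2 : p = 2
          · have := hfixed hp2 hs hsum hc hf (by omega)
            rw [if_pos hp2] at hd
            omega
          · rw [if_neg hp2] at hd
            omega
      obtain ⟨γ, hs, hsum, hc, hh, hnf'⟩ := exists_height_one (α := α) hs₀ hsum₀ hwdef.symm hpw h3
        fun r => by
          have h1 := le_resCount (p := p) (hNdef ▸ le_refl _) hs₀ hsum₀ r
          have h2 := mul_weight_le (α := α) (p := p) hs₀ hsum₀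
          rw [hwdef] at h2
          have : w ≤ p * w := Nat.le_mul_of_pos_left w hp.pos
          omega
      obtain ⟨θ, hθ, hVθ⟩ := hdown hs hsum hc hnf'
      refine ⟨θ, hθ, ?_⟩
      rw [Cfsg.blockHeight, hinf]
      show V (θ : alternatingGroup α → ℂ) - W (psi γm) = 1
      have h1 := hvdeg hs hsum
      have h2 := hvdeg hsm hsumm
      rw [← Nat.factorization_def _ hp, ← hTdef] at hh
      omega
    · by_cases hp2 : p = 2
      · subst hp2
        obtain ⟨φ⟩ := exists_iso_wreath hPQ ι hinj hran hsign (evenWreath _) inf_le_left fun g => by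
          rw [evenWreath, Subgroup.mem_inf, Equiv.Perm.mem_alternatingGroup]
          exact and_iff_right g.2
        exact exists_deg_of_iso φ (exists_deg_two_even S (h3 rfl))
      · obtain ⟨φ⟩ := exists_iso_wreath hPQ ι hinj hran hsign _ le_rfl fun g => by
          refine iff_of_true g.2 ?_
          exact even_of_pow_odd (hp.odd_of_ne_two hp2) (wreath_isPGroup S.2)
            (Equiv.Perm.sign.comp (Subgroup.subtype _)) g
        exact exists_deg_of_iso φ (exists_deg_p_wreath S hpw)
  · refine Or.inr ⟨?_, ?_⟩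
    · -- all valuations agree
      have hsame : ∃ c : ℕ, ∀ θ ∈ b, V (θ : alternatingGroup α → ℂ) + c = e := by
        by_cases hp2 : p = 2
        · subst hp2
          have hw2 : w ≤ 2 := by
            by_contra h
            exact hcase ⟨by omega, fun _ => by omega⟩
          rcases (show w = 0 ∨ w = 1 ∨ w = 2 by omega) with hw | hw | hw
          · have hcore : ∀ {γ : Fin N → ℕ}, StrictMono γ →
                ∑ i, γ i = Fintype.card α + ∑ i, delta N i →
                (∀ r, resCount 2 γ r = resCount 2 γ₀ r) → γ = γ₀ := by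
              intro γ hs hsum hc
              have hz : ∀ {δ : Fin N → ℕ}, StrictMono δ →
                  ∑ i, δ i = Fintype.card α + ∑ i, delta N i →
                  (∀ r, resCount 2 δ r = resCount 2 γ₀ r) → coreOf 2 δ = δ := by
                intro δ hd hdsum hdc
                funext i
                have h0 : ∑ i, excess 2 δ i = 0 := by
                  rw [sum_excess_eq_weight (α := α) hd hdsum, funext hdc, hwdef, hw]
                have := eq_coreOf_add (p := 2) hd i
                rw [(Finset.sum_eq_zero_iff.1 h0) i (mem_univ i), mul_zero, add_zero] at this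
                exact this.symm
              refine eq_of_image_eq hs hs₀ ?_
              rw [← hz hs hsum hc, ← hz hs₀ hsum₀ fun _ => rfl]
              exact eq_of_closed (closedAt_coreOf γ) (closedAt_coreOf γ₀) fun r => by
                rw [card_filter_image (coreOf_injective γ), card_filter_image (coreOf_injective γ₀),
                  resCount_coreOf, resCount_coreOf, hc]
            refine ⟨if IsFixedConf N γ₀ then 1 else 0, fun θ hθ => ?_⟩
            obtain ⟨γ, hs, hsum, hc, h⟩ := hup θ hθ
            obtain rfl := hcore hs hsum hc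
            have h1 := hvdeg hs hsum
            have h2 := hbound hs hsum hc
            rw [hTdef, hw, Nat.factorial_zero, Nat.factorization_one] at h2
            simp at h2
            rcases h with ⟨hf, hd⟩ | ⟨hf, hd⟩
            · rw [if_neg hf]; omega
            · rw [if_pos hf]; simp at hd; omega
          · refine ⟨1, fun θ hθ => ?_⟩
            obtain ⟨γ, hs, hsum, hc, h⟩ := hup θ hθ
            have h1 := hvdeg hs hsum
            have h2 := hbound hs hsum hc
            rw [hTdef, hw, Nat.factorial_one, Nat.factorization_one] at h2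
            simp at h2
            rcases h with ⟨-, hd⟩ | ⟨hf, -⟩
            · omega
            · have := qsize_fixed_two (α := α) hs hsum hf
              rw [funext hc, hwdef, hw] at this
              omega
          · refine ⟨3, fun θ hθ => ?_⟩
            obtain ⟨γ, hs, hsum, hc, h⟩ := hup θ hθ
            have h1 := hvdeg hs hsum
            have hcnt : ∀ r, resCount 2 (twinOf α γ) r = resCount 2 γ r := by
              obtain ⟨hs', hsum', htw, -⟩ := twinOf_spec (α := α) hN hs hsum
              have hq : weight α N 2 (resCount 2 γ) = 2 := by rw [funext hc, hwdef, hw]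
              exact resCount_twin_two hs hs' hsum hsum' htw hN
            have hk2 := hk_two_weight hN hs hsum (by rw [funext hc, hwdef, hw]) hcnt
            rcases h with ⟨hf, hd⟩ | ⟨hf, hd⟩
            · have := hk2.2 hf; omega
            · have := hk2.1 hf; simp at hd; omega
        · refine ⟨w, fun θ hθ => ?_⟩
          have hwp : w < p := by
            by_contra h
            exact hcase ⟨not_lt.1 h, fun e => absurd e hp2⟩
          obtain ⟨γ, hs, hsum, hc, h⟩ := hup θ hθ
          have h1 := hvdeg hs hsum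
          have h2 := hbound hs hsum hc
          rw [hTdef, Nat.factorization_def _ hp, v_factorial_lt hwp, add_zero] at h2
          rcases h with ⟨-, hd⟩ | ⟨-, hd⟩
          · omega
          · rw [if_neg hp2] at hd; omega
      obtain ⟨c, hc⟩ := hsame
      intro θ hθ
      rw [Cfsg.blockHeight]
      obtain ⟨ψ, hψ, hh⟩ := Nat.sInf_mem (s := (fun ψ : Cfsg.IrrCharacter (alternatingGroup α) =>
        (Cfsg.charDegree (ψ : alternatingGroup α → ℂ)).factorization p) '' b) ⟨_, θ, hθ, rfl⟩
      rw [← hh]
      have := hc θ hθ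
      have := hc ψ hψ
      simp only [hV] at *
      omega
    · have hbot : w < p → (S : Subgroup (Equiv.Perm (Fin w))) = ⊥ := fun hwp => by
        refine Subgroup.card_eq_one.1 ?_
        rw [S.card_eq_multiplicity, Nat.card_perm, Nat.card_fin, Nat.factorization_def _ hp,
          v_factorial_lt hwp, pow_zero]
      by_cases hp2 : p = 2
      · subst hp2
        obtain ⟨φ⟩ := exists_iso_wreath hPQ ι hinj hran hsign (evenWreath _) inf_le_left fun g => by
          rw [evenWreath, Subgroup.mem_inf, Equiv.Perm.mem_alternatingGroup]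
          exact and_iff_right g.2
        refine isPGroup_commute_of_iso φ fun g h => Subtype.ext ?_
        by_cases hw : w = 2
        · subst hw
          exact evenWreath_two_commute g.2 h.2
        · have hwp : w < 2 := by
            by_contra h'
            exact hcase ⟨by omega, fun _ => by omega⟩
          exact wreath_commute (hbot hwp) g.2.1 h.2.1
      · obtain ⟨φ⟩ := exists_iso_wreath hPQ ι hinj hran hsign _ le_rfl fun g => by
          refine iff_of_true g.2 ?_
          exact even_of_pow_odd (hp.odd_of_ne_two hp2) (wreath_isPGroup S.2)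
            (Equiv.Perm.sign.comp (Subgroup.subtype _)) g
        have hwp : w < p := by
          by_contra h
          exact hcase ⟨not_lt.1 h, fun e => absurd e hp2⟩
        exact isPGroup_commute_of_iso φ fun g h => Subtype.ext (wreath_commute (hbot hwp) g.2 h.2)
where
  resCount_twin_two {N : ℕ} {γ δ : Fin N → ℕ} (hs : StrictMono γ) (hs' : StrictMono δ)
      (hsum : ∑ i, γ i = Fintype.card α + ∑ i, delta N i)
      (hsum' : ∑ i, δ i = Fintype.card α + ∑ i, delta N i) (h : IsTwin γ δ)
      (_hN : Fintype.card α ≤ N) (r : ZMod 2) : resCount 2 δ r = resCount 2 γ r := by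
    have h1 := resCount_twin (p := 2) hs h hs' r
    have hall : ∀ {β : Fin N → ℕ}, resCount 2 β 0 + resCount 2 β 1 = N := fun {β} => by
      have := (Finset.card_eq_sum_card_fiberwise (f := fun i : Fin N => (β i : ZMod 2))
        (s := univ) (t := ({0, 1} : Finset (ZMod 2))) fun i _ => by
          have := zmod_two_cases (β i : ZMod 2)
          simpa using this)
      rw [Finset.sum_pair zero_ne_one, card_univ, Fintype.card_fin] at this
      exact this.symm
    have hcount : ∀ m : ℕ, ∀ c : ZMod 2,
        ((range (2 * m)).filter fun x : ℕ => (x : ZMod 2) = c).card = m := by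
      intro m c
      induction m with
      | zero => simp
      | succ m ih =>
        rw [show 2 * (m + 1) = (2 * m + 1) + 1 by ring, Finset.range_add_one, Finset.range_add_one,
          Finset.filter_insert, Finset.filter_insert]
        have e0 : ((2 * m : ℕ) : ZMod 2) = 0 := (ZMod.natCast_eq_zero_iff _ _).2 ⟨m, rfl⟩
        have e1 : ((2 * m + 1 : ℕ) : ZMod 2) = 1 := by rw [Nat.cast_add, e0, zero_add, Nat.cast_one]
        rw [e0, e1]
        rcases zmod_two_cases c with hc | hc <;> subst hc
        · rw [if_neg one_ne_zero, if_pos rfl, card_insert_of_notMem (by simp), ih]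
        · rw [if_pos rfl, if_neg zero_ne_one, card_insert_of_notMem (by simp), ih]
    rw [hcount] at h1
    have hone : ((2 * N - 1 : ℕ) : ZMod 2) = 1 ∨ N = 0 := by
      rcases Nat.eq_zero_or_pos N with h0 | h0
      · exact Or.inr h0
      · exact Or.inl (((ZMod.natCast_eq_natCast_iff' (2 * N - 1) 1 2).2 (by omega)).trans Nat.cast_one)
    have g1 := hall (β := γ)
    have g2 := hall (β := δ)
    rcases hone with hone | hN0
    · rw [pr, hone] at h1
      rcases zmod_two_cases r with hr | hr <;> subst hr
      · rw [sub_zero] at h1; omega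
      · rw [sub_self] at h1; omega
    · rcases zmod_two_cases r with hr | hr <;> subst hr <;> omega

end Cfsg.Lib.SymBlocks
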