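import Cfsg.Agent.SymBlocks.Content
import Cfsg.Agent.Chars.IrrTools

/-!
# The sign twist of `psi γ`

If `psi δ = sgn * psi γ` then the exponent sets of `γ` and `δ` are exchanged by complementing and
reflecting inside `{0, …, 2N - 1}`.
-/

set_option autoImplicit false
set_option linter.unusedSectionVars false

namespace Cfsg.Lib.SymBlocks

open Finset Polynomial

universe u

variable {α : Type u} [Fintype α] [DecidableEq α] {N : ℕ}

/-- The number of orbits in terms of the cycle type. -/
theorem norb_eq_cycleType (g : Equiv.Perm α) :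
    norb g + g.support.card = Fintype.card α + g.cycleType.card := by
  classical
  have hcard : g.cycleType.card = g.cycleFactorsFinset.card := by
    rw [Equiv.Perm.cycleType_def, Multiset.card_map]
    rfl
  let F : Orb g → {a // g a = a} ⊕ {c // c ∈ g.cycleFactorsFinset} := Quotient.lift
    (fun a => if h : g a = a then Sum.inl ⟨a, h⟩ else Sum.inr ⟨g.cycleOf a,
      Equiv.Perm.cycleOf_mem_cycleFactorsFinset_iff.2 (Equiv.Perm.mem_support.2 h)⟩)
    (fun a b (hab : g.SameCycle a b) => by
      by_cases ha : g a = a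
      · have hb : b = a := ((Equiv.Perm.SameCycle.eq_of_left hab) ha).symm
        subst hb
        rfl
      · have hb : g b ≠ b := fun hb => ha (by rwa [hab.eq_of_right hb])
        simp only [dif_neg ha, dif_neg hb, hab.cycleOf_eq])
  have hF : Function.Bijective F := by
    constructor
    · intro x y
      refine Quotient.inductionOn₂ x y fun a b h => Quotient.sound ?_
      show g.SameCycle a b
      simp only [F, Quotient.lift_mk] at h
      split_ifs at h with ha hb hb
      · rw [Subtype.mk.inj (Sum.inl.inj h)]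
      · have := congrArg Subtype.val (Sum.inr.inj h)
        simp only at this
        have h1 : b ∈ (g.cycleOf a).support := by
          rw [this, Equiv.Perm.mem_support_cycleOf_iff]
          exact ⟨Equiv.Perm.SameCycle.refl g b, Equiv.Perm.mem_support.2 hb⟩
        rw [Equiv.Perm.mem_support_cycleOf_iff] at h1
        exact h1.1
    · rintro (⟨a, ha⟩ | ⟨c, hc⟩)
      · exact ⟨Quotient.mk _ a, by simp [F, ha]⟩
      · obtain ⟨a, ha⟩ := (Equiv.Perm.mem_cycleFactorsFinset_iff.1 hc).1.nonempty_support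
        have hga : g a ≠ a := by
          rw [← (Equiv.Perm.mem_cycleFactorsFinset_iff.1 hc).2 a ha]
          exact Equiv.Perm.mem_support.1 ha
        refine ⟨Quotient.mk _ a, ?_⟩
        simp only [F, Quotient.lift_mk, dif_neg hga]
        exact congrArg Sum.inr (Subtype.ext (Equiv.Perm.cycle_is_cycleOf ha hc).symm)
  rw [norb, Nat.card_eq_of_bijective F hF, Nat.card_sum, Nat.card_eq_finsetCard,
    Nat.card_eq_fintype_card, Fintype.card_subtype, hcard]
  have hsupp : (univ.filter fun a => g a = a).card + g.support.card = Fintype.card α := by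
    have := Finset.card_filter_add_card_filter_not (s := (univ : Finset α)) (fun a => g a = a)
    exact this
  omega

theorem sign_eq_norb (g : Equiv.Perm α) :
    (Equiv.Perm.sign g : ℤ) = (-1) ^ (Fintype.card α + norb g) := by
  rw [Equiv.Perm.sign_of_cycleType, Units.val_pow_eq_pow_val, Equiv.Perm.sum_cycleType]
  have := norb_eq_cycleType g
  refine neg_one_pow_congr ?_
  simp only [Nat.even_add]
  have h2 : Even (norb g + g.support.card) ↔ Even (Fintype.card α + g.cycleType.card) := by
    rw [this]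
  simp only [Nat.even_add] at h2
  tauto

/-- The number of roots `-m` of the content polynomial. -/
def cntZ (β : Fin N → ℕ) (m : ℤ) : ℕ := (univ.filter fun i => 0 ≤ m ∧ m < (β i : ℤ)).card

theorem ascPochhammer_eq_prod (b : ℕ) :
    (ascPochhammer ℤ b) = ((Multiset.range b).map fun m : ℕ => X - C (-(m : ℤ))).prod := by
  induction b with
  | zero => simp
  | succ b ih =>
    rw [ascPochhammer_succ_right, ih, Multiset.range_succ, Multiset.map_cons, Multiset.prod_cons,
      mul_comm]
    simp [sub_neg_eq_add]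

theorem count_range_map (b : ℕ) (f : ℕ → ℤ) (hf : Function.Injective f) (z : ℤ) :
    Multiset.count z ((Multiset.range b).map f) = if ∃ m < b, f m = z then 1 else 0 := by
  split_ifs with h
  · obtain ⟨m, hm, rfl⟩ := h
    exact Multiset.count_eq_one_of_mem ((Multiset.nodup_range b).map hf)
      (Multiset.mem_map.2 ⟨m, Multiset.mem_range.2 hm, rfl⟩)
  · rw [Multiset.count_eq_zero, Multiset.mem_map]
    rintro ⟨m, hm, he⟩
    exact h ⟨m, Multiset.mem_range.1 hm, he⟩

theorem contPoly_ne_zero (β : Fin N → ℕ) : contPoly N β ≠ 0 :=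
  Finset.prod_ne_zero_iff.2 fun i _ => (monic_ascPochhammer ℤ _).ne_zero

theorem count_roots_contPoly (β : Fin N → ℕ) (z : ℤ) :
    Multiset.count z (contPoly N β).roots = cntZ β (-z) := by
  rw [contPoly, roots_prod _ _ (contPoly_ne_zero β), Multiset.count_bind, Finset.sum_map_val, cntZ,
    Finset.card_filter]
  refine Finset.sum_congr rfl fun i _ => ?_
  rw [ascPochhammer_eq_prod, show ((Multiset.range (β i)).map fun m : ℕ => X - C (-(m : ℤ))) =
      ((Multiset.range (β i)).map fun m : ℕ => -(m : ℤ)).map fun a => X - C a from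
      (by rw [Multiset.map_map]; rfl), roots_multiset_prod_X_sub_C, count_range_map _ _ (fun a b h => by simpa using h)]
  refine if_congr ⟨?_, ?_⟩ rfl rfl
  · rintro ⟨m, hm, rfl⟩; constructor <;> omega
  · rintro ⟨h1, h2⟩
    exact ⟨(-z).toNat, by omega, by omega⟩

theorem count_roots_contPoly_comp (β : Fin N → ℕ) (c : ℤ) (z : ℤ) :
    Multiset.count z ((contPoly N β).comp (-X - C c)).roots = cntZ β (z + c) := by
  have h : (contPoly N β).comp (-X - C c) =
      C (∏ i, (-1 : ℤ) ^ β i) *
        ∏ i, ((Multiset.range (β i)).map fun m : ℕ => X - C ((m : ℤ) - c)).prod := by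
    rw [contPoly, Polynomial.prod_comp, map_prod, ← Finset.prod_mul_distrib]
    refine Finset.prod_congr rfl fun i _ => ?_
    induction β i with
    | zero => simp
    | succ b ih =>
      rw [ascPochhammer_succ_right, mul_comp, ih, Multiset.range_succ, Multiset.map_cons,
        Multiset.prod_cons, pow_succ, map_mul]
      simp
      ring
  have hne : ∀ i ∈ (univ : Finset (Fin N)),
      ((Multiset.range (β i)).map fun m : ℕ => X - C ((m : ℤ) - c)).prod ≠ 0 := fun i _ =>
    (monic_multiset_prod_of_monic _ _ fun m _ => monic_X_sub_C _).ne_zero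
  rw [h, roots_C_mul _ (Finset.prod_ne_zero_iff.2 fun i _ => pow_ne_zero _ (by norm_num)),
    roots_prod _ _ (Finset.prod_ne_zero_iff.2 hne), Multiset.count_bind, Finset.sum_map_val, cntZ,
    Finset.card_filter]
  refine Finset.sum_congr rfl fun i _ => ?_
  rw [show ((Multiset.range (β i)).map fun m : ℕ => X - C ((m : ℤ) - c)) =
      ((Multiset.range (β i)).map fun m : ℕ => (m : ℤ) - c).map fun a => X - C a from
      (by rw [Multiset.map_map]; rfl), roots_multiset_prod_X_sub_C, count_range_map _ _ (fun a b h => by simpa using h)]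
  refine if_congr ⟨?_, ?_⟩ rfl rfl
  · rintro ⟨m, hm, rfl⟩; constructor <;> omega
  · rintro ⟨h1, h2⟩
    exact ⟨(z + c).toNat, by omega, by omega⟩

theorem cntZ_sub (β : Fin N → ℕ) (hβ : Function.Injective β) (m : ℤ) :
    (cntZ β (m - 1) : ℤ) - cntZ β m =
      (if ∃ i, (β i : ℤ) = m then 1 else 0) - (if m = 0 then (N : ℤ) else 0) := by
  have h1 : (if ∃ i, (β i : ℤ) = m then (1 : ℤ) else 0) =
      ∑ i, if (β i : ℤ) = m then 1 else 0 := by
    split_ifs with h
    · obtain ⟨i, hi⟩ := h
      rw [Finset.sum_eq_single i (fun j _ hj => if_neg fun e => hj (hβ (by omega)))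
        (fun h => absurd (mem_univ i) h), if_pos hi]
    · exact (Finset.sum_eq_zero fun i _ => if_neg fun e => h ⟨i, e⟩).symm
  have h2 : (if m = 0 then (N : ℤ) else 0) = ∑ _i : Fin N, if m = 0 then (1 : ℤ) else 0 := by
    split_ifs <;> simp
  rw [h1, h2, cntZ, cntZ, Finset.card_filter, Finset.card_filter]
  push_cast
  rw [← Finset.sum_sub_distrib, ← Finset.sum_sub_distrib]
  refine Finset.sum_congr rfl fun i _ => ?_
  split_ifs <;> omega

/-- The reflected complement inside `{0, …, 2N - 1}`. -/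
def refl2 (N : ℕ) (P : Finset ℕ) : Finset ℕ := (range (2 * N)).filter fun x => 2 * N - 1 - x ∉ P

theorem mem_refl2 {P : Finset ℕ} {x : ℕ} : x ∈ refl2 N P ↔ x < 2 * N ∧ 2 * N - 1 - x ∉ P := by
  simp [refl2]

/-- `δ` is the twin of `γ`. -/
def IsTwin (γ δ : Fin N → ℕ) : Prop :=
  univ.image δ = refl2 N (univ.image γ) ∧ ∀ i, γ i < 2 * N

theorem twin_of_sign {γ δ : Fin N → ℕ} (hs : StrictMono γ)
    (hγ : ∑ i, γ i = Fintype.card α + ∑ i, delta N i) (hs' : StrictMono δ)
    (hδ : ∑ i, δ i = Fintype.card α + ∑ i, delta N i)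
    (h : ∀ g : Equiv.Perm α, psiZ δ g = (Equiv.Perm.sign g : ℤ) * psiZ γ g) : IsTwin γ δ := by
  obtain ⟨R, hR, -⟩ := exists_ratio (α := α) hs hγ
  obtain ⟨S, hS, -⟩ := exists_ratio (α := α) hs' hδ
  have hd : psiZ δ (1 : Equiv.Perm α) = psiZ γ (1 : Equiv.Perm α) := by
    rw [h, map_one, Units.val_one, one_mul]
  have horb : orbPoly α δ = C ((-1 : ℤ) ^ Fintype.card α) * (orbPoly α γ).comp (-X) := by
    rw [orbPoly, orbPoly, Polynomial.sum_comp, Finset.mul_sum]
    refine Finset.sum_congr rfl fun g _ => ?_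
    rw [mul_comp, C_comp, pow_comp, X_comp, neg_pow (X : ℤ[X]), h g, sign_eq_norb, pow_add, map_mul, map_mul,
      map_pow, map_pow, map_neg, map_one]
    ring
  have hSR : S = C ((-1 : ℤ) ^ Fintype.card α) * R.comp (-X) := by
    rw [hS, hR, mul_comp, C_comp, hd, mul_left_comm] at horb
    exact mul_left_cancel₀ (by rw [Ne, C_eq_zero]; exact (psiZ_one_pos hs hγ).ne') horb
  have h1 := contPoly_eq_of_ratio hs hγ hR
  have h2 := contPoly_eq_of_ratio hs' hδ hS
  set M : ℤ := ((N - 1 : ℕ) : ℤ) with hM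
  have h3 : (contPoly N γ).comp (-X - C (2 * M)) =
      R.comp (-X - C M) * (contPoly N (delta N)).comp (-X - C (2 * M)) := by
    rw [← h1, mul_comp, comp_assoc, add_comp, X_comp, C_comp]
    congr 2
    rw [map_mul, map_ofNat]
    ring
  have h4 : contPoly N δ * (contPoly N (delta N)).comp (-X - C (2 * M)) =
      C ((-1 : ℤ) ^ Fintype.card α) *
        ((contPoly N γ).comp (-X - C (2 * M)) * contPoly N (delta N)) := by
    rw [h3, ← h2, hSR, mul_comp, C_comp, comp_assoc, neg_comp, X_comp,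
      show -(X + C M) = (-X - C M : ℤ[X]) by ring]
    ring
  have hne : ∀ (β : Fin N → ℕ), (contPoly N β).comp (-X - C (2 * M)) ≠ 0 := by
    intro β e
    rcases comp_eq_zero_iff.1 e with e' | ⟨-, e'⟩
    · exact contPoly_ne_zero β e'
    · have := congrArg (fun q : ℤ[X] => q.coeff 1) e'
      simp at this
  have key : ∀ m : ℤ, cntZ δ m + cntZ (delta N) (2 * M - m) =
      cntZ γ (2 * M - m) + cntZ (delta N) m := by
    intro m
    have := congrArg (fun q => Multiset.count (-m) q) (congrArg Polynomial.roots h4)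
    rw [roots_C_mul _ (pow_ne_zero _ (by norm_num)),
      roots_mul (mul_ne_zero (contPoly_ne_zero _) (hne _)),
      roots_mul (mul_ne_zero (hne _) (contPoly_ne_zero _)), Multiset.count_add, Multiset.count_add,
      count_roots_contPoly, count_roots_contPoly, count_roots_contPoly_comp,
      count_roots_contPoly_comp, neg_neg, show -m + 2 * M = 2 * M - m by ring] at this
    exact this
  have hinj : Function.Injective (delta N) := fun a b e => Fin.ext e
  have hiff : ∀ m k : ℤ, m + k = 2 * (N : ℤ) - 1 →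
      (if ∃ i, (δ i : ℤ) = m then (1 : ℤ) else 0) + (if ∃ i, (γ i : ℤ) = k then (1 : ℤ) else 0) =
      if 0 ≤ m ∧ m < 2 * (N : ℤ) then 1 else 0 := by
    intro m k hmk
    rcases Nat.eq_zero_or_pos N with hN | hN
    · subst hN
      rw [if_neg fun ⟨i, _⟩ => i.elim0, if_neg fun ⟨i, _⟩ => i.elim0, if_neg (by omega), add_zero]
    have hMk : M = (N : ℤ) - 1 := by rw [hM]; omega
    have k1 := key (m - 1)
    have k2 := key m
    rw [show 2 * M - (m - 1) = k by omega] at k1
    rw [show 2 * M - m = k - 1 by omega] at k2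
    have a1 := cntZ_sub δ hs'.injective m
    have a2 := cntZ_sub γ hs.injective k
    have a3 := cntZ_sub (delta N) hinj m
    have a4 := cntZ_sub (delta N) hinj k
    have hz : ∀ x : ℤ, (if ∃ i, ((delta N i : ℕ) : ℤ) = x then (1 : ℤ) else 0) =
        if 0 ≤ x ∧ x < (N : ℤ) then 1 else 0 := fun x => if_congr ⟨fun ⟨i, hi⟩ => by
          have := i.isLt
          simp only [delta] at hi
          constructor <;> omega, fun ⟨h5, h6⟩ => ⟨⟨x.toNat, by omega⟩, by simp [delta]; omega⟩⟩ rfl rfl
    rw [hz] at a3 a4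
    have e5 : (if 0 ≤ m ∧ m < 2 * (N : ℤ) then (1 : ℤ) else 0) =
        (if 0 ≤ m ∧ m < (N : ℤ) then 1 else 0) + if 0 ≤ k ∧ k < (N : ℤ) then 1 else 0 := by
      split_ifs <;> omega
    rw [e5]
    omega
  refine ⟨?_, fun i => ?_⟩
  · ext x
    have := hiff (x : ℤ) (2 * (N : ℤ) - 1 - x) (by ring)
    rw [mem_refl2]
    simp only [mem_image, mem_univ, true_and]
    constructor
    · rintro ⟨i, rfl⟩
      rw [if_pos ⟨i, rfl⟩] at this
      refine ⟨?_, ?_⟩
      · by_contra hc
        rw [if_neg (show ¬ (0 ≤ (δ i : ℤ) ∧ (δ i : ℤ) < 2 * (N : ℤ)) by omega)] at this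
        split_ifs at this <;> omega
      · rintro ⟨j, hj⟩
        have hlt : δ i < 2 * N := by
          by_contra hc
          rw [if_neg (show ¬ (0 ≤ (δ i : ℤ) ∧ (δ i : ℤ) < 2 * (N : ℤ)) by omega)] at this
          split_ifs at this <;> omega
        rw [if_pos ⟨j, by omega⟩] at this
        split_ifs at this <;> omega
    · rintro ⟨hx, hno⟩
      rw [if_neg (show ¬ ∃ i, (γ i : ℤ) = 2 * (N : ℤ) - 1 - x from fun ⟨j, hj⟩ => hno ⟨j, by omega⟩),
        if_pos (show 0 ≤ (x : ℤ) ∧ (x : ℤ) < 2 * (N : ℤ) by omega)] at this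
      by_contra hc
      rw [if_neg (fun ⟨i, hi⟩ => hc ⟨i, by omega⟩)] at this
      omega
  · have := hiff (2 * (N : ℤ) - 1 - γ i) (γ i : ℤ) (by ring)
    rw [if_pos (show ∃ j, (γ j : ℤ) = (γ i : ℤ) from ⟨i, rfl⟩)] at this
    by_contra hc
    rw [if_neg (show ¬ (0 ≤ 2 * (N : ℤ) - 1 - γ i ∧ _) from fun h => by omega)] at this
    split_ifs at this <;> omega

/-- The sign character. -/
def sgnHom (α : Type u) [Fintype α] [DecidableEq α] : Equiv.Perm α →* ℂˣ :=
  (Units.map (Int.castRingHom ℂ : ℤ →* ℂ)).comp Equiv.Perm.sign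

theorem isIrr_sign_mul (χ : Cfsg.IrrCharacter (Equiv.Perm α)) :
    Cfsg.IsIrrCharacter (Equiv.Perm α)
      (fun g => ((Equiv.Perm.sign g : ℤ) : ℂ) * (χ : Equiv.Perm α → ℂ) g) := by
  have hlin := Cfsg.Lib.Chars.isCharacter_linear (sgnHom α)
  have hval : ∀ g, ((sgnHom α g : ℂˣ) : ℂ) = ((Equiv.Perm.sign g : ℤ) : ℂ) := fun g => rfl
  refine Cfsg.Lib.Chars.irr_of_mul_irr hlin
    (Cfsg.Lib.Chars.IsCharacter.mul (χ := fun g => ((sgnHom α g : ℂˣ) : ℂ)) hlin
      (Cfsg.Lib.Chars.isCharacter_of_irr χ.2)) ?_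
  convert χ.2 using 1
  funext g
  simp only [Pi.mul_apply, hval, ← mul_assoc, ← Int.cast_mul, ← Units.val_mul, Int.units_mul_self,
    Units.val_one, Int.cast_one, one_mul]

theorem exists_twin {γ : Fin N → ℕ} (hN : Fintype.card α ≤ N) (hs : StrictMono γ)
    (hγ : ∑ i, γ i = Fintype.card α + ∑ i, delta N i) :
    ∃ δ : Fin N → ℕ, StrictMono δ ∧ ∑ i, δ i = Fintype.card α + ∑ i, delta N i ∧ IsTwin γ δ ∧
      ∀ g : Equiv.Perm α, psiZ δ g = (Equiv.Perm.sign g : ℤ) * psiZ γ g := by
  obtain ⟨δ, hs', hδ, he⟩ := exists_psi_eq hN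
    ⟨_, isIrr_sign_mul ⟨psi (α := α) γ, isIrr_psi hs hγ⟩⟩
  have h : ∀ g : Equiv.Perm α, psiZ δ g = (Equiv.Perm.sign g : ℤ) * psiZ γ g := fun g => by
    have := congrFun he g
    simp only [psi] at this
    exact_mod_cast this.symm
  exact ⟨δ, hs', hδ, twin_of_sign hs hγ hs' hδ h, h⟩

theorem eq_of_image_eq {γ δ : Fin N → ℕ} (hs : StrictMono γ) (hs' : StrictMono δ)
    (h : univ.image γ = univ.image δ) : γ = δ := by
  refine (hs.range_inj hs').1 ?_
  have := congrArg (fun S : Finset ℕ => (S : Set ℕ)) h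
  simpa using this

end Cfsg.Lib.SymBlocks
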