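import Cfsg.Agent.SymBlocks.Count
import Cfsg.Agent.SymBlocks.Twin

/-!
# Counting configurations fixed by the twist

For a configuration equal to its reflected complement the weight is carried by the classes of
representatives (twice the excess) and by the upper half of the middle class (an odd length).
-/

set_option autoImplicit false
set_option linter.unusedSectionVars false

namespace Cfsg.Lib.SymBlocks

open Finset

variable {N p : ℕ} [NeZero p]

/-- The class exchanged with `r` by the reflection. -/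
def pr (N p : ℕ) (r : ZMod p) : ZMod p := ((2 * N - 1 : ℕ) : ZMod p) - r

theorem cast_reflect {x : ℕ} (hx : x < 2 * N) :
    ((2 * N - 1 - x : ℕ) : ZMod p) = pr N p (x : ZMod p) := by
  rw [pr, Nat.cast_sub (by omega)]

theorem pr_pr (r : ZMod p) : pr N p (pr N p r) = r := by rw [pr, pr, sub_sub_cancel]

/-- `P` is downward closed in the class `r`. -/
def ClosedAt (p : ℕ) (r : ZMod p) (P : Finset ℕ) : Prop :=
  ∀ x ∈ P, (x : ZMod p) = r → ∀ y < x, (y : ZMod p) = r → y ∈ P

theorem closedAt_refl2 {r : ZMod p} {P : Finset ℕ} (h : ClosedAt p (pr N p r) P) :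
    ClosedAt p r (refl2 N P) := by
  intro x hx hxr y hy hyr
  rw [mem_refl2] at hx ⊢
  refine ⟨by omega, fun hmem => hx.2 (h _ hmem ?_ _ (by omega) ?_)⟩
  · rw [cast_reflect (by omega), hyr]
  · rw [cast_reflect hx.1, hxr]

theorem mem_iff_of_closed {r : ZMod p} {P Q : Finset ℕ} (hP : ClosedAt p r P) (hQ : ClosedAt p r Q)
    (hc : (P.filter fun x : ℕ => (x : ZMod p) = r).card = (Q.filter fun x : ℕ => (x : ZMod p) = r).card)
    {x : ℕ} (hx : (x : ZMod p) = r) : x ∈ P → x ∈ Q := by
  intro hxP
  by_contra hxQ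
  refine absurd hc (Nat.ne_of_gt (Finset.card_lt_card (Finset.ssubset_iff_of_subset ?_ |>.2
    ⟨x, mem_filter.2 ⟨hxP, hx⟩, fun h => hxQ (mem_filter.1 h).1⟩)))
  intro y hy
  rw [mem_filter] at hy ⊢
  refine ⟨hP x hxP hx y ?_ hy.2, hy.2⟩
  by_contra hc'
  rcases eq_or_lt_of_le (le_of_not_gt hc') with h | h
  · exact hxQ (h ▸ hy.1)
  · exact hxQ (hQ y hy.1 hy.2 x h hx)

theorem eq_of_closed {P Q : Finset ℕ} (hP : ∀ r : ZMod p, ClosedAt p r P)
    (hQ : ∀ r : ZMod p, ClosedAt p r Q)
    (hc : ∀ r : ZMod p, (P.filter fun x : ℕ => (x : ZMod p) = r).card =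
      (Q.filter fun x : ℕ => (x : ZMod p) = r).card) : P = Q := by
  ext x
  exact ⟨mem_iff_of_closed (hP _) (hQ _) (hc _) (rfl : (x : ZMod p) = _),
    mem_iff_of_closed (hQ _) (hP _) (hc _).symm (rfl : (x : ZMod p) = _)⟩

theorem card_filter_image {γ : Fin N → ℕ} (h : Function.Injective γ) (r : ZMod p) :
    ((univ.image γ).filter fun x : ℕ => (x : ZMod p) = r).card = resCount p γ r := by
  rw [Finset.filter_image, Finset.card_image_of_injective _ h]
  rfl

theorem card_filter_refl2 {P : Finset ℕ} (hP : P ⊆ range (2 * N)) (r : ZMod p) :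
    ((refl2 N P).filter fun x : ℕ => (x : ZMod p) = r).card +
      (P.filter fun x : ℕ => (x : ZMod p) = pr N p r).card =
      ((range (2 * N)).filter fun x : ℕ => (x : ZMod p) = r).card := by
  have h1 : ((range (2 * N)).filter fun x : ℕ => (x : ZMod p) = r ∧ 2 * N - 1 - x ∈ P).card =
      (P.filter fun x : ℕ => (x : ZMod p) = pr N p r).card := by
    refine Finset.card_nbij' (fun x => 2 * N - 1 - x) (fun x => 2 * N - 1 - x) ?_ ?_ ?_ ?_
    · intro x hx
      rw [Finset.mem_coe, mem_filter, mem_range] at hx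
      rw [Finset.mem_coe, mem_filter]
      exact ⟨hx.2.2, by rw [cast_reflect hx.1, hx.2.1]⟩
    · intro x hx
      rw [Finset.mem_coe, mem_filter] at hx
      have hlt := mem_range.1 (hP hx.1)
      rw [Finset.mem_coe, mem_filter, mem_range]
      simp only
      refine ⟨by omega, by rw [cast_reflect hlt, hx.2, pr_pr], ?_⟩
      rw [show 2 * N - 1 - (2 * N - 1 - x) = x by omega]
      exact hx.1
    · intro x hx
      rw [Finset.mem_coe, mem_filter, mem_range] at hx
      show 2 * N - 1 - (2 * N - 1 - x) = x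
      omega
    · intro x hx
      rw [Finset.mem_coe, mem_filter] at hx
      have := mem_range.1 (hP hx.1)
      show 2 * N - 1 - (2 * N - 1 - x) = x
      omega
  rw [← h1, refl2, Finset.filter_filter, ← Finset.card_union_of_disjoint, ← Finset.filter_or]
  · refine congrArg Finset.card (Finset.filter_congr fun x _ => ?_)
    constructor
    · rintro (h | h)
      exacts [h.2, h.1]
    · intro h
      by_cases hx : 2 * N - 1 - x ∈ P
      exacts [Or.inr ⟨h, hx⟩, Or.inl ⟨hx, h⟩]
  · rw [Finset.disjoint_left]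
    intro x hx hx'
    exact (mem_filter.1 hx).2.1 (mem_filter.1 hx').2.2

theorem isPacked_iff_closedAt {r₀ : ZMod p} {γ : Fin N → ℕ} (hs : StrictMono γ) :
    IsPacked p r₀ γ ↔ ClosedAt p r₀ (univ.image γ) := by
  constructor
  · intro hpk x hx hxr y hy hyr
    obtain ⟨i, -, rfl⟩ := mem_image.1 hx
    have h1 := eq_val_add_mul (p := p) (γ i)
    have h2 := eq_val_add_mul (p := p) y
    rw [hxr] at h1
    rw [hyr] at h2
    have hlt : y / p < resCount p γ r₀ := by
      refine Nat.div_lt_of_lt_mul (hy.trans (hpk i hxr))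
    obtain ⟨j, hjr, hjk⟩ := exists_rk (γ := γ) r₀ hlt
    refine mem_image.2 ⟨j, mem_univ _, ?_⟩
    have h3 := eq_coreOf_add (p := p) hs j
    rw [excess_eq_zero_of_packed hs hpk hjr, mul_zero, add_zero, coreOf, hjr, hjk] at h3
    omega
  · intro h i hi
    have h1 := eq_val_add_mul (p := p) (γ i)
    rw [hi] at h1
    have hv : r₀.val < p := ZMod.val_lt r₀
    have hsub : (range (γ i / p + 1)).image (fun k => r₀.val + p * k) ⊆
        (univ.image γ).filter fun x : ℕ => (x : ZMod p) = r₀ := by
      intro x hx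
      obtain ⟨k, hk, rfl⟩ := mem_image.1 hx
      rw [mem_range] at hk
      have hcast : ((r₀.val + p * k : ℕ) : ZMod p) = r₀ := by
        rw [Nat.cast_add, Nat.cast_mul, ZMod.natCast_self, zero_mul, add_zero, ZMod.natCast_zmod_val]
      refine mem_filter.2 ⟨?_, hcast⟩
      rcases Nat.lt_or_ge k (γ i / p) with hlt | hge
      · have := Nat.mul_lt_mul_of_pos_left hlt (Nat.pos_of_ne_zero (NeZero.ne p))
        exact h (γ i) (mem_image_of_mem γ (mem_univ i)) hi _ (by omega) hcast
      · rw [show k = γ i / p by omega, ← h1]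
        exact mem_image_of_mem γ (mem_univ i)
    have hc := Finset.card_le_card hsub
    rw [card_filter_image hs.injective, Finset.card_image_of_injective _ (fun a b e => by
      have := Nat.eq_of_mul_eq_mul_left (Nat.pos_of_ne_zero (NeZero.ne p)) (Nat.add_left_cancel e)
      exact this), card_range] at hc
    have := Nat.mul_le_mul_left p hc
    rw [Nat.mul_succ] at this
    omega

theorem closedAt_coreOf (γ : Fin N → ℕ) (r : ZMod p) :
    ClosedAt p r (univ.image (coreOf p γ)) := by
  intro x hx hxr y hy hyr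
  obtain ⟨i, -, rfl⟩ := mem_image.1 hx
  have hir : (γ i : ZMod p) = r := by
    rw [← hxr, coreOf]
    simp
  rw [coreOf, hir] at hy
  have h2 := eq_val_add_mul (p := p) y
  rw [hyr] at h2
  have hlt : y / p < rk p γ i :=
    lt_of_mul_lt_mul_left (a := p) (by omega) (Nat.zero_le _)
  obtain ⟨j, hjr, hjk⟩ := exists_rk (γ := γ) r (k := y / p)
    (hlt.trans (hir ▸ rk_lt_resCount γ i))
  exact mem_image.2 ⟨j, mem_univ _, by rw [coreOf, hjr, hjk, ← h2]⟩

theorem cast_coreOf (γ : Fin N → ℕ) (i : Fin N) : (coreOf p γ i : ZMod p) = γ i := by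
  rw [coreOf]; simp

theorem resCount_coreOf (γ : Fin N → ℕ) (r : ZMod p) :
    resCount p (coreOf p γ) r = resCount p γ r :=
  congrArg Finset.card (Finset.filter_congr fun i _ => by rw [cast_coreOf])

/-- A configuration equal to its reflected complement. -/
def IsFixedConf (N : ℕ) (γ : Fin N → ℕ) : Prop := univ.image γ = refl2 N (univ.image γ)

theorem IsFixedConf.lt {γ : Fin N → ℕ} (h : IsFixedConf N γ) (i : Fin N) : γ i < 2 * N := by
  have h1 := mem_image_of_mem γ (mem_univ i)
  rw [h] at h1
  exact (mem_refl2.1 h1).1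

theorem refl2_core {γ : Fin N → ℕ} (hs : StrictMono γ) (h : IsFixedConf N γ) :
    refl2 N (univ.image (coreOf p γ)) = univ.image (coreOf p γ) := by
  have hsub : univ.image (coreOf p γ) ⊆ range (2 * N) := by
    intro x hx
    obtain ⟨i, -, rfl⟩ := mem_image.1 hx
    have := eq_coreOf_add (p := p) hs i
    have := h.lt i
    rw [mem_range]
    omega
  have hsub' : univ.image γ ⊆ range (2 * N) := fun x hx => by
    obtain ⟨i, -, rfl⟩ := mem_image.1 hx
    exact mem_range.2 (h.lt i)
  refine eq_of_closed (fun r => closedAt_refl2 (closedAt_coreOf γ _)) (closedAt_coreOf γ) fun r => ?_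
  have h1 := card_filter_refl2 (p := p) hsub r
  have h2 := card_filter_refl2 (p := p) hsub' r
  rw [← h] at h2
  rw [card_filter_image (coreOf_injective γ), resCount_coreOf] at h1 ⊢
  rw [card_filter_image hs.injective, card_filter_image hs.injective] at h2
  omega

/-- Representatives of the pairs of exchanged classes. -/
def reps (N p : ℕ) [NeZero p] : Finset (ZMod p) := univ.filter fun r => r.val < (pr N p r).val

/-- A selection of one point from each pair `x, 2N - 1 - x`. -/
def Sel (N p : ℕ) [NeZero p] (x : ℕ) : Prop :=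
  (x : ZMod p) ∈ reps N p ∨ (pr N p (x : ZMod p) = (x : ZMod p) ∧ 2 * N - 1 < 2 * x)

instance (N p : ℕ) [NeZero p] : DecidablePred (Sel N p) := fun x =>
  inferInstanceAs (Decidable (_ ∨ _))

theorem sel_reflect {x : ℕ} (hx : x < 2 * N) : Sel N p (2 * N - 1 - x) ↔ ¬ Sel N p x := by
  rw [Sel, Sel, cast_reflect hx, reps, mem_filter, mem_filter, pr_pr]
  simp only [mem_univ, true_and]
  by_cases he : pr N p (x : ZMod p) = (x : ZMod p)
  · rw [he]
    simp only [lt_irrefl, false_or, true_and]
    omega
  · have hv : (pr N p (x : ZMod p)).val ≠ (x : ZMod p).val := fun e => he (ZMod.val_injective p e)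
    simp only [he, Ne.symm he, false_and, or_false]
    omega

theorem sum_of_fixed {P : Finset ℕ} (hP : refl2 N P = P) :
    ∑ x ∈ P, (x : ℤ) = ∑ x ∈ (range (2 * N)).filter (Sel N p), (2 * (N : ℤ) - 1 - x) +
      ∑ x ∈ P.filter (Sel N p), (2 * (x : ℤ) - (2 * (N : ℤ) - 1)) := by
  have hsub : P ⊆ range (2 * N) := hP ▸ Finset.filter_subset _ _
  have h1 : P = (range (2 * N)).filter (· ∈ P) := by
    ext x; simp only [mem_filter]; exact ⟨fun h => ⟨hsub h, h⟩, fun h => h.2⟩
  have h2 : P.filter (Sel N p) = ((range (2 * N)).filter (Sel N p)).filter (· ∈ P) := by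
    ext x
    simp only [mem_filter]
    exact ⟨fun h => ⟨⟨hsub h.1, h.2⟩, h.1⟩, fun h => ⟨h.2, h.1.2⟩⟩
  rw [h2]
  conv_lhs => rw [h1]
  rw [Finset.sum_filter, Finset.sum_filter (p := (· ∈ P)),
    ← Finset.sum_filter_add_sum_filter_not (range (2 * N)) (Sel N p)]
  have h3 : ∑ x ∈ (range (2 * N)).filter (fun x => ¬ Sel N p x), (if x ∈ P then (x : ℤ) else 0) =
      ∑ x ∈ (range (2 * N)).filter (Sel N p), if x ∈ P then 0 else (2 * (N : ℤ) - 1 - x) := by
    refine Finset.sum_nbij' (fun x => 2 * N - 1 - x) (fun x => 2 * N - 1 - x) ?_ ?_ ?_ ?_ ?_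
    · intro x hx
      rw [mem_filter, mem_range] at hx ⊢
      exact ⟨by omega, (sel_reflect hx.1).2 hx.2⟩
    · intro x hx
      rw [mem_filter, mem_range] at hx ⊢
      exact ⟨by omega, fun h => (sel_reflect hx.1).1 h hx.2⟩
    · intro x hx; rw [mem_filter, mem_range] at hx; omega
    · intro x hx; rw [mem_filter, mem_range] at hx; omega
    · intro x hx
      rw [mem_filter, mem_range] at hx
      have h4 : (x ∈ P) ↔ ¬ (2 * N - 1 - x ∈ P) := by
        conv_lhs => rw [← hP, mem_refl2]
        exact ⟨fun h => h.2, fun h => ⟨hx.1, h⟩⟩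
      by_cases hxP : x ∈ P
      · rw [if_pos hxP, if_neg (h4.1 hxP)]
        omega
      · rw [if_neg hxP, if_pos (not_not.1 fun h => hxP (h4.2 h))]
  rw [h3, ← Finset.sum_add_distrib, ← Finset.sum_add_distrib]
  refine Finset.sum_congr rfl fun x _ => ?_
  split_ifs <;> ring

/-- The length attached to an index of a fixed configuration. -/
def flen (p : ℕ) [NeZero p] (γ : Fin N → ℕ) (i : Fin N) : ℕ :=
  if (γ i : ZMod p) ∈ reps N p then 2 * excess p γ i
  else if Sel N p (γ i) then (2 * γ i - (2 * N - 1)) / p else 0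

theorem not_sel_of_closed {P : Finset ℕ} (hP : refl2 N P = P) {x : ℕ} (hx : x ∈ P)
    (hmid : pr N p (x : ZMod p) = (x : ZMod p)) (hc : ClosedAt p (x : ZMod p) P) :
    ¬ Sel N p x := by
  rintro (h | ⟨-, h⟩)
  · rw [reps, mem_filter, hmid] at h
    omega
  · have hlt : x < 2 * N := by rw [← hP] at hx; exact (mem_refl2.1 hx).1
    have h2 := hc x hx rfl (2 * N - 1 - x) (by omega) (by rw [cast_reflect hlt, hmid])
    rw [← hP] at hx
    exact (mem_refl2.1 hx).2 h2

theorem odd_len {γ : Fin N → ℕ} {i : Fin N} (hr : (γ i : ZMod p) ∉ reps N p)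
    (hsel : Sel N p (γ i)) : p * ((2 * γ i - (2 * N - 1)) / p) = 2 * γ i - (2 * N - 1) ∧
      ((2 * γ i - (2 * N - 1)) / p) % 2 = 1 := by
  obtain ⟨hm, hlt⟩ := hsel.resolve_left hr
  have hdvd : p ∣ 2 * γ i - (2 * N - 1) := by
    rw [← ZMod.natCast_eq_zero_iff, Nat.cast_sub hlt.le, Nat.cast_mul, Nat.cast_ofNat]
    rw [pr, sub_eq_iff_eq_add] at hm
    rw [hm]
    ring
  have h1 := Nat.mul_div_cancel' hdvd
  refine ⟨h1, ?_⟩
  generalize (2 * γ i - (2 * N - 1)) / p = q at h1 ⊢
  by_contra hq
  have : Even (p * q) := (Nat.even_iff.2 (by omega : q % 2 = 0)).mul_left p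
  rw [h1, Nat.even_iff] at this
  have := i.pos
  omega

theorem sum_flen {γ : Fin N → ℕ} (hs : StrictMono γ) (h : IsFixedConf N γ) :
    p * ∑ i, flen p γ i = p * ∑ i, excess p γ i := by
  set Q := univ.image (coreOf p γ) with hQ
  have e1 := sum_of_fixed (p := p) h.symm
  have e2 := sum_of_fixed (p := p) (refl2_core (p := p) hs h)
  rw [Finset.sum_image hs.injective.injOn, Finset.filter_image,
    Finset.sum_image hs.injective.injOn] at e1
  rw [Finset.sum_image (coreOf_injective γ).injOn, Finset.filter_image,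
    Finset.sum_image (coreOf_injective γ).injOn] at e2
  have e3 : ∑ i, (γ i : ℤ) - ∑ i, (coreOf p γ i : ℤ) = (p : ℤ) * ∑ i, (excess p γ i : ℤ) := by
    rw [← Finset.sum_sub_distrib, Finset.mul_sum]
    refine Finset.sum_congr rfl fun i _ => ?_
    conv_lhs => rw [eq_coreOf_add (p := p) hs i]
    push_cast
    ring
  have e4 : ((∑ i ∈ univ.filter (fun i => Sel N p (γ i)), (2 * (γ i : ℤ) - (2 * (N : ℤ) - 1))) -
      ∑ i ∈ univ.filter (fun i => Sel N p (coreOf p γ i)),
        (2 * (coreOf p γ i : ℤ) - (2 * (N : ℤ) - 1))) = (p : ℤ) * ∑ i, (flen p γ i : ℤ) := by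
    rw [Finset.sum_filter, Finset.sum_filter, ← Finset.sum_sub_distrib, Finset.mul_sum]
    refine Finset.sum_congr rfl fun i _ => ?_
    have hcast := cast_coreOf (p := p) γ i
    by_cases hr : (γ i : ZMod p) ∈ reps N p
    · rw [if_pos (show Sel N p (γ i) from Or.inl hr), if_pos (show Sel N p (coreOf p γ i) from Or.inl (by rwa [hcast])),
        flen, if_pos hr]
      conv_lhs => rw [eq_coreOf_add (p := p) hs i]
      push_cast
      ring
    · have hnc : ¬ Sel N p (coreOf p γ i) := by
        intro hsel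
        refine not_sel_of_closed (refl2_core (p := p) hs h) (mem_image_of_mem _ (mem_univ i))
          (hsel.resolve_left (by rwa [hcast])).1 (closedAt_coreOf γ _) hsel
      rw [if_neg hnc, sub_zero, flen, if_neg hr]
      split_ifs with hsel
      · have h5 := (odd_len hr hsel).1
        have h6 := (hsel.resolve_left hr).2
        generalize (2 * γ i - (2 * N - 1)) / p = q at h5 ⊢
        have h7 := congrArg (fun z : ℕ => (z : ℤ)) h5
        push_cast at h7
        have := i.pos
        rw [Nat.cast_sub h6.le, Nat.cast_mul, Nat.cast_sub (by omega : 1 ≤ 2 * N)] at h7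
        push_cast at h7
        linarith
      · simp
  have e5 : (p : ℤ) * ∑ i, (flen p γ i : ℤ) = (p : ℤ) * ∑ i, (excess p γ i : ℤ) := by
    rw [← e3, ← e4]
    linarith
  exact_mod_cast e5

theorem flen_even_of_packed {γ : Fin N → ℕ} (hs : StrictMono γ) (h : IsFixedConf N γ)
    (hpk : ∀ r, pr N p r = r → IsPacked p r γ) (i : Fin N) : 2 ∣ flen p γ i := by
  rw [flen]
  split_ifs with hr hsel
  · exact dvd_mul_right 2 _
  · obtain ⟨hm, -⟩ := hsel.resolve_left hr
    exact absurd hsel (not_sel_of_closed h.symm (mem_image_of_mem γ (mem_univ i)) hm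
      ((isPacked_iff_closedAt hs).1 (hpk _ hm)))
  · exact dvd_zero 2

/-- The colour of a block of a fixed configuration. -/
def fcol (p : ℕ) [NeZero p] (a : ZMod p) (γ : Fin N → ℕ) (i : Fin N) : ZMod p :=
  if (γ i : ZMod p) ∈ reps N p then (γ i : ZMod p) else a

/-- The data of a fixed configuration. -/
def fixData (p : ℕ) [NeZero p] (a : ZMod p) (γ : Fin N → ℕ) : List (ZMod p × ℕ) :=
  ((List.finRange N).filter fun i => flen p γ i ≠ 0).map fun i => (fcol p a γ i, flen p γ i - 1)

theorem mem_fixData {a : ZMod p} {γ : Fin N → ℕ} {b : ZMod p × ℕ} :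
    b ∈ fixData p a γ ↔ ∃ i, flen p γ i ≠ 0 ∧ fcol p a γ i = b.1 ∧ flen p γ i - 1 = b.2 := by
  rw [fixData, List.mem_map]
  simp only [List.mem_filter, List.mem_finRange, true_and, decide_eq_true_eq]
  exact ⟨fun ⟨i, h1, h2⟩ => ⟨i, h1, congrArg Prod.fst h2, congrArg Prod.snd h2⟩,
    fun ⟨i, h1, h2, h3⟩ => ⟨i, h1, Prod.ext h2 h3⟩⟩

theorem length_fixData (r₀ a : ZMod p) (γ : Fin N → ℕ) :
    ((fixData p a γ).flatMap (block r₀)).length = ∑ i, flen p γ i := by
  rw [List.length_flatMap, fixData, List.map_map, Fin.sum_univ_def]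
  induction List.finRange N with
  | nil => simp
  | cons c l ih =>
    rw [List.filter_cons]
    by_cases h : flen p γ c = 0
    · simpa [h] using ih
    · have h' : (decide (flen p γ c ≠ 0)) = true := by simpa using h
      rw [if_pos h']
      simp only [List.map_cons, List.sum_cons, Function.comp_apply, block, List.length_cons,
        List.length_replicate] at ih ⊢
      omega

theorem countP_fixData (a : ZMod p) (γ : Fin N → ℕ) {r : ZMod p} (hr : r ∈ reps N p) (v : ℕ) :
    (fixData p a γ).countP (fun b => decide (b.1 = r ∧ 2 * v + 1 ≤ b.2 ∧ (b.2 + 1) % 2 = 0)) =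
      (univ.filter fun i => (γ i : ZMod p) = r ∧ v + 1 ≤ excess p γ i).card := by
  rw [fixData, List.countP_map, List.countP_filter, List.countP_eq_length_filter, Finset.card_def,
    Finset.filter_val, Fin.univ_def, Multiset.filter_coe, Multiset.coe_card]
  congr 1
  refine List.filter_congr fun i _ => ?_
  simp only [Function.comp_apply, fcol, flen]
  by_cases hi : (γ i : ZMod p) ∈ reps N p
  · simp only [if_pos hi]
    by_cases h' : (γ i : ZMod p) = r
    · by_cases h'' : excess p γ i = 0 <;> simp [h', h''] <;>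
        (rw [← Bool.decide_and, decide_eq_decide]; omega)
    · simp [h']
  · have hne : (γ i : ZMod p) ≠ r := fun e => hi (e ▸ hr)
    simp only [if_neg hi]
    split_ifs with hsel
    · have h5 := (odd_len hi hsel).2
      generalize (2 * γ i - (2 * N - 1)) / p = q at h5 ⊢
      simp [hne]
      omega
    · simp [hne]

theorem eq_of_fixData {a : ZMod p} {γ γ' : Fin N → ℕ} (hs : StrictMono γ) (hs' : StrictMono γ')
    (h : IsFixedConf N γ) (h' : IsFixedConf N γ') (hc : ∀ r, resCount p γ r = resCount p γ' r)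
    (he : fixData p a γ = fixData p a γ') : γ = γ' := by
  suffices key : ∀ {γ γ' : Fin N → ℕ}, StrictMono γ → StrictMono γ' → IsFixedConf N γ →
      (∀ r, resCount p γ r = resCount p γ' r) → fixData p a γ = fixData p a γ' →
      ∀ i, Sel N p (γ i) → γ i ∈ univ.image γ' by
    have hsub : ∀ {γ γ' : Fin N → ℕ}, StrictMono γ → StrictMono γ' → IsFixedConf N γ →
        IsFixedConf N γ' → (∀ r, resCount p γ r = resCount p γ' r) →
        fixData p a γ = fixData p a γ' → univ.image γ ⊆ univ.image γ' := by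
      intro γ γ' hs hs' h h' hc he x hx
      obtain ⟨i, -, rfl⟩ := mem_image.1 hx
      by_cases hsel : Sel N p (γ i)
      · exact key hs hs' h hc he i hsel
      · rw [h', mem_refl2]
        refine ⟨h.lt i, fun hmem => ?_⟩
        obtain ⟨j, -, hj⟩ := mem_image.1 hmem
        have hj' : Sel N p (γ' j) := by rw [hj, sel_reflect (h.lt i)]; exact hsel
        have h1 := key hs' hs h' (fun r => (hc r).symm) he.symm j hj'
        rw [hj] at h1
        have h2 := mem_image_of_mem γ (mem_univ i)
        rw [h, mem_refl2] at h2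
        exact h2.2 h1
    exact eq_of_image_eq hs hs'
      (Finset.Subset.antisymm (hsub hs hs' h h' hc he) (hsub hs' hs h' h (fun r => (hc r).symm) he.symm))
  intro γ γ' hs hs' h hc he i hsel
  by_cases hr : (γ i : ZMod p) ∈ reps N p
  · obtain ⟨j, hjr, hjk⟩ := exists_rk (γ := γ') (γ i : ZMod p)
      (hc _ ▸ rk_lt_resCount γ i)
    have hcount : ∀ v, exCount p γ (γ i) v = exCount p γ' (γ i) v := by
      intro v
      have hsplit : ∀ δ : Fin N → ℕ, exCount p δ (γ i) v +
          (univ.filter fun l => (δ l : ZMod p) = (γ i : ZMod p) ∧ v + 1 ≤ excess p δ l).card =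
          resCount p δ (γ i) := by
        intro δ
        rw [exCount, resCount, ← Finset.card_union_of_disjoint, ← Finset.filter_or]
        · refine congrArg Finset.card (Finset.filter_congr fun l _ => ?_)
          constructor
          · rintro (h | h) <;> exact h.1
          · intro hl
            rcases Nat.lt_or_ge v (excess p δ l) with h1 | h1
            · exact Or.inr ⟨hl, h1⟩
            · exact Or.inl ⟨hl, h1⟩
        · rw [Finset.disjoint_left]
          intro l h1 h2
          rw [mem_filter] at h1 h2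
          omega
      have h1 := hsplit γ
      have h2 := hsplit γ'
      rw [← countP_fixData a γ hr, he] at h1
      rw [← countP_fixData a γ' hr] at h2
      have := hc (γ i)
      omega
    have h1 : ∀ v, excess p γ' j ≤ v ↔ excess p γ i ≤ v := fun v => by
      rw [excess_le_iff hs' j v, excess_le_iff hs i v, hjk, hjr, hcount]
    refine mem_image.2 ⟨j, mem_univ _, ?_⟩
    rw [eq_coreOf_add (p := p) hs' j, eq_coreOf_add (p := p) hs i, coreOf, coreOf, hjk, hjr,
      le_antisymm ((h1 _).2 le_rfl) ((h1 _).1 le_rfl)]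
  · obtain ⟨hdiv, hodd⟩ := odd_len hr hsel
    have hlt := (hsel.resolve_left hr).2
    have hlen : flen p γ i = (2 * γ i - (2 * N - 1)) / p := by rw [flen, if_neg hr, if_pos hsel]
    have hmem : (fcol p a γ i, flen p γ i - 1) ∈ fixData p a γ := mem_fixData.2
      ⟨i, by rw [hlen]; omega, rfl, rfl⟩
    rw [he, mem_fixData] at hmem
    obtain ⟨j, hj0, -, hj⟩ := hmem
    have hjlen : flen p γ' j = flen p γ i := by simp only at hj; rw [hlen] at hj ⊢; omega
    have hjr : (γ' j : ZMod p) ∉ reps N p := by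
      intro hjr
      rw [flen, if_pos hjr, hlen] at hjlen
      omega
    have hjsel : Sel N p (γ' j) := by
      by_contra hn
      rw [flen, if_neg hjr, if_neg hn] at hj0
      exact hj0 rfl
    rw [flen, if_neg hjr, if_pos hjsel, hlen] at hjlen
    obtain ⟨hdiv', -⟩ := odd_len hjr hjsel
    rw [hjlen, hdiv] at hdiv'
    have hlt' := (hjsel.resolve_left hjr).2
    exact mem_image.2 ⟨j, mem_univ _, by omega⟩

/-- Lists of coloured lengths of total length `w`. -/
theorem card_le_of_data {X : Type*} (S : Finset X) (f : X → List (ZMod p × ℕ))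
    (V : Finset (ZMod p)) (r₀ : ZMod p) (hr₀ : r₀ ∉ V) {w : ℕ} (hw : 0 < w)
    (hinj : Set.InjOn f S) (hcol : ∀ x ∈ S, ∀ b ∈ f x, b.1 ∈ V)
    (hlen : ∀ x ∈ S, ((f x).flatMap (block r₀)).length = w) :
    S.card ≤ V.card * (V.card + 1) ^ (w - 1) := by
  classical
  set W := fun x => (f x).flatMap (block r₀) with hW
  have hne : ∀ x ∈ S, ∀ b ∈ f x, b.1 ≠ r₀ := fun x hx b hb e => hr₀ (e ▸ hcol x hx b hb)
  have hall : ∀ x ∈ S, ∀ c ∈ W x, c ∈ insert r₀ V := by
    intro x hx c hc
    simp only [hW, List.mem_flatMap, block, List.mem_cons, List.mem_replicate] at hc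
    obtain ⟨b, hb, rfl | ⟨-, rfl⟩⟩ := hc
    · exact mem_insert_of_mem (hcol x hx b hb)
    · exact mem_insert_self _ _
  refine le_trans (Finset.card_le_card_of_injOn (fun x => ((W x).head?.getD r₀,
    fun k : Fin (w - 1) => (W x).getD (k + 1) r₀))
    (t := V ×ˢ Fintype.piFinset fun _ : Fin (w - 1) => insert r₀ V) ?_ ?_) (le_of_eq ?_)
  · intro x hx
    rw [Finset.mem_coe] at hx
    rw [Finset.mem_coe, mem_product, Fintype.mem_piFinset]
    have h1 := hlen x hx
    constructor
    · cases hd : f x with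
      | nil => rw [hd] at h1; simp at h1; omega
      | cons b L =>
        have := hcol x hx b (hd ▸ List.mem_cons_self ..)
        simpa [hW, hd, block] using this
    · intro k
      have hk : (k : ℕ) + 1 < (W x).length := by rw [h1]; omega
      simp only
      rw [List.getD_eq_getElem _ _ hk]
      exact hall x hx _ (List.getElem_mem hk)
  · intro x hx y hy he
    rw [Finset.mem_coe] at hx hy
    refine hinj hx hy (flatMap_block_injective r₀ (hne x hx) (hne y hy) ?_)
    have l1 := hlen x hx
    have l2 := hlen y hy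
    simp only [Prod.mk.injEq] at he
    refine List.ext_getElem (l1.trans l2.symm) fun k h1 h2 => ?_
    cases k with
    | zero =>
      have := he.1
      rwa [List.head?_eq_getElem?, List.head?_eq_getElem?, List.getElem?_eq_getElem h1,
        List.getElem?_eq_getElem h2, Option.getD_some, Option.getD_some] at this
    | succ k =>
      have := congrFun he.2 ⟨k, by omega⟩
      simp only at this
      rwa [List.getD_eq_getElem _ _ h1, List.getD_eq_getElem _ _ h2] at this
  · simp [card_product, Fintype.card_piFinset, Finset.card_insert_of_notMem hr₀]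

end Cfsg.Lib.SymBlocks
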