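import Cfsg.Agent.SymBlocks.Relations

/-!
# Packing one runner

Modulo the ribbon relations every `psi β`, restricted to the regular elements, is a combination of
those whose exponents congruent to `r₀` are as small as possible.
-/

set_option autoImplicit false
set_option linter.unusedSectionVars false
set_option linter.style.haveILetI false

namespace Cfsg.Lib.SymBlocks

open Finset MvPolynomial

variable {N : ℕ} {α : Type*} [Fintype α] [DecidableEq α] {p : ℕ}

/-- The regular part of `psi β`. -/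
noncomputable def regV (p : ℕ) (β : Fin N → ℕ) : Equiv.Perm α → ℂ :=
  Cfsg.pRegularPart p (psi (α := α) β)

theorem regV_eq_zero_of_psiZ {β : Fin N → ℕ} (h : ∀ g : Equiv.Perm α, psiZ β g = 0) :
    regV (α := α) p β = 0 := by
  funext g
  simp [regV, Cfsg.pRegularPart, psi, h g]

theorem regV_comp (β : Fin N → ℕ) (τ : Equiv.Perm (Fin N)) :
    regV (α := α) p (β ∘ τ) = ((Equiv.Perm.sign τ : ℤ) : ℂ) • regV (α := α) p β := by
  funext g
  by_cases hg : Cfsg.IsPRegular p g <;>
    simp [regV, Cfsg.pRegularPart, psi, psiZ_comp, hg]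

/-- The linear map sending a monomial to the regular part of the corresponding function. -/
noncomputable def regLin (p : ℕ) (α : Type*) [Fintype α] [DecidableEq α] (N : ℕ) :
    MvPolynomial (Fin N) ℂ →ₗ[ℂ] (Equiv.Perm α → ℂ) :=
  (MvPolynomial.basisMonomials (Fin N) ℂ).constr ℂ fun d => regV p fun i => d i

theorem regLin_monomial (d : Fin N →₀ ℕ) (a : ℂ) :
    regLin p α N (monomial d a) = a • regV p (fun i => d i) := by
  rw [show monomial d a = a • (MvPolynomial.basisMonomials (Fin N) ℂ) d by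
    rw [coe_basisMonomials, smul_monomial, smul_eq_mul, mul_one], map_smul, regLin,
    Module.Basis.constr_basis]

theorem regLin_relation (hN : Fintype.card α ≤ N) {m : ℕ} (hm : m ≠ 0) (hpm : p ∣ m)
    (z : MvPolynomial (Fin N) ℂ) : regLin p α N (z * ∑ i, X i ^ m) = 0 := by
  induction z using MvPolynomial.induction_on' with
  | monomial d a =>
    rw [Finset.mul_sum, map_sum]
    simp only [X_pow_eq_monomial, monomial_mul, mul_one, regLin_monomial]
    rw [← Finset.smul_sum]
    refine smul_eq_zero_of_right _ (funext fun g => ?_)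
    rw [Finset.sum_apply, Pi.zero_apply]
    by_cases hg : Cfsg.IsPRegular p g
    · have h : ∀ i, regV (α := α) p (fun j => (d + Finsupp.single i m) j) g =
          (psiZ (addAt (fun j => d j) i m) g : ℂ) := fun i => by
        rw [regV, Cfsg.pRegularPart, if_pos hg, psi]
        congr 2
        funext j
        have := DFunLike.congr_fun (mon_addAt (fun j => d j) i m) j
        simp only [Finsupp.add_apply, mon_apply] at this
        simpa [Finsupp.add_apply] using this.symm
      simp only [h, ← Int.cast_sum]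
      exact_mod_cast ribbon_eq_zero hN hm hpm hg
    · refine Finset.sum_eq_zero fun i _ => ?_
      simp [regV, Cfsg.pRegularPart, hg]
  | add u v hu hv => rw [add_mul, map_add, hu, hv, add_zero]

theorem hh_mem_adjoin {R : Type*} [CommRing R] [Algebra ℂ R] {κ : Type*} [Fintype κ] (x : κ → R)
    (m : ℕ) : hh x m ∈ Algebra.adjoin ℂ (Set.range fun l : ℕ => ∑ k, x k ^ (l + 1)) := by
  induction m using Nat.strong_induction_on with
  | _ m ih =>
    cases m with
    | zero => rw [hh_zero]; exact one_mem _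
    | succ m =>
      have h : hh x (m + 1) = ((m : ℂ) + 1)⁻¹ •
          ∑ ij ∈ antidiagonal m, hh x ij.1 * ∑ k, x k ^ (ij.2 + 1) := by
        rw [← newton, Algebra.smul_def, ← mul_assoc,
          show ((m : R) + 1) = algebraMap ℂ R ((m : ℂ) + 1) by simp, ← map_mul,
          inv_mul_cancel₀ (Nat.cast_add_one_ne_zero m), map_one, one_mul]
      rw [h]
      refine Subalgebra.smul_mem _ (sum_mem fun ij hij => mul_mem (ih _ ?_) ?_) _
      · have := mem_antidiagonal.1 hij; omega
      · exact Algebra.subset_adjoin ⟨ij.2, rfl⟩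

theorem det_hmat_mem_adjoin {R : Type*} [CommRing R] [Algebra ℂ R] {c : ℕ} (x : Fin c → R)
    (a : Fin c → ℕ) :
    (hmat x a).det ∈ Algebra.adjoin ℂ (Set.range fun l : ℕ => ∑ k, x k ^ (l + 1)) := by
  rw [Matrix.det_apply]
  refine sum_mem fun σ _ => ?_
  rw [Units.smul_def]
  refine zsmul_mem (prod_mem fun i _ => ?_) _
  rw [hmat, Matrix.of_apply]
  split_ifs
  exacts [hh_mem_adjoin x _, zero_mem _]

/-- The exponents congruent to `r₀` are the smallest possible ones. -/
def IsPacked (p : ℕ) (r₀ : ZMod p) (γ : Fin N → ℕ) : Prop :=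
  ∀ i, (γ i : ZMod p) = r₀ → γ i < p * resCount p γ r₀

/-- Configurations with residue counts `cnt` packed at `r₀`. -/
def IsConf (α : Type*) [Fintype α] (p : ℕ) (r₀ : ZMod p) (cnt : ZMod p → ℕ) (γ : Fin N → ℕ) :
    Prop :=
  StrictMono γ ∧ ∑ i, γ i = Fintype.card α + ∑ i, delta N i ∧ (∀ r, resCount p γ r = cnt r) ∧
    IsPacked p r₀ γ

theorem resCount_comp (γ : Fin N → ℕ) (τ : Equiv.Perm (Fin N)) (r : ZMod p) :
    resCount p (γ ∘ τ) r = resCount p γ r := by
  refine Finset.card_nbij' (fun i => τ i) (fun i => τ.symm i) ?_ ?_ ?_ ?_ <;> intro i hi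
  · simpa using hi
  · simpa using hi
  · simp
  · simp

theorem regV_mem_span {r₀ : ZMod p} {β d : Fin N → ℕ}
    (hres : ∀ i, (d i : ZMod p) = (β i : ZMod p))
    (hpk : ∀ i, (β i : ZMod p) = r₀ → d i < p * resCount p β r₀) :
    regV (α := α) p d ∈
      Submodule.span ℂ (regV (α := α) p '' {γ : Fin N → ℕ | IsConf α p r₀ (resCount p β) γ}) := by
  by_cases hs : ∑ i, d i = Fintype.card α + ∑ i, delta N i
  case neg => rw [regV_eq_zero_of_psiZ fun g => psiZ_eq_zero_of_sum hs g]; exact zero_mem _
  by_cases hi : Function.Injective d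
  case neg => rw [regV_eq_zero_of_psiZ fun g => psiZ_eq_zero_of_not_injective hi g]; exact zero_mem _
  obtain ⟨τ, hτ⟩ := exists_sort hi
  have hcnt : ∀ r, resCount p (d ∘ τ) r = resCount p β r := fun r => by
    rw [resCount_comp]
    exact congrArg Finset.card (Finset.filter_congr fun i _ => by rw [hres i])
  have hd : regV (α := α) p d = ((Equiv.Perm.sign τ⁻¹ : ℤ) : ℂ) • regV (α := α) p (d ∘ τ) := by
    rw [← regV_comp]
    congr 1
    funext i
    simp
  rw [hd]
  refine Submodule.smul_mem _ _ (Submodule.subset_span ⟨d ∘ τ, ⟨hτ,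
    (Equiv.sum_comp τ d).trans hs, hcnt, fun i hir => ?_⟩, rfl⟩)
  rw [hcnt]
  refine hpk (τ i) ?_
  rw [← hres]
  exact hir

/-- **The reduction.** -/
theorem regV_mem_span_conf [Fact p.Prime] (hN : Fintype.card α ≤ N) (r₀ : ZMod p)
    (β : Fin N → ℕ) :
    regV (α := α) p β ∈
      Submodule.span ℂ (regV (α := α) p '' {γ : Fin N → ℕ | IsConf α p r₀ (resCount p β) γ}) := by
  classical
  have hp := (Fact.out : p.Prime)
  set S := Submodule.span ℂ (regV (α := α) p '' {γ : Fin N → ℕ | IsConf α p r₀ (resCount p β) γ})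
  set I : Finset (Fin N) := univ.filter fun i => (β i : ZMod p) = r₀ with hI
  set c := I.card with hc
  set e : Fin c ≃ {i // i ∈ I} := I.equivFin.symm
  set y : Fin c → MvPolynomial (Fin N) ℂ := fun j => X (e j : Fin N) ^ p with hy
  set d₀ : Fin N → ℕ := fun i => if i ∈ I then r₀.val else β i with hd₀
  set a : Fin c → ℕ := fun j => β (e j) / p with ha
  set R₀ : MvPolynomial (Fin N) ℂ := monomial (mon d₀) 1 with hR₀
  have hIr : ∀ {i}, i ∈ I → β i % p = r₀.val := fun {i} hi => by
    rw [← (mem_filter.1 hi).2, ZMod.val_natCast]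
  -- monomials
  have hmono : ∀ (b : Fin c → ℕ), R₀ * ∏ j, y j ^ b j =
      monomial (mon fun i => if h : i ∈ I then r₀.val + p * b (e.symm ⟨i, h⟩) else β i) 1 := by
    intro b
    have h1 : ∏ j, y j ^ b j = ∏ i, (X i : MvPolynomial (Fin N) ℂ) ^
        (if h : i ∈ I then p * b (e.symm ⟨i, h⟩) else 0) := by
      rw [← Finset.prod_subset (Finset.subset_univ I) (fun i _ hi => by rw [dif_neg hi, pow_zero]),
        ← Finset.prod_coe_sort I, ← Equiv.prod_comp e]
      refine Finset.prod_congr rfl fun j _ => ?_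
      rw [hy, ← pow_mul, dif_pos (e j).2]
      simp
    rw [h1, prod_X_pow, hR₀, monomial_mul, one_mul]
    refine congrArg (fun u => monomial u (1 : ℂ)) (Finsupp.ext fun i => ?_)
    simp only [Finsupp.add_apply, mon_apply, hd₀]
    by_cases h : i ∈ I <;> simp [h]
  -- the antisymmetrisation
  have hanti : regLin p α N (R₀ * alt y a) = (c.factorial : ℂ) • regV (α := α) p β := by
    rw [alt_eq_sum, Finset.mul_sum, map_sum]
    have hσ : ∀ σ : Equiv.Perm (Fin c),
        regLin p α N (R₀ * (((Equiv.Perm.sign σ : ℤ) : MvPolynomial (Fin N) ℂ) *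
          ∏ j, y j ^ a (σ j))) = regV (α := α) p β := by
      intro σ
      have hperm : (fun i => if h : i ∈ I then r₀.val + p * a (σ (e.symm ⟨i, h⟩)) else β i) =
          β ∘ Equiv.Perm.ofSubtype (e.permCongr σ) := by
        funext i
        rw [Function.comp_apply]
        split_ifs with h
        · rw [Equiv.Perm.ofSubtype_apply_of_mem _ h, Equiv.permCongr_apply]
          have := Nat.mod_add_div (β (e (σ (e.symm ⟨i, h⟩)) : Fin N)) p
          rw [hIr (e (σ (e.symm ⟨i, h⟩))).2] at this
          exact this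
        · rw [Equiv.Perm.ofSubtype_apply_of_not_mem _ h]
      rw [mul_left_comm, hmono, ← zsmul_eq_mul, map_zsmul, regLin_monomial, one_smul,
        show (fun i => mon (fun i => if h : i ∈ I then r₀.val + p * a (σ (e.symm ⟨i, h⟩)) else β i) i)
          = β ∘ Equiv.Perm.ofSubtype (e.permCongr σ) from hperm, regV_comp,
        Equiv.Perm.sign_ofSubtype, Equiv.Perm.sign_permCongr, ← Int.cast_smul_eq_zsmul ℂ, smul_smul,
        ← Int.cast_mul, ← Units.val_mul, Int.units_mul_self, Units.val_one, Int.cast_one, one_smul]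
    rw [Finset.sum_congr rfl fun σ _ => hσ σ, Finset.sum_const, Finset.card_univ, Fintype.card_perm,
      Fintype.card_fin, Nat.cast_smul_eq_nsmul]
  -- the symmetric factor can be moved off the runner
  set Q : Set (MvPolynomial (Fin N) ℂ) :=
    Set.range fun l : ℕ => ∑ i ∈ univ \ I, (X i : MvPolynomial (Fin N) ℂ) ^ (p * (l + 1))
  have hmove : ∀ f ∈ Algebra.adjoin ℂ (Set.range fun l : ℕ => ∑ j, y j ^ (l + 1)),
      ∃ f' ∈ Algebra.adjoin ℂ Q, ∀ z, regLin p α N (z * f) = regLin p α N (z * f') := by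
    intro f hf
    induction hf using Algebra.adjoin_induction with
    | mem f hf =>
      obtain ⟨l, rfl⟩ := hf
      refine ⟨-∑ i ∈ univ \ I, (X i : MvPolynomial (Fin N) ℂ) ^ (p * (l + 1)),
        neg_mem (Algebra.subset_adjoin ⟨l, rfl⟩), fun z => ?_⟩
      have hsum : ∑ j, y j ^ (l + 1) = ∑ i ∈ I, (X i : MvPolynomial (Fin N) ℂ) ^ (p * (l + 1)) := by
        rw [← Finset.sum_coe_sort I, ← Equiv.sum_comp e]
        simp only [hy, pow_mul]
      have := regLin_relation (α := α) (p := p) hN (m := p * (l + 1))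
        (Nat.mul_ne_zero hp.ne_zero (Nat.succ_ne_zero l)) (dvd_mul_right _ _) z
      rw [← Finset.sum_sdiff (Finset.subset_univ I), mul_add, map_add] at this
      show regLin p α N (z * ∑ j, y j ^ (l + 1)) = _
      rw [hsum, mul_neg, map_neg, ← add_eq_zero_iff_eq_neg, add_comm]
      exact this
    | algebraMap r => exact ⟨_, Subalgebra.algebraMap_mem _ r, fun z => rfl⟩
    | add u v _ _ hu hv =>
      obtain ⟨u', hu', h1⟩ := hu
      obtain ⟨v', hv', h2⟩ := hv
      exact ⟨u' + v', add_mem hu' hv', fun z => by simp only [mul_add, map_add, h1, h2]⟩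
    | mul u v _ _ hu hv =>
      obtain ⟨u', hu', h1⟩ := hu
      obtain ⟨v', hv', h2⟩ := hv
      refine ⟨u' * v', mul_mem hu' hv', fun z => ?_⟩
      rw [← mul_assoc, h2, mul_right_comm, h1, mul_right_comm, mul_assoc]
  obtain ⟨f', hf', hf⟩ := hmove _ (det_hmat_mem_adjoin y a)
  rw [jacobi_trudi, mul_left_comm, mul_comm, hf] at hanti
  suffices hshift : ∀ f ∈ Algebra.adjoin ℂ Q, ∀ d ∈ f.support, ∀ i,
      p ∣ d i ∧ (i ∈ I → d i = 0) by
    replace hshift := hshift f' hf'
    have hmem : regLin p α N (R₀ * alt y (fun j : Fin c => (j : ℕ)) * f') ∈ S := by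
      conv => arg 2; arg 2; rw [MvPolynomial.as_sum f']
      rw [Finset.mul_sum, map_sum]
      refine Submodule.sum_mem _ fun d hd => ?_
      rw [alt_eq_sum, Finset.mul_sum, Finset.sum_mul, map_sum]
      refine Submodule.sum_mem _ fun σ _ => ?_
      rw [mul_left_comm, hmono, ← zsmul_eq_mul, smul_mul_assoc, map_zsmul, monomial_mul, one_mul,
        regLin_monomial]
      refine zsmul_mem (Submodule.smul_mem _ _ (regV_mem_span (fun i => ?_) fun i hir => ?_)) _
      · obtain ⟨k, hk⟩ := (hshift d hd i).1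
        simp only [Finsupp.add_apply, mon_apply, hk, Nat.cast_add, Nat.cast_mul, ZMod.natCast_self,
          zero_mul, add_zero]
        split_ifs with h
        · rw [Nat.cast_add, Nat.cast_mul, ZMod.natCast_self, zero_mul, add_zero,
            ZMod.natCast_zmod_val, (mem_filter.1 h).2]
        · rfl
      · have h : i ∈ I := mem_filter.2 ⟨mem_univ _, hir⟩
        simp only [Finsupp.add_apply, mon_apply, dif_pos h, (hshift d hd i).2 h, add_zero]
        have h1 : r₀.val < p := ZMod.val_lt r₀
        have h2 : (((σ (e.symm ⟨i, h⟩)) : Fin c) : ℕ) + 1 ≤ resCount p β r₀ :=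
          (σ (e.symm ⟨i, h⟩)).isLt
        calc _ < p * ((((σ (e.symm ⟨i, h⟩)) : Fin c) : ℕ) + 1) := by rw [mul_add]; omega
          _ ≤ _ := Nat.mul_le_mul_left p h2
    rw [hanti] at hmem
    have := Submodule.smul_mem S ((c.factorial : ℂ)⁻¹) hmem
    rwa [smul_smul, inv_mul_cancel₀ (Nat.cast_ne_zero.2 c.factorial_ne_zero), one_smul] at this
  intro f hf
  induction hf using Algebra.adjoin_induction with
  | mem f hf =>
    obtain ⟨l, rfl⟩ := hf
    intro d hd
    obtain ⟨k, hk, hdk⟩ := Finset.mem_biUnion.1 (support_sum hd)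
    rw [X_pow_eq_monomial, support_monomial, if_neg one_ne_zero, mem_singleton] at hdk
    subst hdk
    intro i
    rw [Finsupp.single_apply]
    split_ifs with h
    · exact ⟨dvd_mul_right _ _, fun hiI => absurd (h ▸ hiI) (mem_sdiff.1 hk).2⟩
    · exact ⟨dvd_zero _, fun _ => rfl⟩
  | algebraMap r =>
    intro d hd i
    rw [algebraMap_eq, C_apply] at hd
    rw [mem_singleton.1 (support_monomial_subset hd)]
    exact ⟨dvd_zero _, fun _ => rfl⟩
  | add u v _ _ hu hv =>
    intro d hd
    rcases mem_union.1 (support_add hd) with h | h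
    exacts [hu d h, hv d h]
  | mul u v _ _ hu hv =>
    intro d hd i
    obtain ⟨d1, h1, d2, h2, rfl⟩ := Finset.mem_add.1 (support_mul _ _ hd)
    exact ⟨dvd_add (hu d1 h1 i).1 (hv d2 h2 i).1, fun hiI => by
      simp [(hu d1 h1 i).2 hiI, (hv d2 h2 i).2 hiI]⟩

end Cfsg.Lib.SymBlocks
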