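import Cfsg.Agent.SymBlocks.Twin
import Cfsg.Agent.SymBlocks.Span
import Cfsg.Agent.Chars.Clifford

/-!
# Restriction of characters to the alternating group
-/

set_option autoImplicit false
set_option linter.unusedSectionVars false
set_option linter.style.haveILetI false

namespace Cfsg.Lib.SymBlocks

open Finset
open scoped ComplexConjugate

universe u

variable {α : Type u} [Fintype α] [DecidableEq α]

/-- The restriction to the alternating group. -/
def resAlt (α : Type u) [Fintype α] [DecidableEq α] :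
    (Equiv.Perm α → ℂ) →ₗ[ℂ] (alternatingGroup α → ℂ) :=
  LinearMap.funLeft ℂ ℂ fun a : alternatingGroup α => (a : Equiv.Perm α)

theorem resAlt_apply (f : Equiv.Perm α → ℂ) (a : alternatingGroup α) :
    resAlt α f a = f (a : Equiv.Perm α) := rfl

theorem pRegularPart_resAlt (p : ℕ) (f : Equiv.Perm α → ℂ) :
    Cfsg.pRegularPart p (resAlt α f) = resAlt α (Cfsg.pRegularPart p f) := by
  funext a
  rw [resAlt_apply, Cfsg.pRegularPart, Cfsg.pRegularPart, resAlt_apply]
  have h : Cfsg.IsPRegular p a ↔ Cfsg.IsPRegular p (a : Equiv.Perm α) := by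
    rw [Cfsg.IsPRegular, Cfsg.IsPRegular, Subgroup.orderOf_coe]
  by_cases ha : Cfsg.IsPRegular p a
  · rw [if_pos ha, if_pos (h.1 ha)]
  · rw [if_neg ha, if_neg fun e => ha (h.2 e)]

theorem norm_resAlt [Nontrivial α] (χ : Cfsg.IrrCharacter (Equiv.Perm α)) :
    Cfsg.classInner (resAlt α (χ : Equiv.Perm α → ℂ)) (resAlt α (χ : Equiv.Perm α → ℂ)) =
      1 + Cfsg.classInner (fun g => ((Equiv.Perm.sign g : ℤ) : ℂ) * (χ : Equiv.Perm α → ℂ) g)
        (χ : Equiv.Perm α → ℂ) := by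
  have hcard : (2 : ℂ) * (Nat.card (alternatingGroup α) : ℂ) = Nat.card (Equiv.Perm α) := by
    have := two_mul_nat_card_alternatingGroup (α := α)
    exact_mod_cast this
  have hA : (Nat.card (alternatingGroup α) : ℂ) ≠ 0 := Nat.cast_ne_zero.2 Nat.card_pos.ne'
  have hsum : ∑ a : alternatingGroup α, resAlt α (χ : Equiv.Perm α → ℂ) a *
      conj (resAlt α (χ : Equiv.Perm α → ℂ) a) =
      ∑ g ∈ univ.filter (fun g : Equiv.Perm α => Equiv.Perm.sign g = 1),
        (χ : Equiv.Perm α → ℂ) g * conj ((χ : Equiv.Perm α → ℂ) g) := by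
    rw [Finset.sum_subtype (p := fun g => g ∈ alternatingGroup α) _ (fun g => by
      simp [Equiv.Perm.mem_alternatingGroup])]
    rfl
  have h1 := Cfsg.Lib.Chars.classInner_irr_self χ
  rw [Cfsg.Lib.Chars.classInner_def] at h1
  rw [Cfsg.Lib.Chars.classInner_def, Cfsg.Lib.Chars.classInner_def, hsum, ← h1, ← mul_add,
    ← Finset.sum_add_distrib, ← hcard, Finset.sum_filter, mul_inv, mul_assoc, mul_left_comm]
  congr 1
  rw [Finset.mul_sum]
  refine Finset.sum_congr rfl fun g _ => ?_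
  rcases Int.units_eq_one_or (Equiv.Perm.sign g) with h | h <;> rw [h]
  · rw [if_pos rfl]; push_cast; ring
  · rw [if_neg (by decide)]; push_cast; ring

theorem resAlt_eq_of_ne [Nontrivial α] {γ δ : Cfsg.IrrCharacter (Equiv.Perm α)}
    (h : ∀ g, (δ : Equiv.Perm α → ℂ) g =
      ((Equiv.Perm.sign g : ℤ) : ℂ) * (γ : Equiv.Perm α → ℂ) g) (hne : δ ≠ γ)
    {θ : Cfsg.IrrCharacter (alternatingGroup α)}
    (hθ : Cfsg.classInner (resAlt α (γ : Equiv.Perm α → ℂ)) (θ : alternatingGroup α → ℂ) ≠ 0) :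
    (θ : alternatingGroup α → ℂ) = resAlt α (γ : Equiv.Perm α → ℂ) := by
  classical
  have hn : Cfsg.classInner (resAlt α (γ : Equiv.Perm α → ℂ)) (resAlt α (γ : Equiv.Perm α → ℂ)) = 1 := by
    rw [norm_resAlt, ← funext h, Cfsg.Lib.Chars.classInner_irr_ne hne, add_zero]
  have hc : Cfsg.IsCharacter (alternatingGroup α) (resAlt α (γ : Equiv.Perm α → ℂ)) :=
    Cfsg.Lib.Chars.IsCharacter.comp_hom (Cfsg.Lib.Chars.isCharacter_of_irr γ.2) (alternatingGroup α).subtype
  rcases Cfsg.Lib.Chars.isIrr_or_neg_of_norm_one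
    (Cfsg.Lib.Chars.IsCharacter.isGeneralized hc) hn with hi | hi
  · by_contra hne'
    refine hθ (Cfsg.Lib.Chars.classInner_irr_ne (χ := ⟨_, hi⟩) (ψ := θ) fun e => hne' ?_)
    exact (congrArg Subtype.val e).symm
  · exfalso
    obtain ⟨m, hm⟩ := Cfsg.Lib.Chars.IsIrrCharacter.apply_one hi
    obtain ⟨k, hk⟩ := Cfsg.Lib.Chars.IsCharacter.apply_one hc
    rw [Pi.neg_apply, hk] at hm
    have h2 : -((k : ℤ)) = (m : ℤ) := by exact_mod_cast hm.2
    have := hm.1
    omega

theorem exists_pair_of_eq [Nontrivial α] {γ : Cfsg.IrrCharacter (Equiv.Perm α)}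
    (h : ∀ g, (γ : Equiv.Perm α → ℂ) g =
      ((Equiv.Perm.sign g : ℤ) : ℂ) * (γ : Equiv.Perm α → ℂ) g) :
    ∃ θ₁ : Cfsg.IrrCharacter (alternatingGroup α), ∀ θ : Cfsg.IrrCharacter (alternatingGroup α),
      Cfsg.classInner (resAlt α (γ : Equiv.Perm α → ℂ)) (θ : alternatingGroup α → ℂ) ≠ 0 →
        (θ : alternatingGroup α → ℂ) = θ₁ ∨
        (θ : alternatingGroup α → ℂ) = resAlt α (γ : Equiv.Perm α → ℂ) - θ₁ := by
  classical
  have hn : Cfsg.classInner (resAlt α (γ : Equiv.Perm α → ℂ)) (resAlt α (γ : Equiv.Perm α → ℂ)) = 2 := by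
    rw [norm_resAlt, ← funext h, Cfsg.Lib.Chars.classInner_irr_self]
    norm_num
  have hc : Cfsg.IsCharacter (alternatingGroup α) (resAlt α (γ : Equiv.Perm α → ℂ)) :=
    Cfsg.Lib.Chars.IsCharacter.comp_hom (Cfsg.Lib.Chars.isCharacter_of_irr γ.2) (alternatingGroup α).subtype
  obtain ⟨a, ha⟩ := Cfsg.Lib.Chars.exists_int_decomp (Cfsg.Lib.Chars.IsCharacter.isGeneralized hc)
  have hcoef : ∀ θ : Cfsg.IrrCharacter (alternatingGroup α),
      Cfsg.classInner (resAlt α (γ : Equiv.Perm α → ℂ)) (θ : alternatingGroup α → ℂ) = (a θ : ℂ) := by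
    intro θ
    rw [ha, Cfsg.Lib.Chars.classInner_irrSum]
  have hpos : ∀ θ, 0 ≤ a θ := fun θ => by
    obtain ⟨m, hm⟩ := Cfsg.Lib.Chars.IsCharacter.exists_mult hc θ.2
    rw [hcoef] at hm
    have : a θ = (m : ℤ) := by exact_mod_cast hm
    omega
  rw [ha, Cfsg.Lib.Chars.classInner_self_decomp] at hn
  have h2 : ∑ θ, a θ * a θ = 2 := by
    apply Int.cast_injective (α := ℂ)
    simpa using hn
  have hone : ∀ θ, a θ ≠ 0 → a θ = 1 := fun θ hθ => by
    have hle : a θ * a θ ≤ 2 := h2 ▸ Finset.single_le_sum (f := fun θ => a θ * a θ)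
      (fun x _ => mul_self_nonneg _) (Finset.mem_univ θ)
    have := hpos θ
    nlinarith [show (1 : ℤ) ≤ a θ by omega]
  have hset : (univ.filter fun θ => a θ ≠ 0).card = 2 := by
    have : ((univ.filter fun θ => a θ ≠ 0).card : ℤ) = 2 := by
      rw [← h2, Finset.card_filter, Nat.cast_sum]
      refine Finset.sum_congr rfl fun θ _ => ?_
      by_cases hθ : a θ ≠ 0
      · rw [if_pos hθ, hone θ hθ]; rfl
      · rw [if_neg hθ, not_not.1 hθ]; rfl
    exact_mod_cast this
  obtain ⟨θ₁, θ₂, hne, hpair⟩ := Finset.card_eq_two.1 hset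
  refine ⟨θ₁, fun θ hθ => ?_⟩
  have hmem : θ ∈ univ.filter fun θ => a θ ≠ 0 :=
    mem_filter.2 ⟨mem_univ _, fun e => hθ (by rw [hcoef, e]; simp)⟩
  rw [hpair, mem_insert, mem_singleton] at hmem
  rcases hmem with rfl | rfl
  · exact Or.inl rfl
  · refine Or.inr ?_
    rw [ha, ← Finset.sum_subset (Finset.subset_univ {θ₁, θ}), Finset.sum_pair hne,
      hone θ₁, hone θ]
    · simp
    · have : θ ∈ univ.filter fun θ => a θ ≠ 0 := by rw [hpair]; simp
      exact (mem_filter.1 this).2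
    · have : θ₁ ∈ univ.filter fun θ => a θ ≠ 0 := by rw [hpair]; simp
      exact (mem_filter.1 this).2
    · intro x _ hx
      have : x ∉ univ.filter fun θ => a θ ≠ 0 := by rwa [hpair]
      rw [mem_filter, not_and, not_not] at this
      rw [this (mem_univ x)]
      simp

end Cfsg.Lib.SymBlocks
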