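import Cfsg.Agent.SymBlocks.AltRestrict
import Cfsg.Agent.SymBlocks.AltCount

/-!
# The span of a block of an alternating group
-/

set_option autoImplicit false
set_option linter.unusedSectionVars false
set_option linter.style.haveILetI false

namespace Cfsg.Lib.SymBlocks

open Finset

universe u

variable {α : Type u} [Fintype α] [DecidableEq α] {N p : ℕ}

theorem psi_inj {γ δ : Fin N → ℕ} (hs : StrictMono γ)
    (hγ : ∑ i, γ i = Fintype.card α + ∑ i, delta N i) (hs' : StrictMono δ)
    (h : psi (α := α) γ = psi δ) : γ = δ := by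
  have h1 := classInner_psi (α := α) hγ δ
  rw [← h, classInner_psi_self hs hγ, sum_sign_comp_strictMono hs hs'] at h1
  by_contra hne
  rw [if_neg hne] at h1
  simp at h1

/-- `δ` is the twist of `γ` by the sign. -/
def IsSignTwin (α : Type u) [Fintype α] [DecidableEq α] (γ δ : Fin N → ℕ) : Prop :=
  StrictMono δ ∧ ∑ i, δ i = Fintype.card α + ∑ i, delta N i ∧ IsTwin γ δ ∧
    ∀ g : Equiv.Perm α, psiZ δ g = (Equiv.Perm.sign g : ℤ) * psiZ γ g

open Classical in
/-- A chosen twist. -/
noncomputable def twinOf (α : Type u) [Fintype α] [DecidableEq α] (γ : Fin N → ℕ) : Fin N → ℕ :=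
  if h : ∃ δ, IsSignTwin α γ δ then h.choose else γ

theorem twinOf_spec (hN : Fintype.card α ≤ N) {γ : Fin N → ℕ} (hs : StrictMono γ)
    (hγ : ∑ i, γ i = Fintype.card α + ∑ i, delta N i) : IsSignTwin α γ (twinOf α γ) := by
  have h : ∃ δ, IsSignTwin α γ δ := exists_twin hN hs hγ
  rw [twinOf, dif_pos h]
  exact h.choose_spec

theorem IsSignTwin.symm {γ δ : Fin N → ℕ} (h : IsSignTwin α γ δ) :
    IsTwin δ γ ∧ ∀ g : Equiv.Perm α, psiZ γ g = (Equiv.Perm.sign g : ℤ) * psiZ δ g := by
  obtain ⟨-, -, ⟨himg, hlt⟩, hsg⟩ := h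
  refine ⟨⟨?_, fun i => ?_⟩, fun g => ?_⟩
  · ext x
    rw [himg, mem_refl2, mem_refl2]
    constructor
    · intro hx
      obtain ⟨i, -, rfl⟩ := mem_image.1 hx
      have := hlt i
      exact ⟨this, fun h => h.2 (by rwa [show 2 * N - 1 - (2 * N - 1 - γ i) = γ i by omega])⟩
    · rintro ⟨hx, h⟩
      by_contra hno
      exact h ⟨by omega, by rwa [show 2 * N - 1 - (2 * N - 1 - x) = x by omega]⟩
  · have h1 := mem_image_of_mem δ (mem_univ i)
    rw [himg] at h1
    exact (mem_refl2.1 h1).1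
  · rw [hsg, ← mul_assoc, ← Units.val_mul, Int.units_mul_self, Units.val_one, one_mul]

theorem twinOf_twinOf (hN : Fintype.card α ≤ N) {γ : Fin N → ℕ} (hs : StrictMono γ)
    (hγ : ∑ i, γ i = Fintype.card α + ∑ i, delta N i) : twinOf α (twinOf α γ) = γ := by
  have h := twinOf_spec hN hs hγ
  have h' := twinOf_spec hN h.1 h.2.1
  refine eq_of_image_eq h'.1 hs ?_
  rw [h'.2.2.1.1, ← h.symm.1.1]

theorem resAlt_regV_twin {γ δ : Fin N → ℕ} (h : IsSignTwin α γ δ) :
    resAlt α (regV (α := α) p δ) = resAlt α (regV p γ) := by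
  funext a
  rw [resAlt_apply, resAlt_apply]
  by_cases ha : Cfsg.IsPRegular p (a : Equiv.Perm α) <;>
    simp [regV, Cfsg.pRegularPart, ha, psi, h.2.2.2, Equiv.Perm.mem_alternatingGroup.1 a.2]

/-- Fixed configurations with given residue counts. -/
def fixConfs (α : Type u) [Fintype α] (N p : ℕ) [NeZero p] (cnt : ZMod p → ℕ) :
    Set (Fin N → ℕ) :=
  {γ | StrictMono γ ∧ ∑ i, γ i = Fintype.card α + ∑ i, delta N i ∧
    (∀ r, resCount p γ r = cnt r) ∧ IsFixedConf N γ}

theorem finite_fixConfs [NeZero p] (cnt : ZMod p → ℕ) : (fixConfs α N p cnt).Finite := by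
  refine Set.Finite.subset (Set.Finite.pi fun _ : Fin N =>
    Set.finite_Iic (Fintype.card α + ∑ i, delta N i)) ?_
  intro γ hγ i _
  have := Finset.single_le_sum (f := γ) (fun j _ => Nat.zero_le _) (mem_univ i)
  show γ i ≤ _
  have := hγ.2.1
  omega

open Classical in
/-- The regular part of a chosen constituent of the restriction. -/
noncomputable def halfPart (α : Type u) [Fintype α] [DecidableEq α] (p : ℕ) (γ : Fin N → ℕ) :
    alternatingGroup α → ℂ :=
  if h : ∃ θ₁ : Cfsg.IrrCharacter (alternatingGroup α),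
      ∀ θ : Cfsg.IrrCharacter (alternatingGroup α),
        Cfsg.classInner (resAlt α (psi γ)) (θ : alternatingGroup α → ℂ) ≠ 0 →
          (θ : alternatingGroup α → ℂ) = θ₁ ∨
          (θ : alternatingGroup α → ℂ) = resAlt α (psi γ) - θ₁
  then Cfsg.pRegularPart p (h.choose : alternatingGroup α → ℂ) else 0

/-- **The constituents lie in the span.** -/
theorem constituent_mem [Nontrivial α] [NeZero p] (hN : Fintype.card α ≤ N) {γ : Fin N → ℕ}
    (hs : StrictMono γ) (hγ : ∑ i, γ i = Fintype.card α + ∑ i, delta N i)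
    {θ : Cfsg.IrrCharacter (alternatingGroup α)}
    (hθ : Cfsg.classInner (resAlt α (psi γ)) (θ : alternatingGroup α → ℂ) ≠ 0) :
    Cfsg.pRegularPart p (θ : alternatingGroup α → ℂ) = resAlt α (regV p γ) ∨
      (IsFixedConf N γ ∧ Cfsg.pRegularPart p (θ : alternatingGroup α → ℂ) ∈
        Submodule.span ℂ {resAlt α (regV (α := α) p γ), halfPart α p γ}) := by
  classical
  set δ := twinOf α γ with hδdef
  obtain ⟨hs', hδ, htw, hsg⟩ := twinOf_spec (α := α) hN hs hγ
  have hrel : ∀ g, psi (α := α) δ g = ((Equiv.Perm.sign g : ℤ) : ℂ) * psi γ g := fun g => by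
    simp [psi, hδdef, hsg g]
  by_cases he : δ = γ
  · refine Or.inr ⟨?_, ?_⟩
    · rw [IsFixedConf]
      conv_lhs => rw [← he]
      exact htw.1
    rw [he] at hrel
    have hex : ∃ θ₁ : Cfsg.IrrCharacter (alternatingGroup α),
        ∀ θ : Cfsg.IrrCharacter (alternatingGroup α),
          Cfsg.classInner (resAlt α (psi γ)) (θ : alternatingGroup α → ℂ) ≠ 0 →
            (θ : alternatingGroup α → ℂ) = θ₁ ∨
            (θ : alternatingGroup α → ℂ) = resAlt α (psi γ) - θ₁ :=
      exists_pair_of_eq (γ := ⟨_, isIrr_psi hs hγ⟩) hrel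
    rw [halfPart, dif_pos hex]
    rcases hex.choose_spec θ hθ with h | h
    · rw [h]
      exact Submodule.subset_span (Set.mem_insert_of_mem _ rfl)
    · have h2 : Cfsg.pRegularPart p (θ : alternatingGroup α → ℂ) =
          resAlt α (regV p γ) - Cfsg.pRegularPart p (hex.choose : alternatingGroup α → ℂ) := by
        rw [regV, ← pRegularPart_resAlt, h]
        funext a
        by_cases ha : Cfsg.IsPRegular p a <;> simp [Cfsg.pRegularPart, ha]
      rw [h2]
      exact sub_mem (Submodule.subset_span (Set.mem_insert _ _))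
        (Submodule.subset_span (Set.mem_insert_of_mem _ rfl))
  · refine Or.inl ?_
    have hne : (⟨psi (α := α) δ, isIrr_psi hs' hδ⟩ : Cfsg.IrrCharacter (Equiv.Perm α)) ≠
        ⟨psi (α := α) γ, isIrr_psi hs hγ⟩ :=
      fun e => he (psi_inj hs' hδ hs (congrArg Subtype.val e))
    rw [resAlt_eq_of_ne (γ := ⟨_, isIrr_psi hs hγ⟩) (δ := ⟨_, isIrr_psi hs' hδ⟩) hrel hne hθ,
      regV, ← pRegularPart_resAlt]

/-- The middle counts are exchanged. -/
theorem resCount_twin [NeZero p] {γ δ : Fin N → ℕ} (hs : StrictMono γ) (h : IsTwin γ δ)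
    (hs' : StrictMono δ) (r : ZMod p) :
    resCount p δ r + resCount p γ (pr N p r) =
      ((range (2 * N)).filter fun x : ℕ => (x : ZMod p) = r).card := by
  have hsub : univ.image γ ⊆ range (2 * N) := fun x hx => by
    obtain ⟨i, -, rfl⟩ := mem_image.1 hx
    exact mem_range.2 (h.2 i)
  have h1 := card_filter_refl2 (p := p) hsub r
  rwa [← h.1, card_filter_image hs'.injective, card_filter_image hs.injective] at h1

/-- The twist preserves configurations packed at a middle class. -/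
theorem isConf_twin [NeZero p] (hN : Fintype.card α ≤ N) {r₀ : ZMod p} (hr₀ : pr N p r₀ = r₀)
    {cnt : ZMod p → ℕ} {φ : Fin N → ℕ} (hφ : φ ∈ fixConfs α N p cnt) {γ : Fin N → ℕ}
    (hγ : IsConf α p r₀ cnt γ) : IsConf α p r₀ cnt (twinOf α γ) := by
  obtain ⟨hs, hsum, hc, hpk⟩ := hγ
  obtain ⟨hs', hδ, htw, -⟩ := twinOf_spec (α := α) hN hs hsum
  refine ⟨hs', hδ, fun r => ?_, ?_⟩
  · have h1 := resCount_twin (p := p) hs htw hs' r
    have h2 := resCount_twin (p := p) hφ.1 ⟨hφ.2.2.2, hφ.2.2.2.lt⟩ hφ.1 r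
    rw [hc] at h1
    rw [hφ.2.2.1, hφ.2.2.1] at h2
    omega
  · rw [isPacked_iff_closedAt hs', htw.1]
    exact closedAt_refl2 (by rw [hr₀]; exact (isPacked_iff_closedAt hs).1 hpk)

/-- Half of a set with an involution. -/
theorem exists_half {X : Type*} [LinearOrder X] (C : Finset X) (τ : X → X)
    (hC : ∀ x ∈ C, τ x ∈ C) (hτ : ∀ x ∈ C, τ (τ x) = x) :
    ∃ T ⊆ C, (∀ x ∈ C, x ∈ T ∨ τ x ∈ T) ∧ 2 * T.card ≤ C.card + (C.filter fun x => τ x = x).card := by
  refine ⟨C.filter fun x => x ≤ τ x, filter_subset _ _, fun x hx => ?_, ?_⟩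
  · rcases le_total x (τ x) with h | h
    · exact Or.inl (mem_filter.2 ⟨hx, h⟩)
    · exact Or.inr (mem_filter.2 ⟨hC x hx, by rwa [hτ x hx]⟩)
  · set T := C.filter fun x => x ≤ τ x with hT
    have hinj : (T.image τ).card = T.card := Finset.card_image_of_injOn fun x hx y hy e => by
      have h1 := hτ x (mem_filter.1 hx).1
      rw [e, hτ y (mem_filter.1 hy).1] at h1
      exact h1.symm
    have h := Finset.card_union_add_card_inter T (T.image τ)
    rw [hinj] at h
    have h1 : (T ∪ T.image τ).card ≤ C.card := card_le_card (union_subset (filter_subset _ _)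
      fun y hy => by
        obtain ⟨x, hx, rfl⟩ := mem_image.1 hy
        exact hC x (mem_filter.1 hx).1)
    have h2 : (T ∩ T.image τ).card ≤ (C.filter fun x => τ x = x).card := card_le_card fun x hx => by
      rw [mem_inter] at hx
      obtain ⟨y, hy, rfl⟩ := mem_image.1 hx.2
      rw [hT, mem_filter] at hy hx
      rw [mem_filter, hτ y hy.1]
      refine ⟨hx.1.1, ?_⟩
      have := hx.1.2
      rw [hτ y hy.1] at this
      exact le_antisymm hy.2 this
    omega

end Cfsg.Lib.SymBlocks
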