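import Mathlib

/-!
# Alternants and complete symmetric functions

For a family `x` in a commutative ring: the complete symmetric functions `hh x m`, read off from
the product of geometric series, the Jacobi–Trudi factorisation of an alternant, and Newton's
recursion expressing `hh` through power sums.
-/

set_option autoImplicit false
set_option linter.unusedSectionVars false

namespace Cfsg.Lib.SymBlocks

open Finset PowerSeries

variable {R : Type*} [CommRing R] {κ : Type*}

/-- The geometric series of `a`. -/
noncomputable def geom (a : R) : PowerSeries R := PowerSeries.mk fun n => a ^ n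

theorem coeff_geom (a : R) (n : ℕ) : coeff n (geom a) = a ^ n := by
  rw [geom, coeff_mk]

theorem geom_mul_one_sub (a : R) : geom a * (1 - PowerSeries.C a * PowerSeries.X) = 1 := by
  ext n
  rw [mul_sub, mul_one, map_sub, ← mul_assoc, coeff_one]
  cases n with
  | zero => rw [coeff_geom, pow_zero, coeff_zero_mul_X, sub_zero, if_pos rfl]
  | succ m => rw [coeff_geom, coeff_succ_mul_X, coeff_mul_C, coeff_geom, if_neg m.succ_ne_zero,
      pow_succ, sub_self]

variable [Fintype κ]

/-- The generating series of the complete symmetric functions. -/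
noncomputable def hser (x : κ → R) : PowerSeries R := ∏ k, geom (x k)

/-- The complete symmetric function of degree `m`. -/
noncomputable def hh (x : κ → R) (m : ℕ) : R := coeff m (hser x)

theorem hh_eq_sum [DecidableEq κ] (x : κ → R) (m : ℕ) :
    hh x m = ∑ c ∈ Finset.piAntidiag (univ : Finset κ) m, ∏ k, x k ^ c k := by
  rw [hh, hser, PowerSeries.coeff_prod]
  simp only [coeff_geom]
  refine Finset.sum_nbij' (fun l => ⇑l) (fun c => Finsupp.equivFunOnFinite.symm c) ?_ ?_ ?_ ?_ ?_
  · intro l hl
    rw [mem_finsuppAntidiag] at hl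
    rw [mem_piAntidiag]
    exact ⟨hl.1, fun i _ => mem_univ i⟩
  · intro c hc
    rw [mem_piAntidiag] at hc
    rw [mem_finsuppAntidiag]
    exact ⟨by simpa using hc.1, subset_univ _⟩
  · intro l _
    simp
  · intro c _
    simp
  · intro l _
    rfl

theorem hh_zero (x : κ → R) : hh x 0 = 1 := by
  rw [hh, hser, coeff_zero_eq_constantCoeff_apply, map_prod]
  refine Finset.prod_eq_one fun k _ => ?_
  rw [← coeff_zero_eq_constantCoeff_apply, coeff_geom, pow_zero]

theorem map_hh {S : Type*} [CommRing S] (f : R →+* S) (x : κ → R) (m : ℕ) :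
    f (hh x m) = hh (fun k => f (x k)) m := by
  classical
  rw [hh_eq_sum, hh_eq_sum, map_sum]
  simp only [map_prod, map_pow]

theorem hser_eq_mk (x : κ → R) : hser x = PowerSeries.mk (hh x) := by
  ext n; rw [coeff_mk]; rfl

/-! ## Newton's recursion -/

theorem derivative_geom (a : R) : d⁄dX R (geom a) = geom a * (PowerSeries.C a * geom a) := by
  ext n
  rw [coeff_derivative, coeff_geom, coeff_mul, Finset.sum_congr rfl (g := fun _ => a ^ (n + 1))
    (fun ij hij => by
      rw [coeff_geom, coeff_C_mul, coeff_geom, ← mul_assoc, mul_right_comm, ← pow_add,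
        mem_antidiagonal.1 hij, pow_succ]),
    Finset.sum_const, Nat.card_antidiagonal, nsmul_eq_mul]
  push_cast
  ring

theorem derivative_hser_sum (x : κ → R) (s : Finset κ) :
    d⁄dX R (∏ k ∈ s, geom (x k)) =
      (∏ k ∈ s, geom (x k)) * ∑ k ∈ s, PowerSeries.C (x k) * geom (x k) := by
  classical
  induction s using Finset.induction with
  | empty => simp
  | insert a s ha ih =>
    rw [Finset.prod_insert ha, Finset.sum_insert ha, Derivation.leibniz, ih, derivative_geom,
      smul_eq_mul, smul_eq_mul]
    ring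

theorem newton (x : κ → R) (m : ℕ) :
    ((m : R) + 1) * hh x (m + 1) =
      ∑ ij ∈ antidiagonal m, hh x ij.1 * ∑ k, x k ^ (ij.2 + 1) := by
  have h := congrArg (coeff m) (derivative_hser_sum x univ)
  rw [coeff_derivative, coeff_mul] at h
  rw [mul_comm, hh, hser, h]
  refine Finset.sum_congr rfl fun ij _ => ?_
  rw [map_sum, hh, hser]
  congr 1
  refine Finset.sum_congr rfl fun k _ => ?_
  rw [coeff_C_mul, coeff_geom, pow_succ']

/-! ## Alternants -/

/-- The alternant of the exponents `α`. -/
noncomputable def alt {N : ℕ} (x : Fin N → R) (α : Fin N → ℕ) : R :=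
  (Matrix.of fun i j => x j ^ α i).det

theorem alt_eq_sum {N : ℕ} (x : Fin N → R) (α : Fin N → ℕ) :
    alt x α = ∑ σ : Equiv.Perm (Fin N),
      ((Equiv.Perm.sign σ : ℤ) : R) * ∏ i, x i ^ α (σ i) := by
  rw [alt, Matrix.det_apply]
  refine Finset.sum_congr rfl fun σ _ => ?_
  simp [Units.smul_def, zsmul_eq_mul]

theorem map_alt {S : Type*} [CommRing S] (f : R →+* S) {N : ℕ} (x : Fin N → R) (α : Fin N → ℕ) :
    f (alt x α) = alt (fun i => f (x i)) α := by
  rw [alt, alt, RingHom.map_det]
  congr 1
  ext i j
  simp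

theorem alt_comp {N : ℕ} (x : Fin N → R) (α : Fin N → ℕ) (σ : Equiv.Perm (Fin N)) :
    alt x (α ∘ σ) = ((Equiv.Perm.sign σ : ℤ) : R) * alt x α := by
  rw [alt, alt]
  exact Matrix.det_permute σ (Matrix.of fun i j => x j ^ α i)

/-- The matrix of complete symmetric functions of Jacobi–Trudi. -/
noncomputable def hmat {N : ℕ} (x : Fin N → R) (α : Fin N → ℕ) : Matrix (Fin N) (Fin N) R :=
  Matrix.of fun i e => if (e : ℕ) ≤ α i then hh x (α i - e) else 0

/-- The polynomial omitting `j`. -/
noncomputable def coPoly {N : ℕ} (x : Fin N → R) (j : Fin N) : Polynomial R :=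
  ∏ k ∈ univ.erase j, (1 - Polynomial.C (x k) * Polynomial.X)

theorem natDegree_coPoly {N : ℕ} (x : Fin N → R) (j : Fin N) :
    (coPoly x j).natDegree < N := by
  have h1 : (coPoly x j).natDegree ≤ (univ.erase j).card * 1 := by
    refine (Polynomial.natDegree_prod_le _ _).trans ?_
    refine (Finset.sum_le_card_nsmul _ _ 1 fun k _ => ?_).trans (le_of_eq (smul_eq_mul _ _))
    refine (Polynomial.natDegree_sub_le _ _).trans ?_
    rw [Polynomial.natDegree_one, Nat.zero_max]
    exact (Polynomial.natDegree_C_mul_le _ _).trans Polynomial.natDegree_X_le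
  rw [card_erase_of_mem (mem_univ j), card_univ, Fintype.card_fin] at h1
  have := j.pos
  omega

theorem hser_mul_coPoly {N : ℕ} (x : Fin N → R) (j : Fin N) :
    hser x * (coPoly x j : PowerSeries R) = geom (x j) := by
  classical
  rw [coPoly, ← Polynomial.coeToPowerSeries.ringHom_apply, map_prod, hser,
    ← Finset.mul_prod_erase univ (fun k => geom (x k)) (mem_univ j), mul_assoc,
    ← Finset.prod_mul_distrib, Finset.prod_eq_one, mul_one]
  intro k _
  simp [geom_mul_one_sub]

theorem pow_eq_sum {N : ℕ} (x : Fin N → R) (j : Fin N) (a : ℕ) :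
    x j ^ a = ∑ e : Fin N, (if (e : ℕ) ≤ a then hh x (a - e) else 0) * (coPoly x j).coeff e := by
  rw [Fin.sum_univ_eq_sum_range
      (fun e => (if e ≤ a then hh x (a - e) else 0) * (coPoly x j).coeff e) N,
    ← coeff_geom (x j) a, ← hser_mul_coPoly, mul_comm, coeff_mul,
    Finset.Nat.sum_antidiagonal_eq_sum_range_succ
      (fun u v => coeff u (coPoly x j : PowerSeries R) * coeff v (hser x))]
  simp only [Polynomial.coeff_coe, ite_mul, zero_mul]
  rw [Finset.sum_ite, Finset.sum_const_zero, add_zero]
  refine (Finset.sum_subset_zero_on_sdiff (fun e he => ?_) (fun e he => ?_) fun e _ => ?_).symm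
  · simp only [mem_filter, mem_range] at he ⊢; omega
  · simp only [mem_sdiff, mem_filter, mem_range, not_and] at he
    rw [Polynomial.coeff_eq_zero_of_natDegree_lt, zero_mul]
    have := natDegree_coPoly x j
    by_contra hc
    exact he.2 (by omega) (by omega)
  · rw [mul_comm]; rfl

theorem alt_eq_det_mul_aux {N : ℕ} (x : Fin N → R) (α : Fin N → ℕ) :
    alt x α = (hmat x α).det * (Matrix.of fun e j : Fin N => (coPoly x j).coeff e).det := by
  rw [alt, ← Matrix.det_mul]
  congr 1
  ext i j
  rw [Matrix.mul_apply, Matrix.of_apply, pow_eq_sum]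
  exact Finset.sum_congr rfl fun e _ => rfl

theorem det_hmat_id {N : ℕ} (x : Fin N → R) : (hmat x fun i => (i : ℕ)).det = 1 := by
  rw [Matrix.det_of_isLowerTriangular]
  · refine Finset.prod_eq_one fun i _ => ?_
    simp [hmat, hh_zero]
  · intro i j hij
    have h : (i : ℕ) < (j : ℕ) := hij
    simp only [hmat, Matrix.of_apply, if_neg h.not_ge]

/-- **Jacobi–Trudi.** -/
theorem jacobi_trudi {N : ℕ} (x : Fin N → R) (α : Fin N → ℕ) :
    alt x α = (hmat x α).det * alt x (fun i => (i : ℕ)) := by
  conv_rhs => rw [alt_eq_det_mul_aux x fun i => (i : ℕ), det_hmat_id, one_mul]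
  exact alt_eq_det_mul_aux x α

end Cfsg.Lib.SymBlocks
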