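import Cfsg.Agent.SymBlocks.Degree

/-!
# Every irreducible character of a symmetric group is a `psi β`
-/

set_option autoImplicit false
set_option linter.unusedSectionVars false

namespace Cfsg.Lib.SymBlocks

open Finset

variable {N : ℕ} {α : Type*} [Fintype α] [DecidableEq α]

theorem nfix_comp (c : Fin N → ℕ) (τ : Equiv.Perm (Fin N)) (g : Equiv.Perm α) :
    nfix (c ∘ τ) g = nfix c g := by
  rw [nfix, nfix]
  have hc : ∀ f : α → Fin N, content (τ ∘ f) = content f ∘ τ.symm := fun f => by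
    funext k
    refine congrArg Finset.card (Finset.filter_congr fun a _ => ?_)
    exact (Equiv.eq_symm_apply τ).symm
  refine Finset.card_nbij' (fun f => τ ∘ f) (fun f => τ.symm ∘ f) ?_ ?_ ?_ ?_
  · intro f hf
    rw [Finset.mem_coe, mem_filter, mem_fixedCol] at hf ⊢
    refine ⟨fun a => congrArg τ (hf.1 a), ?_⟩
    rw [hc, hf.2]
    funext k
    simp
  · intro f hf
    rw [Finset.mem_coe, mem_filter, mem_fixedCol] at hf ⊢
    refine ⟨fun a => congrArg τ.symm (hf.1 a), ?_⟩
    have h2 := hc (τ.symm ∘ f)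
    rw [← Function.comp_assoc, Equiv.self_comp_symm, Function.id_comp, hf.2] at h2
    funext k
    have h3 := congrFun h2 (τ k)
    simpa using h3.symm
  · intro f _; funext a; simp
  · intro f _; funext a; simp

theorem psiZ_comp (β : Fin N → ℕ) (τ : Equiv.Perm (Fin N)) (g : Equiv.Perm α) :
    psiZ (β ∘ τ) g = (Equiv.Perm.sign τ : ℤ) * psiZ β g := by
  rw [psiZ_eq_sum, psiZ_eq_sum, Finset.mul_sum]
  refine Fintype.sum_equiv (Equiv.mulRight τ⁻¹) _ _ fun σ => ?_
  rw [Equiv.coe_mulRight, map_mul, map_inv, Units.val_mul, ← mul_assoc,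
    mul_comm ((Equiv.Perm.sign τ : ℤˣ) : ℤ), mul_assoc ((Equiv.Perm.sign σ : ℤˣ) : ℤ),
    ← Units.val_mul, inv_mul_cancel, Units.val_one, mul_one]
  congr 1
  have hiff : (∀ i, delta N (σ i) ≤ (β ∘ τ) i) ↔ ∀ i, delta N ((σ * τ⁻¹) i) ≤ β i := by
    refine ⟨fun h i => ?_, fun h i => ?_⟩
    · simpa using h (τ⁻¹ i)
    · simpa using h (τ i)
  refine if_congr hiff ?_ rfl
  rw [← nfix_comp (fun i => β i - delta N ((σ * τ⁻¹) i)) τ g]
  congr 2
  funext i
  simp

theorem psiZ_eq_zero_of_not_injective {β : Fin N → ℕ} (h : ¬ Function.Injective β)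
    (g : Equiv.Perm α) : psiZ β g = 0 := by
  obtain ⟨i, j, hij, hne⟩ : ∃ i j, β i = β j ∧ i ≠ j := by
    simpa [Function.Injective] using h
  have hβ : β ∘ Equiv.swap i j = β := by
    funext k
    rw [Function.comp_apply, Equiv.swap_apply_def]
    split_ifs with h1 h2
    · rw [h1, hij]
    · rw [h2, hij]
    · rfl
  have := psiZ_comp β (Equiv.swap i j) g
  rw [hβ, Equiv.Perm.sign_swap hne] at this
  simp at this
  omega

theorem psiZ_eq_zero_of_sum {β : Fin N → ℕ} (h : ∑ i, β i ≠ Fintype.card α + ∑ i, delta N i)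
    (g : Equiv.Perm α) : psiZ β g = 0 := by
  rw [psiZ_eq_sum]
  refine Finset.sum_eq_zero fun σ _ => ?_
  split_ifs with hle
  · rw [nfix_eq_zero g, Nat.cast_zero, mul_zero]
    intro hs
    have : ∑ i, (β i - delta N (σ i)) + ∑ i, delta N (σ i) = ∑ i, β i := by
      rw [← Finset.sum_add_distrib]
      exact Finset.sum_congr rfl fun i _ => Nat.sub_add_cancel (hle i)
    rw [Equiv.sum_comp σ (delta N)] at this
    omega
  · rw [mul_zero]

theorem exists_sort {β : Fin N → ℕ} (h : Function.Injective β) :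
    ∃ τ : Equiv.Perm (Fin N), StrictMono (β ∘ τ) :=
  ⟨Tuple.sort β, (Tuple.monotone_sort β).strictMono_of_injective
    (h.comp (Tuple.sort β).injective)⟩

/-- The orbits of a permutation. -/
abbrev Orb (g : Equiv.Perm α) : Type _ := Quotient (Equiv.Perm.SameCycle.setoid g)

theorem fixedCol_const {g : Equiv.Perm α} {κ : Type*} [Fintype κ] [DecidableEq κ] {f : α → κ}
    (hf : f ∈ fixedCol κ g) {a b : α} (h : g.SameCycle a b) : f a = f b := by
  obtain ⟨k, -, -, rfl⟩ := h.exists_pow_eq''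
  exact (fixedCol_pow hf k a).symm

/-- Permutations with the same orbits are conjugate. -/
theorem isConj_of_sameCycle_iff {g g' : Equiv.Perm α}
    (h : ∀ a b, g.SameCycle a b ↔ g'.SameCycle a b) : IsConj g g' := by
  classical
  let r : α → α := fun a => (Quotient.mk (Equiv.Perm.SameCycle.setoid g) a).out
  have hr : ∀ a, g.SameCycle (r a) a := fun a =>
    Quotient.exact (s := Equiv.Perm.SameCycle.setoid g) (Quotient.out_eq _)
  have hrr : ∀ {a b}, g.SameCycle a b → r a = r b := fun hab =>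
    congrArg Quotient.out (Quotient.sound (s := Equiv.Perm.SameCycle.setoid g) hab)
  choose i hi using hr
  let s : α → Finset α := fun a => univ.filter fun b => g.SameCycle (r a) b
  have hmem : ∀ a, r a ∈ s a := fun a => mem_filter.2 ⟨mem_univ _, Equiv.Perm.SameCycle.refl _ _⟩
  have hcyc : ∀ (f : Equiv.Perm α), (∀ a b, g.SameCycle a b ↔ f.SameCycle a b) →
      ∀ a, f.IsCycleOn (s a : Set α) := by
    intro f hf a
    refine ⟨Equiv.bijOn f fun x => ?_, fun x hx y hy => ?_⟩
    · simp only [s, Finset.coe_filter, Set.mem_setOf_eq, mem_univ, true_and, hf,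
        Equiv.Perm.sameCycle_apply_right]
    · simp only [s, Finset.coe_filter, Set.mem_setOf_eq, mem_univ, true_and, hf] at hx hy
      exact hx.symm.trans hy
  have key : ∀ a (m n : ℤ), (g ^ m) (r a) = (g ^ n) (r a) ↔ (g' ^ m) (r a) = (g' ^ n) (r a) := by
    intro a m n
    rw [(hcyc g (fun _ _ => Iff.rfl) a).zpow_apply_eq_zpow_apply (hmem a),
      (hcyc g' h a).zpow_apply_eq_zpow_apply (hmem a)]
  let φ : α → α := fun a => (g' ^ i a) (r a)
  have hφ : ∀ a, φ (g a) = g' (φ a) := by
    intro a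
    have hra : r (g a) = r a :=
      hrr ((Equiv.Perm.sameCycle_apply_right (f := g)).2 (Equiv.Perm.SameCycle.refl g a)).symm
    have h1 : (g ^ i (g a)) (r a) = (g ^ (1 + i a)) (r a) := by
      rw [zpow_add, zpow_one, Equiv.Perm.mul_apply, hi a, ← hra, hi (g a)]
    have h2 := (key a _ _).1 h1
    rw [zpow_add, zpow_one, Equiv.Perm.mul_apply] at h2
    simp only [φ, hra]
    exact h2
  have hinj : Function.Injective φ := by
    intro a b hab
    have h1 : g'.SameCycle (r a) (r b) :=
      Equiv.Perm.SameCycle.trans ⟨i a, hab⟩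
        (Equiv.Perm.SameCycle.symm ⟨i b, rfl⟩)
    have h2 : r a = r b := by
      have := hrr ((h _ _).2 h1)
      have e1 : r (r a) = r a := hrr ⟨i a, hi a⟩
      have e2 : r (r b) = r b := hrr ⟨i b, hi b⟩
      rwa [e1, e2] at this
    simp only [φ, ← h2] at hab
    have := (key a _ _).2 hab
    rwa [hi a, h2, hi b] at this
  refine isConj_iff.2 ⟨Equiv.ofBijective φ (Finite.injective_iff_bijective.1 hinj), ?_⟩
  rw [mul_inv_eq_iff_eq_mul]
  exact Equiv.ext hφ

theorem class_fun_eq_zero {θ : Equiv.Perm α → ℂ} (hθ : Cfsg.IsClassFunction (Equiv.Perm α) θ)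
    (hN : Fintype.card α ≤ N)
    (h : ∀ c : Fin N → ℕ, ∑ g : Equiv.Perm α, θ g * (nfix c g : ℂ) = 0) : θ = 0 := by
  classical
  by_contra hne
  obtain ⟨g₁, hg₁⟩ : ∃ g, θ g ≠ 0 := Function.ne_iff.1 hne
  obtain ⟨g₀, hg₀, hmax⟩ := Finset.exists_max_image (univ.filter fun g => θ g ≠ 0)
    (fun g : Equiv.Perm α => Nat.card (Orb g)) ⟨g₁, by simp [hg₁]⟩
  rw [mem_filter] at hg₀
  obtain ⟨e⟩ : Nonempty (Orb g₀ ↪ Fin N) := Function.Embedding.nonempty_of_card_le (by
    rw [Fintype.card_fin]
    exact (Fintype.card_quotient_le _).trans hN)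
  set f₀ : α → Fin N := fun a => e (Quotient.mk _ a) with hf₀
  have hf₀g : f₀ ∈ fixedCol (Fin N) g₀ := mem_fixedCol.2 fun a =>
    congrArg e (Quotient.sound (s := Equiv.Perm.SameCycle.setoid g₀)
      ((Equiv.Perm.sameCycle_apply_right (f := g₀)).2 (Equiv.Perm.SameCycle.refl g₀ a)).symm)
  have hconj : ∀ g, θ g ≠ 0 → nfix (content f₀) g ≠ 0 → θ g = θ g₀ := by
    intro g hg hn
    obtain ⟨f, hf⟩ := Finset.card_ne_zero.1 hn
    rw [mem_filter] at hf
    obtain ⟨τ, hτ⟩ := exists_comp_eq (f := f₀) (f' := f) hf.2.symm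
    let fbar : Orb g → Fin N := Quotient.lift f fun a b hab => fixedCol_const hf.1 hab
    have hrange : Set.range f = Set.range f₀ := by
      rw [← hτ, τ.surjective.range_comp]
    have h1 : Set.range fbar = Set.range f :=
      ((Quotient.mk_surjective (s := Equiv.Perm.SameCycle.setoid g)).range_comp fbar).symm
    have h2 : Set.range e = Set.range f₀ :=
      ((Set.range_comp e (Quotient.mk (Equiv.Perm.SameCycle.setoid g₀))).trans
        (by rw [Quotient.mk_surjective.range_eq, Set.image_univ])).symm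
    have h3 : Nat.card (Set.range fbar) = Nat.card (Orb g₀) := by
      rw [h1, hrange, ← h2, Nat.card_range_of_injective e.injective]
    have hle : Nat.card (Orb g) ≤ Nat.card (Set.range fbar) :=
      h3 ▸ hmax g (mem_filter.2 ⟨mem_univ _, hg⟩)
    have hfinj : Function.Injective fbar := by
      rw [← Set.injective_codRestrict (s := Set.range fbar) fun x => Set.mem_range_self x]
      refine ((Nat.bijective_iff_surjective_and_card _).2 ⟨?_, ?_⟩).injective
      · rintro ⟨y, x, rfl⟩; exact ⟨x, rfl⟩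
      · exact le_antisymm hle (Nat.card_le_card_of_surjective
          (Set.codRestrict fbar (Set.range fbar) fun x => Set.mem_range_self x)
          (by rintro ⟨y, x, rfl⟩; exact ⟨x, rfl⟩))
    refine Cfsg.Lib.Chars.classFunction_eq_of_isConj hθ ?_
    have hc : IsConj g (τ * g * τ⁻¹) := isConj_iff.2 ⟨τ, rfl⟩
    refine hc.trans (isConj_of_sameCycle_iff fun a b => ?_)
    rw [Equiv.Perm.sameCycle_conj]
    constructor
    · intro hab
      have h5 := fixedCol_const hf.1 hab
      rw [← hτ] at h5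
      simp only [Function.comp_apply, Equiv.Perm.inv_def, Equiv.apply_symm_apply] at h5
      exact Quotient.exact (s := Equiv.Perm.SameCycle.setoid g₀) (e.injective h5)
    · intro hab
      have h5 : f₀ a = f₀ b := fixedCol_const hf₀g hab
      have h6 : f (τ⁻¹ a) = f (τ⁻¹ b) := by
        rw [← hτ]
        simpa using h5
      exact Quotient.exact (s := Equiv.Perm.SameCycle.setoid g) (hfinj (a₁ := Quotient.mk _ _)
        (a₂ := Quotient.mk _ _) h6)
  have hsum := h (content f₀)
  rw [← Finset.sum_filter_of_ne (p := fun g => θ g ≠ 0 ∧ nfix (content f₀) g ≠ 0)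
      (fun g _ hg => ⟨left_ne_zero_of_mul hg, fun e0 => hg (by rw [e0]; simp)⟩),
    Finset.sum_congr rfl (g := fun g => θ g₀ * (nfix (content f₀) g : ℂ)) (fun g hg => by
      rw [hconj g (mem_filter.1 hg).2.1 (mem_filter.1 hg).2.2]),
    ← Finset.mul_sum, ← Nat.cast_sum, mul_eq_zero, Nat.cast_eq_zero] at hsum
  rcases hsum with h0 | h0
  · exact hg₀.2 h0
  · have hn₀ : nfix (content f₀) g₀ ≠ 0 :=
      Finset.card_ne_zero.2 ⟨f₀, mem_filter.2 ⟨hf₀g, rfl⟩⟩
    exact hn₀ ((Finset.sum_eq_zero_iff.1 h0) g₀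
      (mem_filter.2 ⟨mem_univ _, hg₀.2, hn₀⟩))

theorem eq_zero_of_orth {θ : Equiv.Perm α → ℂ} (hθ : Cfsg.IsClassFunction (Equiv.Perm α) θ)
    (hN : Fintype.card α ≤ N)
    (h : ∀ b : Fin N → ℕ, StrictMono b → ∑ i, b i = Fintype.card α + ∑ i, delta N i →
      ∑ g : Equiv.Perm α, θ g * (psiZ b g : ℂ) = 0) : θ = 0 := by
  have hall : ∀ b : Fin N → ℕ, ∑ g : Equiv.Perm α, θ g * (psiZ b g : ℂ) = 0 := by
    intro b
    by_cases hs : ∑ i, b i = Fintype.card α + ∑ i, delta N i
    · by_cases hi : Function.Injective b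
      · obtain ⟨τ, hτ⟩ := exists_sort hi
        have h1 := h (b ∘ τ) hτ ((Equiv.sum_comp τ b).trans hs)
        simp only [psiZ_comp, Int.cast_mul, mul_left_comm (θ _), ← Finset.mul_sum] at h1
        exact (mul_eq_zero.1 h1).resolve_left
          (Int.cast_ne_zero.2 (Units.ne_zero _))
      · simp [psiZ_eq_zero_of_not_injective hi]
    · simp [psiZ_eq_zero_of_sum hs]
  refine class_fun_eq_zero hθ hN fun c => ?_
  -- the alternant is not a zero divisor
  set A : MvPolynomial (Fin N) ℂ :=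
    MvPolynomial.map (Int.castRingHom ℂ) (alt MvPolynomial.X (delta N)) with hA
  set P : MvPolynomial (Fin N) ℂ := ∑ g : Equiv.Perm α,
    MvPolynomial.C (θ g) * MvPolynomial.map (Int.castRingHom ℂ) (powProd MvPolynomial.X g) with hP
  have hAP : A * P = 0 := by
    ext d
    rw [hP, Finset.mul_sum, MvPolynomial.coeff_sum, MvPolynomial.coeff_zero]
    have := hall fun i => d i
    rw [← this]
    refine Finset.sum_congr rfl fun g _ => ?_
    rw [hA, mul_left_comm, MvPolynomial.coeff_C_mul, ← map_mul, MvPolynomial.coeff_map]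
    congr 2
    have hd : d = mon (fun i => d i) := Finsupp.ext fun i => rfl
    conv_lhs => rw [hd]
    rfl
  have hA0 : A ≠ 0 := fun e => by
    have h1 := congrArg (MvPolynomial.coeff (mon (delta N))) e
    rw [hA, MvPolynomial.coeff_map, coeff_alt,
      sum_sign_comp_strictMono (α := delta N) (β := delta N) (fun i j hij => hij)
        (fun i j hij => hij), if_pos rfl] at h1
    simp at h1
  have hP0 : P = 0 := (mul_eq_zero.1 hAP).resolve_left hA0
  have h2 := congrArg (MvPolynomial.coeff (mon c)) hP0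
  rw [hP, MvPolynomial.coeff_sum, MvPolynomial.coeff_zero] at h2
  rw [← h2]
  refine Finset.sum_congr rfl fun g _ => ?_
  rw [MvPolynomial.coeff_C_mul, MvPolynomial.coeff_map, coeff_powProd]
  simp

/-- **Every irreducible character is a `psi β`.** -/
theorem exists_psi_eq (hN : Fintype.card α ≤ N) (χ : Cfsg.IrrCharacter (Equiv.Perm α)) :
    ∃ β : Fin N → ℕ, StrictMono β ∧ ∑ i, β i = Fintype.card α + ∑ i, delta N i ∧
      (χ : Equiv.Perm α → ℂ) = psi β := by
  by_contra hno
  push Not at hno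
  have h0 := eq_zero_of_orth (Cfsg.Lib.Chars.isClassFunction_irr χ) hN fun b hb hs => ?_
  · exact Cfsg.Lib.Chars.IsIrrCharacter.apply_one_ne_zero χ.2 (congrFun h0 1)
  have hne : χ ≠ ⟨psi b, isIrr_psi hb hs⟩ := fun e => hno b hb hs (congrArg Subtype.val e)
  have h1 := Cfsg.Lib.Chars.classInner_irr_ne hne
  rw [Cfsg.Lib.Chars.classInner_def, mul_eq_zero, inv_eq_zero, Nat.cast_eq_zero] at h1
  have h2 := h1.resolve_left Nat.card_pos.ne'
  simpa [psi, map_intCast] using h2

end Cfsg.Lib.SymBlocks
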