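import Cfsg.Agent.SymBlocks.Local
import Cfsg.Agent.SymBlocks.Complete

/-!
# Blocks, defects and defect groups of symmetric groups
-/

set_option autoImplicit false
set_option linter.unusedSectionVars false
set_option linter.style.haveILetI false

namespace Cfsg.Lib.SymBlocks

open Finset Cfsg.Lib.Blocks Cfsg.Lib.Chars

universe u

variable {α : Type u} [Fintype α] [DecidableEq α] {p N : ℕ} [Fact p.Prime]
  {M : Ideal Cfsg.AlgInt}

/-- The core data of a configuration. -/
theorem exists_core {γ : Fin N → ℕ} (hs : StrictMono γ)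
    (hγ : ∑ i, γ i = Fintype.card α + ∑ i, delta N i) {r : ℕ}
    (hr : r = Fintype.card α - p * weight α N p (resCount p γ)) :
    ∃ a : Fin N → ℕ, StrictMono a ∧ ∑ i, a i = Fintype.card (Fin r) + ∑ i, delta N i ∧
      weight (Fin r) N p (resCount p a) = 0 ∧ univ.image a = univ.image (coreOf p γ) ∧
      ∀ σ : Equiv.Perm (Fin r), psiZ (coreOf p γ) σ ≠ 0 →
        ∃ c : ℤ, c ≠ 0 ∧ ∀ ρ : Equiv.Perm (Fin r), psiZ (coreOf p γ) ρ = c * psiZ a ρ := by
  obtain ⟨τ, hτ⟩ := exists_sort (coreOf_injective (p := p) γ)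
  have himg : univ.image (coreOf p γ ∘ τ) = univ.image (coreOf p γ) := by
    rw [← Finset.image_image, Finset.image_univ_equiv]
  have hsum : ∑ i, (coreOf p γ ∘ τ) i = r + ∑ i, delta N i := by
    have h1 := coreSum_add (p := p) hs
    have h2 := mul_weight_le (α := α) (p := p) hs hγ
    simp only [Function.comp_apply]
    rw [Equiv.sum_comp τ (coreOf p γ), sum_coreOf hs]
    rw [sum_excess_eq_weight (α := α) hs hγ, hγ] at h1
    omega
  refine ⟨coreOf p γ ∘ τ, hτ, by rw [Fintype.card_fin]; exact hsum, ?_, himg, fun σ _ => ?_⟩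
  · rw [show resCount p (coreOf p γ ∘ τ) = resCount p γ from funext fun s => by
      rw [resCount_comp, resCount_coreOf], weight, Fintype.card_fin, ← hsum]
    simp only [Function.comp_apply]
    rw [Equiv.sum_comp τ (coreOf p γ), sum_coreOf hs, Nat.sub_self, Nat.zero_div]
  · refine ⟨(Equiv.Perm.sign τ⁻¹ : ℤ), Units.ne_zero _, fun ρ => ?_⟩
    rw [← psiZ_comp]
    congr 1
    funext i
    simp

theorem cycleProd_mul_restHom {w r : ℕ} (e : (Fin w × ZMod p) ⊕ Fin r ≃ α)
    (σ : Equiv.Perm (Fin r)) :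
    cycleProd e * restHom e σ = e.permCongr ((rotProd p w).sumCongr σ) := by
  rw [cycleProd_eq]
  refine Equiv.ext fun z => ?_
  obtain ⟨(x | j), rfl⟩ := e.surjective z <;>
    simp [restHom, Equiv.permCongr_apply]

/-- The local block of a configuration. -/
theorem exists_local {γ : Fin N → ℕ} (hM : Cfsg.IsPModular p M) (hs : StrictMono γ)
    (hγ : ∑ i, γ i = Fintype.card α + ∑ i, delta N i) {w r : ℕ}
    (hw : w = weight α N p (resCount p γ)) (hr : r = Fintype.card α - p * w)
    (e : (Fin w × ZMod p) ⊕ Fin r ≃ α) {a : Fin N → ℕ} (hsa : StrictMono a)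
    (hasum : ∑ i, a i = Fintype.card (Fin r) + ∑ i, delta N i)
    (hw0 : weight (Fin r) N p (resCount p a) = 0)
    (hai : univ.image a = univ.image (coreOf p γ)) :
    ∃ f, Cfsg.IsInducedBlock M (cycCent e) f (Cfsg.blockOf M (psi (α := α) γ)) ∧
      OverCore e a f := by
  subst hw
  obtain ⟨d, hd, hval⟩ := psiZ_rotProd_mul hs hγ rfl e
  obtain ⟨τ, hτ⟩ := exists_sort (coreOf_injective (p := p) γ)
  have ha : a = coreOf p γ ∘ τ := eq_of_image_eq hsa hτ (by
    rw [hai, ← Finset.image_image, Finset.image_univ_equiv])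
  refine exists_inducing_overCore e hM (isPBlock_blockOf ⟨_, isIrr_psi (α := α) hs hγ⟩)
    (χ := ⟨_, isIrr_psi hs hγ⟩) (mem_blockOf_self hM _) hsa hasum hw0
    (c := ((d * (Equiv.Perm.sign τ⁻¹ : ℤ) : ℤ) : ℂ))
    (Int.cast_ne_zero.2 (mul_ne_zero hd (Units.ne_zero _))) fun σ => ?_
  show psi γ _ = _
  rw [cycleProd_mul_restHom, psi, psi, hval, ← Int.cast_mul, mul_assoc, ← psiZ_comp, ha]
  congr 3
  funext i
  simp

/-- **The Nakayama rule.** -/
theorem blockOf_eq_of_resCount (hM : Cfsg.IsPModular p M) {γ γ' : Fin N → ℕ} (hs : StrictMono γ)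
    (hγ : ∑ i, γ i = Fintype.card α + ∑ i, delta N i) (hs' : StrictMono γ')
    (hγ' : ∑ i, γ' i = Fintype.card α + ∑ i, delta N i)
    (hc : ∀ r, resCount p γ r = resCount p γ' r) :
    Cfsg.blockOf M (psi (α := α) γ) = Cfsg.blockOf M (psi (α := α) γ') := by
  classical
  obtain ⟨e⟩ := exists_cycleEquiv (p := p) hs hγ
  letI := Fintype.ofFinite (cycCent e)
  obtain ⟨a, hsa, hasum, hw0, hai, -⟩ := exists_core (p := p) hs hγ rfl
  have himg : univ.image (coreOf p γ') = univ.image (coreOf p γ) :=
    eq_of_closed (closedAt_coreOf γ') (closedAt_coreOf γ) fun r => by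
      rw [card_filter_image (coreOf_injective γ'), card_filter_image (coreOf_injective γ),
        resCount_coreOf, resCount_coreOf, hc]
  obtain ⟨f, hf, hof⟩ := exists_local hM hs hγ rfl rfl e hsa hasum hw0 hai
  obtain ⟨f', hf', hof'⟩ := exists_local hM hs' hγ'
    (show weight α N p (resCount p γ) = weight α N p (resCount p γ') by rw [funext hc]) rfl e
    hsa hasum hw0 (hai.trans himg.symm)
  obtain rfl := overCore_unique e hM hsa hasum hf.1 hf'.1 hof hof'
  exact IsInducedBlock.unique hM hf hf'

/-- Members of the block of `γ` have its residue counts. -/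
theorem exists_of_mem_block (hM : Cfsg.IsPModular p M) (hN : Fintype.card α ≤ N) {γ : Fin N → ℕ}
    (hs : StrictMono γ) (hγ : ∑ i, γ i = Fintype.card α + ∑ i, delta N i)
    {χ : Cfsg.IrrCharacter (Equiv.Perm α)} (hχ : χ ∈ Cfsg.blockOf M (psi (α := α) γ)) :
    ∃ γ' : Fin N → ℕ, StrictMono γ' ∧ ∑ i, γ' i = Fintype.card α + ∑ i, delta N i ∧
      (χ : Equiv.Perm α → ℂ) = psi γ' ∧ ∀ r, resCount p γ' r = resCount p γ r := by
  obtain ⟨γ', hs', hsum', he⟩ := exists_psi_eq hN χ
  refine ⟨γ', hs', hsum', he, fun r => (resCount_eq_of_sameBlock hM hs hγ hs' hsum' ?_ r).symm⟩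
  rw [← he]
  exact hχ

theorem deg_factorization_ge {γ : Fin N → ℕ} (hs : StrictMono γ)
    (hγ : ∑ i, γ i = Fintype.card α + ∑ i, delta N i) :
    (Fintype.card α).factorial.factorization p ≤
      (Cfsg.charDegree (psi (α := α) γ)).factorization p + (weight α N p (resCount p γ) +
        (weight α N p (resCount p γ)).factorial.factorization p) := by
  rw [Nat.factorization_def _ (Fact.out : p.Prime), Nat.factorization_def _ (Fact.out : p.Prime),
    Nat.factorization_def _ (Fact.out : p.Prime)]
  have h1 := deg_valuation (α := α) (p := p) hs hγ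
  have h2 := (hk_image_le (α := α) (p := p) hs hγ).2
  show _ ≤ padicValNat p (deg (psi (α := α) γ)) + _
  rw [Nat.cast_add] at h2
  omega

/-- **The defect and the defect groups of a block of weight `w`.** -/
theorem exists_defect_wreath (hM : Cfsg.IsPModular p M) (hN : Fintype.card α ≤ N) {γ : Fin N → ℕ}
    (hs : StrictMono γ) (hγ : ∑ i, γ i = Fintype.card α + ∑ i, delta N i) {w : ℕ}
    (hw : w = weight α N p (resCount p γ)) {P : Subgroup (Equiv.Perm α)}
    (hP : Cfsg.IsDefectGroup p M (Cfsg.blockOf M (psi (α := α) γ)) P)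
    (S : Sylow p (Equiv.Perm (Fin w))) :
    Cfsg.blockDefect p (Cfsg.blockOf M (psi (α := α) γ)) = w + w.factorial.factorization p ∧
    ∃ ι : (wreath p (S : Subgroup (Equiv.Perm (Fin w)))) →* Equiv.Perm α,
      Function.Injective ι ∧ ι.range = P ∧
      ∀ g, Equiv.Perm.sign (ι g) = Equiv.Perm.sign (g : Equiv.Perm (Fin w × ZMod p)) := by
  classical
  set B := Cfsg.blockOf M (psi (α := α) γ) with hBdef
  have hp := (Fact.out : p.Prime)
  have hB : Cfsg.IsPBlock M B := isPBlock_blockOf ⟨_, isIrr_psi (α := α) hs hγ⟩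
  have he := exists_cycleEquiv (p := p) hs hγ
  rw [← hw] at he
  obtain ⟨e⟩ := he
  letI := Fintype.ofFinite (cycCent e)
  obtain ⟨a, hsa, hasum, hw0, hai, -⟩ := exists_core (p := p) hs hγ
    (r := Fintype.card α - p * w) (by rw [← hw])
  obtain ⟨f, hf, -⟩ := exists_local hM hs hγ hw rfl e hsa hasum hw0 hai
  obtain ⟨Df, hDf⟩ := exists_defectGroup hM hf.1
  obtain ⟨g, hg, Sg, hSg⟩ := id hDf
  -- the defect class lies in the complement
  haveI := transSub_normal e
  have hns := ((isDefectClass_iff hM hf.1 g).1 hg).1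
  have hgK : g ∈ Subgroup.centralizer (transSub e : Set (cycCent e)) := by
    by_contra h
    exact hns (by rw [blockCoeff_eq_zero_of_not_mem_centralizer hM (isPGroup_transSub e) hf.1 h]; exact small_zero)
  have hgr : (g : Equiv.Perm α) ∈ (restHom e).range := by
    have hord := not_dvd_orderOf_of_not_small hM hf.1 hns
    have hco : Nat.Coprime p (orderOf g) := (Nat.Prime.coprime_iff_not_dvd hp).2 hord
    obtain ⟨m, hm⟩ := exists_pow_eq_self_of_coprime hco
    rw [← hm, SubmonoidClass.coe_pow]
    exact pow_mem (pow_mem_range_of_centralizer e hgK) m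
  -- the wreath subgroup centralises it
  set W := wreath p (S : Subgroup (Equiv.Perm (Fin w))) with hW
  have hrot : ∀ g' ∈ W, Commute (rotProd p w) g' := by
    rintro _ ⟨v, σ, -, rfl⟩
    refine Equiv.ext fun x => ?_
    simp [rotProd, rot, wr_apply, add_right_comm]
  have hWH : ∀ g' ∈ W, suppHom e g' ∈ cycCent e := fun g' hg' => by
    rw [mem_cycCent, cycleProd_eq_suppHom]
    exact (hrot g' hg').map (suppHom e)
  set j : W →* cycCent e := ((suppHom e).comp W.subtype).codRestrict _ fun g' => hWH g' g'.2 with hj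
  have hjC : ∀ g', j g' ∈ Subgroup.centralizer ({g} : Set (cycCent e)) := fun g' => by
    obtain ⟨σ, hσ⟩ := hgr
    rw [Subgroup.mem_centralizer_singleton_iff]
    refine Subtype.ext ?_
    show suppHom e g' * (g : Equiv.Perm α) = (g : Equiv.Perm α) * suppHom e g'
    rw [← hσ]
    exact commute_suppHom_restHom e _ _
  set j' : W →* Subgroup.centralizer ({g} : Set (cycCent e)) := j.codRestrict _ hjC with hj'
  have hWp : IsPGroup p W := wreath_isPGroup S.2
  obtain ⟨Q, hQ⟩ := (hWp.of_surjective j'.rangeRestrict j'.rangeRestrict_surjective).exists_le_sylow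
  obtain ⟨c, hc⟩ := MulAction.exists_smul_eq (Subgroup.centralizer ({g} : Set (cycCent e))) Q Sg
  -- into a defect group of `B`
  obtain ⟨E, hE, hle⟩ := exists_defectGroup_ge_of_induced hM (cycCent e) hf hDf
  obtain ⟨z, hz⟩ := IsDefectGroup.exists_eq_conj hM hB hP hE
  set ι₀ : W →* Equiv.Perm α := (MulAut.conj ((c : cycCent e) : Equiv.Perm α)).toMonoidHom.comp
    ((suppHom e).comp W.subtype) with hι₀
  have hι₀E : ∀ g', ι₀ g' ∈ E := fun g' => by
    refine hle ⟨(c : cycCent e) * j g' * (c : cycCent e)⁻¹, ?_, rfl⟩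
    rw [hSg, ← hc]
    exact ⟨c * j' g' * c⁻¹, ⟨j' g', hQ ⟨g', rfl⟩, rfl⟩, rfl⟩
  have hι₀inj : Function.Injective ι₀ := fun x y h =>
    Subtype.ext (suppHom_injective e ((MulAut.conj _).injective h))
  have hcardW : Nat.card W = p ^ (w + w.factorial.factorization p) := by
    rw [hW, card_wreath_sylow, factorization_perm_prod]
  have hge : p ^ (w + w.factorial.factorization p) ≤ p ^ Cfsg.blockDefect p B := by
    rw [← hcardW, ← IsDefectGroup.card hM hB hE]
    exact Nat.card_le_card_of_injective (fun g' => (⟨ι₀ g', hι₀E g'⟩ : E))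
      fun x y h => hι₀inj (congrArg Subtype.val h)
  have hle' : Cfsg.blockDefect p B ≤ w + w.factorial.factorization p := by
    obtain ⟨χ, hχ, hh⟩ := Nat.sInf_mem (s := (fun ψ : Cfsg.IrrCharacter (Equiv.Perm α) =>
      (Cfsg.charDegree (ψ : Equiv.Perm α → ℂ)).factorization p) '' B)
      ((IsPBlock.nonempty hM hB).image _)
    obtain ⟨γ', hs', hsum', he', hc'⟩ := exists_of_mem_block hM hN hs hγ hχ
    have h1 := deg_factorization_ge (α := α) (p := p) hs' hsum'
    rw [funext hc', ← he', ← hw] at h1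
    simp only at hh
    rw [Cfsg.blockDefect, ← hh, Nat.card_perm, Nat.card_eq_fintype_card]
    omega
  have hdef : Cfsg.blockDefect p B = w + w.factorial.factorization p :=
    le_antisymm hle' ((Nat.pow_le_pow_iff_right hp.one_lt).1 hge)
  refine ⟨hdef, (MulAut.conj z⁻¹).toMonoidHom.comp ι₀,
    (MulAut.conj z⁻¹).injective.comp hι₀inj, ?_, fun g' => ?_⟩
  · refine Subgroup.eq_of_le_of_card_ge ?_ (le_of_eq ?_)
    · rintro _ ⟨g', rfl⟩
      have h1 := hι₀E g'
      rw [hz] at h1
      obtain ⟨y, hy, hyz⟩ := h1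
      show (MulAut.conj z⁻¹) (ι₀ g') ∈ P
      rw [← hyz]
      simpa [mul_assoc] using hy
    · rw [IsDefectGroup.card hM hB hP, hdef, ← hcardW]
      exact (Nat.card_congr (MonoidHom.ofInjective
        ((MulAut.conj z⁻¹).injective.comp hι₀inj)).toEquiv)
  · show Equiv.Perm.sign (z⁻¹ * (((c : cycCent e) : Equiv.Perm α) * suppHom e g' *
      ((c : cycCent e) : Equiv.Perm α)⁻¹) * z⁻¹⁻¹) = _
    simp only [map_mul, map_inv, sign_suppHom]
    rcases Int.units_eq_one_or (Equiv.Perm.sign z) with h1 | h1 <;>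
      rcases Int.units_eq_one_or (Equiv.Perm.sign ((c : cycCent e) : Equiv.Perm α)) with h2 | h2 <;>
      simp [h1, h2]

/-- Large configurations have large residue counts. -/
theorem le_resCount {γ : Fin N → ℕ} (hN : (p + 1) * (Fintype.card α + 1) ≤ N) (hs : StrictMono γ)
    (hγ : ∑ i, γ i = Fintype.card α + ∑ i, delta N i) (r : ZMod p) :
    Fintype.card α ≤ resCount p γ r := by
  by_contra hlt
  rw [not_le] at hlt
  set c := resCount p γ r with hc
  -- a hole among the first values of the class
  obtain ⟨k, hk, hknot⟩ : ∃ k, k ≤ c ∧ r.val + p * k ∉ univ.image γ := by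
    by_contra h
    push Not at h
    have hsub : (range (c + 1)).image (fun k => r.val + p * k) ⊆
        (univ.image γ).filter fun x : ℕ => (x : ZMod p) = r := by
      intro x hx
      obtain ⟨k, hk, rfl⟩ := mem_image.1 hx
      refine mem_filter.2 ⟨h k (by rw [mem_range] at hk; omega), ?_⟩
      rw [Nat.cast_add, Nat.cast_mul, ZMod.natCast_self, zero_mul, add_zero, ZMod.natCast_zmod_val]
    have h1 := Finset.card_le_card hsub
    rw [card_filter_image hs.injective, Finset.card_image_of_injective _ (fun a b e =>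
      Nat.eq_of_mul_eq_mul_left (Nat.Prime.pos Fact.out) (Nat.add_left_cancel e)), card_range] at h1
    omega
  set x := r.val + p * k with hx
  have hv : r.val < p := ZMod.val_lt r
  have hxN : x + Fintype.card α < N := by
    have h1 : p * k ≤ p * (Fintype.card α) := Nat.mul_le_mul_left p (by omega)
    rw [add_mul, one_mul, mul_add, mul_one] at hN
    omega
  -- shift the values above the hole
  set a : Fin N → ℕ := fun i => if γ i < x then γ i else γ i - 1 with ha
  have hne : ∀ i, γ i ≠ x := fun i e => hknot (e ▸ mem_image_of_mem γ (mem_univ i))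
  have hinj : Function.Injective a := fun i j h => hs.injective (by
    have := hne i; have := hne j
    simp only [ha] at h
    split_ifs at h <;> omega)
  have h1 := sum_delta_le hinj
  have h2 : ∑ i, a i + (univ.filter fun i => x < γ i).card = ∑ i, γ i := by
    rw [Finset.card_filter, ← Finset.sum_add_distrib]
    refine Finset.sum_congr rfl fun i _ => ?_
    have := hne i
    simp only [ha]
    split_ifs <;> omega
  have h3 : (univ.filter fun i : Fin N => γ i < x).card ≤ x := by
    refine (Finset.card_le_card_of_injOn γ (t := range x) (fun i hi => ?_) hs.injective.injOn).trans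
      (card_range x).le
    exact Finset.mem_coe.2 (mem_range.2 (mem_filter.1 hi).2)
  have h4 : (univ.filter fun i : Fin N => γ i < x).card + (univ.filter fun i => x < γ i).card = N := by
    rw [← Finset.card_union_of_disjoint (by
      rw [Finset.disjoint_left]; intro i hi hi'; rw [mem_filter] at hi hi'; omega), ← Finset.filter_or,
      Finset.filter_true_of_mem (fun i _ => by have := hne i; omega), card_univ, Fintype.card_fin]
  omega

end Cfsg.Lib.SymBlocks
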