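import Cfsg.Agent.SymBlocks.Alternant

/-!
# Power sum products of permutations

`powProd x g` is the sum, over the colourings fixed by the permutation `g`, of the products of the
colours' weights; this is the power sum symmetric function of the cycle type of `g`.
-/

set_option autoImplicit false
set_option linter.unusedSectionVars false

namespace Cfsg.Lib.SymBlocks

open Finset

variable {α β : Type*} [Fintype α] [DecidableEq α] [Fintype β] [DecidableEq β]
  {κ : Type*} [Fintype κ] [DecidableEq κ] {R : Type*} [CommRing R]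

/-- The colourings fixed by `g`. -/
def fixedCol (κ : Type*) [Fintype κ] [DecidableEq κ] (g : Equiv.Perm α) : Finset (α → κ) :=
  univ.filter fun f => ∀ a, f (g a) = f a

theorem mem_fixedCol {g : Equiv.Perm α} {f : α → κ} :
    f ∈ fixedCol κ g ↔ ∀ a, f (g a) = f a := by
  simp [fixedCol]

/-- The weighted count of the colourings fixed by `g`. -/
noncomputable def powProd (x : κ → R) (g : Equiv.Perm α) : R :=
  ∑ f ∈ fixedCol κ g, ∏ a, x (f a)

theorem map_powProd {S : Type*} [CommRing S] (φ : R →+* S) (x : κ → R) (g : Equiv.Perm α) :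
    φ (powProd x g) = powProd (fun k => φ (x k)) g := by
  simp only [powProd, map_sum, map_prod]

theorem powProd_congr (x : κ → R) (e : α ≃ β) (g : Equiv.Perm α) :
    powProd x (e.permCongr g) = powProd x g := by
  refine Finset.sum_nbij' (fun f => f ∘ e) (fun f => f ∘ e.symm) ?_ ?_ ?_ ?_ ?_
  · intro f hf
    rw [mem_fixedCol] at hf ⊢
    intro a
    simpa [Equiv.permCongr_apply] using hf (e a)
  · intro f hf
    rw [mem_fixedCol] at hf ⊢
    intro b
    simpa [Equiv.permCongr_apply] using hf (e.symm b)
  · intro f _; funext b; simp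
  · intro f _; funext a; simp
  · intro f _
    exact (Equiv.prod_comp e fun b => x (f b)).symm

theorem powProd_conj (x : κ → R) (g h : Equiv.Perm α) :
    powProd x (h * g * h⁻¹) = powProd x g := by
  rw [← powProd_congr x h g]
  rfl

theorem powProd_sum (x : κ → R) (g : Equiv.Perm α) (h : Equiv.Perm β) :
    powProd x (g.sumCongr h) = powProd x g * powProd x h := by
  rw [powProd, powProd, powProd, Finset.sum_mul_sum, ← Finset.sum_product']
  refine Finset.sum_nbij' (fun f => (f ∘ Sum.inl, f ∘ Sum.inr))
    (fun p => Sum.elim p.1 p.2) ?_ ?_ ?_ ?_ ?_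
  · intro f hf
    rw [mem_fixedCol] at hf
    rw [mem_product, mem_fixedCol, mem_fixedCol]
    exact ⟨fun a => by simpa using hf (Sum.inl a), fun b => by simpa using hf (Sum.inr b)⟩
  · intro p hp
    rw [mem_product, mem_fixedCol, mem_fixedCol] at hp
    rw [mem_fixedCol]
    rintro (a | b)
    · simpa using hp.1 a
    · simpa using hp.2 b
  · intro f _
    funext s
    cases s <;> rfl
  · intro p _; rfl
  · intro f _
    rw [Fintype.prod_sum_type]
    rfl

theorem powProd_one (x : κ → R) :
    powProd x (1 : Equiv.Perm α) = (∑ k, x k) ^ Fintype.card α := by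
  rw [← Finset.card_univ, ← Finset.prod_const, Finset.prod_univ_sum, powProd]
  refine Finset.sum_congr ?_ fun f _ => rfl
  ext f
  simp [mem_fixedCol]

/-- A permutation moving all points in one orbit has one power sum. -/
theorem powProd_cycle (x : κ → R) (g : Equiv.Perm α) (a₀ : α)
    (hg : ∀ a, g.SameCycle a₀ a) : powProd x g = ∑ k, x k ^ Fintype.card α := by
  have hconst : ∀ {f : α → κ}, f ∈ fixedCol κ g → ∀ a, f a = f a₀ := by
    intro f hf a
    rw [mem_fixedCol] at hf
    obtain ⟨i, rfl⟩ := hg a
    induction i using Int.induction_on with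
    | zero => simp
    | succ i ih =>
      rw [add_comm, zpow_add, zpow_one, Equiv.Perm.mul_apply, hf, ih]
    | pred i ih =>
      rw [sub_eq_add_neg, add_comm, zpow_add, zpow_neg_one, Equiv.Perm.mul_apply,
        ← hf (g⁻¹ _), Equiv.Perm.inv_def, Equiv.apply_symm_apply, ih]
  refine Finset.sum_nbij' (fun f => f a₀) (fun k _ => k) ?_ ?_ ?_ ?_ ?_
  · intro f _; exact mem_univ _
  · intro k _; rw [mem_fixedCol]; intro a; rfl
  · intro f hf; funext a; exact (hconst hf a).symm
  · intro k _; rfl
  · intro f hf
    rw [Finset.prod_congr rfl (g := fun _ => x (f a₀)) fun a _ => by rw [hconst hf a],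
      Finset.prod_const, Finset.card_univ]

/-- The content of a colouring. -/
def content (f : α → κ) : κ → ℕ := fun k => (univ.filter fun a => f a = k).card

theorem content_mem (f : α → κ) :
    content f ∈ Finset.piAntidiag (univ : Finset κ) (Fintype.card α) := by
  rw [mem_piAntidiag]
  refine ⟨?_, fun i _ => mem_univ i⟩
  exact (Finset.card_eq_sum_card_fiberwise (f := f) (t := univ) fun a _ => mem_univ (f a)).symm

theorem prod_eq_pow_content (x : κ → R) (f : α → κ) : ∏ a, x (f a) = ∏ k, x k ^ content f k := by
  rw [← Finset.prod_fiberwise_of_maps_to (g := f) (t := univ) (fun a _ => mem_univ (f a))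
    (fun a => x (f a))]
  refine Finset.prod_congr rfl fun k _ => ?_
  rw [Finset.prod_congr rfl (g := fun _ => x k) fun a ha => by rw [(mem_filter.1 ha).2],
    Finset.prod_const, content]

theorem exists_comp_eq {f f' : α → κ} (h : content f = content f') :
    ∃ g : Equiv.Perm α, f ∘ g = f' := by
  have he : ∀ k, {a // f' a = k} ≃ {a // f a = k} := fun k =>
    Fintype.equivOfCardEq (by
      rw [Fintype.card_subtype, Fintype.card_subtype]
      exact (congrFun h k).symm)
  exact ⟨Equiv.ofFiberEquiv he, funext fun a => Equiv.ofFiberEquiv_map he a⟩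

theorem exists_content {c : κ → ℕ} (hc : c ∈ Finset.piAntidiag (univ : Finset κ) (Fintype.card α)) :
    ∃ f : α → κ, content f = c := by
  rw [mem_piAntidiag] at hc
  obtain ⟨e⟩ : Nonempty (α ≃ Σ k, Fin (c k)) := ⟨Fintype.equivOfCardEq (by
    rw [Fintype.card_sigma]; simpa using hc.1.symm)⟩
  refine ⟨fun a => (e a).1, funext fun k => ?_⟩
  rw [content, ← Fintype.card_subtype, ← Fintype.card_fin (c k)]
  exact Fintype.card_congr ((Equiv.subtypeEquiv e fun a => Iff.rfl).trans
    (Equiv.sigmaSubtype k))

theorem sum_powProd (x : κ → R) :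
    ∑ g : Equiv.Perm α, powProd x g =
      ((Fintype.card α).factorial : R) * hh x (Fintype.card α) := by
  simp only [powProd, fixedCol, Finset.sum_filter]
  rw [Finset.sum_comm]
  rw [hh_eq_sum, Finset.mul_sum,
    ← Finset.sum_fiberwise_of_maps_to (g := content) fun f _ => content_mem f]
  refine Finset.sum_congr rfl fun c hc => ?_
  obtain ⟨f₀, hf₀⟩ := exists_content hc
  have hstab : ∀ f ∈ univ.filter (fun f : α → κ => content f = c),
      (univ.filter fun g : Equiv.Perm α => ∀ a, f (g a) = f a).card =
        (univ.filter fun g : Equiv.Perm α => f₀ ∘ g = f).card := by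
    intro f hf
    obtain ⟨g₀, hg₀⟩ := exists_comp_eq (hf₀.trans (mem_filter.1 hf).2.symm)
    refine Finset.card_nbij' (fun g => g₀ * g) (fun g => g₀⁻¹ * g) ?_ ?_ ?_ ?_
    · intro g hg
      rw [Finset.mem_coe, mem_filter] at hg ⊢
      refine ⟨mem_univ _, funext fun a => ?_⟩
      rw [← hg.2 a]
      exact congrFun hg₀ (g a)
    · intro g hg
      rw [Finset.mem_coe, mem_filter] at hg ⊢
      refine ⟨mem_univ _, fun a => ?_⟩
      rw [← congrFun hg₀ ((g₀⁻¹ * g) a), ← congrFun hg.2 a]
      simp
    · intro g _; simp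
    · intro g _; simp
  have htot : ∑ f ∈ univ.filter (fun f : α → κ => content f = c),
      (univ.filter fun g : Equiv.Perm α => f₀ ∘ g = f).card = (Fintype.card α).factorial := by
    rw [← Fintype.card_perm, ← Finset.card_univ]
    refine (Finset.card_eq_sum_card_fiberwise (f := fun g : Equiv.Perm α => f₀ ∘ g) ?_).symm
    intro g _
    rw [Finset.mem_coe, mem_filter]
    refine ⟨mem_univ _, ?_⟩
    rw [← hf₀]
    funext k
    refine Finset.card_nbij' (fun a => g a) (fun a => g.symm a) ?_ ?_ ?_ ?_ <;> intro a ha
    · simpa using ha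
    · simpa using ha
    · simp
    · simp
  rw [← htot, Nat.cast_sum, Finset.sum_mul]
  refine Finset.sum_congr rfl fun f hf => ?_
  rw [← Finset.sum_filter, Finset.sum_const, nsmul_eq_mul, hstab f hf, prod_eq_pow_content,
    (mem_filter.1 hf).2]

/-- Powers along the orbit: a colouring fixed by `g` is fixed by its powers. -/
theorem fixedCol_pow {g : Equiv.Perm α} {f : α → κ} (hf : f ∈ fixedCol κ g) (n : ℕ) (a : α) :
    f ((g ^ n) a) = f a := by
  rw [mem_fixedCol] at hf
  induction n with
  | zero => simp
  | succ n ih => rw [pow_succ', Equiv.Perm.mul_apply, hf, ih]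

end Cfsg.Lib.SymBlocks
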