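import Cfsg.Agent.SymBlocks.Complete
import Cfsg.Agent.Blocks.Idem

/-!
# Content polynomials and blocks

Two characters `psi β`, `psi γ` in one `p`-block have the same number of exponents in each residue
class modulo `p`.
-/

set_option autoImplicit false
set_option linter.unusedSectionVars false

namespace Cfsg.Lib.SymBlocks

open Finset Polynomial

variable {N : ℕ} {α : Type*} [Fintype α] [DecidableEq α]

/-- The number of orbits. -/
noncomputable def norb (g : Equiv.Perm α) : ℕ := Nat.card (Orb g)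

theorem norb_conj (g h : Equiv.Perm α) : norb (h * g * h⁻¹) = norb g := by
  refine Nat.card_congr (Quotient.congr h.symm fun a b => ?_)
  show (h * g * h⁻¹).SameCycle a b ↔ g.SameCycle (h.symm a) (h.symm b)
  rw [Equiv.Perm.sameCycle_conj]
  rfl

theorem card_fixedCol (g : Equiv.Perm α) (t : ℕ) :
    (fixedCol (Fin t) g).card = t ^ norb g := by
  rw [norb, ← Nat.card_eq_finsetCard]
  conv_rhs => rw [show t = Nat.card (Fin t) from (Nat.card_fin t).symm, ← Nat.card_fun]
  refine Nat.card_congr
    { toFun := fun f => Quotient.lift f.1 fun a b hab => fixedCol_const f.2 hab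
      invFun := fun F => ⟨fun a => F (Quotient.mk _ a), mem_fixedCol.2 fun a =>
        congrArg F (Quotient.sound (s := Equiv.Perm.SameCycle.setoid g)
          ((Equiv.Perm.sameCycle_apply_right (f := g)).2 (Equiv.Perm.SameCycle.refl g a)).symm)⟩
      left_inv := fun f => rfl
      right_inv := fun F => funext fun q => Quotient.inductionOn q fun a => rfl }

/-- The orbit polynomial of `psi β`. -/
noncomputable def orbPoly (α : Type*) [Fintype α] [DecidableEq α] (β : Fin N → ℕ) : ℤ[X] :=
  ∑ g : Equiv.Perm α, C (psiZ β g) * X ^ norb g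

theorem eval_orbPoly (β : Fin N → ℕ) (t : ℕ) :
    (orbPoly α β).eval (t : ℤ) = colSum α β t := by
  rw [orbPoly, colSum, eval_finset_sum]
  refine Finset.sum_congr rfl fun g _ => ?_
  simp [card_fixedCol]

theorem orbPoly_content {β : Fin N → ℕ} (hβ : ∑ i, β i = Fintype.card α + ∑ i, delta N i) :
    (orbPoly α β).comp (X + C ((N - 1 : ℕ) : ℤ)) * ∏ i, ascPochhammer ℤ (delta N i) =
      C (psiZ β (1 : Equiv.Perm α)) * ∏ i, ascPochhammer ℤ (β i) := by
  refine eq_of_infinite_eval_eq _ _
    (Set.Infinite.mono (s := Set.range fun u : ℕ => ((u + 1 : ℕ) : ℤ)) ?_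
      (Set.infinite_range_of_injective fun a b hab => by simpa using hab))
  rintro _ ⟨u, rfl⟩
  show eval ((u + 1 : ℕ) : ℤ) _ = eval ((u + 1 : ℕ) : ℤ) _
  rw [eval_mul, eval_mul, eval_comp, eval_add, eval_X, eval_C, eval_prod, eval_prod, eval_C,
    ← Nat.cast_add, eval_orbPoly]
  simp only [← ascPochhammer_eval_cast, ascPochhammer_nat_eq_ascFactorial]
  exact colSum_content hβ u.succ_pos

/-- The content polynomial. -/
noncomputable def contPoly (N : ℕ) (β : Fin N → ℕ) : ℤ[X] := ∏ i, ascPochhammer ℤ (β i)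

/-- The element cutting out the permutations with `k` orbits. -/
noncomputable def orbElem (α : Type*) [Fintype α] [DecidableEq α] (k : ℕ) :
    MonoidAlgebra ℂ (Equiv.Perm α) :=
  Cfsg.Lib.Blocks.ofFn fun g => if norb g = k then 1 else 0

theorem isCentralFn_orbElem (k : ℕ) :
    Cfsg.Lib.Blocks.IsCentralFn (orbElem α k) := fun g h => by
  rw [orbElem, Cfsg.Lib.Blocks.fn_ofFn]
  simp only [norb_conj]

theorem omega_orbElem (β : Fin N → ℕ) (k : ℕ) :
    Cfsg.Lib.Blocks.omega (psi (α := α) β) (orbElem α k) =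
      ((orbPoly α β).coeff k : ℂ) / (psiZ β (1 : Equiv.Perm α) : ℂ) := by
  rw [Cfsg.Lib.Blocks.omega, Cfsg.Lib.Blocks.chiEval]
  congr 1
  rw [orbPoly, finset_sum_coeff, Int.cast_sum, orbElem, Cfsg.Lib.Blocks.fn_ofFn]
  refine Finset.sum_congr rfl fun g _ => ?_
  rw [coeff_C_mul_X_pow]
  by_cases h : norb g = k
  · rw [if_pos h, if_pos h.symm, one_mul]; rfl
  · rw [if_neg h, if_neg (Ne.symm h), zero_mul, Int.cast_zero]

variable {p : ℕ} {M : Ideal Cfsg.AlgInt}

theorem exists_ratio {β : Fin N → ℕ} (hs : StrictMono β)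
    (hβ : ∑ i, β i = Fintype.card α + ∑ i, delta N i) :
    ∃ R : ℤ[X], orbPoly α β = C (psiZ β (1 : Equiv.Perm α)) * R ∧
      ∀ k, (R.coeff k : ℂ) = Cfsg.Lib.Blocks.omega (psi (α := α) β) (orbElem α k) := by
  classical
  have hd : psiZ β (1 : Equiv.Perm α) ≠ 0 := (psiZ_one_pos hs hβ).ne'
  have hdvd : C (psiZ β (1 : Equiv.Perm α)) ∣ orbPoly α β := by
    rw [C_dvd_iff_dvd_coeff]
    intro k
    let χ : Cfsg.IrrCharacter (Equiv.Perm α) := ⟨psi β, isIrr_psi hs hβ⟩
    haveI := Fintype.ofFinite (ConjClasses (Equiv.Perm α))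
    have hint : IsIntegral ℤ (Cfsg.Lib.Blocks.omega (psi (α := α) β) (orbElem α k)) := by
      rw [Cfsg.Lib.Blocks.omega_eq_sum_classes _ (isClassFunction_psi β) (isCentralFn_orbElem k)]
      refine IsIntegral.sum _ fun C _ => IsIntegral.mul ?_
        (Cfsg.Lib.Blocks.isIntegral_centralChar_irrChar χ _)
      rw [orbElem, Cfsg.Lib.Blocks.fn_ofFn]
      split_ifs
      exacts [isIntegral_one, isIntegral_zero]
    rw [omega_orbElem] at hint
    have hq : IsIntegral ℤ (((orbPoly α β).coeff k : ℚ) / (psiZ β (1 : Equiv.Perm α) : ℚ)) := by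
      rw [← isIntegral_algebraMap_iff (B := ℂ) (algebraMap ℚ ℂ).injective]
      rw [map_div₀, map_intCast, map_intCast]
      exact hint
    obtain ⟨m, hm⟩ := IsIntegrallyClosed.isIntegral_iff.1 hq
    refine ⟨m, ?_⟩
    rw [eq_div_iff (by exact_mod_cast hd), eq_intCast] at hm
    rw [mul_comm]
    exact_mod_cast hm.symm
  obtain ⟨R, hR⟩ := hdvd
  refine ⟨R, hR, fun k => ?_⟩
  rw [omega_orbElem, hR, coeff_C_mul, Int.cast_mul, mul_div_cancel_left₀]
  exact_mod_cast hd

theorem contPoly_eq_of_ratio {β : Fin N → ℕ} (hs : StrictMono β)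
    (hβ : ∑ i, β i = Fintype.card α + ∑ i, delta N i) {R : ℤ[X]}
    (hR : orbPoly α β = C (psiZ β (1 : Equiv.Perm α)) * R) :
    R.comp (X + C ((N - 1 : ℕ) : ℤ)) * contPoly N (delta N) = contPoly N β := by
  have h := orbPoly_content (α := α) hβ
  rw [hR, mul_comp, C_comp, mul_assoc] at h
  exact mul_left_cancel₀ (by rw [Ne, C_eq_zero]; exact (psiZ_one_pos hs hβ).ne') h

/-- Characters of one block have congruent content polynomials. -/
theorem contPoly_map_eq (hM : Cfsg.IsPModular p M) {β γ : Fin N → ℕ} (hs : StrictMono β)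
    (hβ : ∑ i, β i = Fintype.card α + ∑ i, delta N i) (hs' : StrictMono γ)
    (hγ : ∑ i, γ i = Fintype.card α + ∑ i, delta N i)
    (hB : Cfsg.SameBlock M (psi (α := α) β) (psi γ)) :
    (contPoly N β).map (Int.castRingHom (ZMod p)) = (contPoly N γ).map (Int.castRingHom (ZMod p)) := by
  classical
  obtain ⟨R, hR, hRω⟩ := exists_ratio (α := α) hs hβ
  obtain ⟨S, hS, hSω⟩ := exists_ratio (α := α) hs' hγ
  have hmap : R.map (Int.castRingHom (ZMod p)) = S.map (Int.castRingHom (ZMod p)) := by
    ext k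
    rw [coeff_map, coeff_map, eq_intCast, eq_intCast, eq_comm, ZMod.intCast_eq_intCast_iff_dvd_sub,
      ← Cfsg.Lib.Blocks.small_intCast_iff hM, Int.cast_sub, hRω, hSω]
    haveI := Fintype.ofFinite (ConjClasses (Equiv.Perm α))
    rw [Cfsg.Lib.Blocks.omega_eq_sum_classes _ (isClassFunction_psi β) (isCentralFn_orbElem k),
      Cfsg.Lib.Blocks.omega_eq_sum_classes _ (isClassFunction_psi γ) (isCentralFn_orbElem k),
      ← Finset.sum_sub_distrib]
    refine Cfsg.Lib.Blocks.small_sum _ _ fun C _ => ?_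
    rw [← mul_sub]
    refine Cfsg.Lib.Blocks.Small.mem_mul ?_ ?_
    · exact (Cfsg.Lib.Blocks.sameBlock_iff hM ⟨psi β, isIrr_psi hs hβ⟩
        ⟨psi γ, isIrr_psi hs' hγ⟩).1 hB _
    · rw [orbElem, Cfsg.Lib.Blocks.fn_ofFn]
      split_ifs
      exacts [one_mem _, zero_mem _]
  rw [← contPoly_eq_of_ratio hs hβ hR, ← contPoly_eq_of_ratio hs' hγ hS, Polynomial.map_mul,
    Polynomial.map_mul, map_comp, map_comp, hmap]

/-! ## Residue counts -/

/-- The number of exponents congruent to `r`. -/
def resCount (p : ℕ) (β : Fin N → ℕ) (r : ZMod p) : ℕ :=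
  (univ.filter fun i => (β i : ZMod p) = r).card

/-- The number of `m < b` congruent to `r`. -/
def below (p : ℕ) (b : ℕ) (r : ZMod p) : ℕ := ((range b).filter fun m : ℕ => (m : ZMod p) = r).card

theorem below_rel [NeZero p] (b : ℕ) (r : ZMod p) :
    below p b r + (if (b : ZMod p) = r then 1 else 0) =
      below p b (r - 1) + (if (0 : ZMod p) = r then 1 else 0) := by
  induction b with
  | zero => simp [below]
  | succ b ih =>
    have hb : ∀ s : ZMod p, below p (b + 1) s = below p b s + if (b : ZMod p) = s then 1 else 0 := by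
      intro s
      rw [below, below, range_add_one, filter_insert]
      split_ifs with h
      · rw [card_insert_of_notMem (by simp)]
      · rfl
    have hiff : ((b + 1 : ℕ) : ZMod p) = r ↔ (b : ZMod p) = r - 1 := by
      rw [eq_sub_iff_add_eq, Nat.cast_succ]
    rw [hb r, hb (r - 1), if_congr hiff (rfl : (1 : ℕ) = 1) rfl]
    omega

theorem map_ascPochhammer_eq (b : ℕ) :
    (ascPochhammer ℤ b).map (Int.castRingHom (ZMod p)) =
      ((Multiset.range b).map fun m : ℕ => X - C (-(m : ZMod p))).prod := by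
  induction b with
  | zero => simp
  | succ b ih =>
    rw [ascPochhammer_succ_right, Polynomial.map_mul, ih, Multiset.range_succ, Multiset.map_cons,
      Multiset.prod_cons, mul_comm]
    simp [sub_neg_eq_add]

theorem roots_contPoly [Fact p.Prime] (β : Fin N → ℕ) :
    ((contPoly N β).map (Int.castRingHom (ZMod p))).roots =
      ∑ i, (Multiset.range (β i)).map fun m : ℕ => -(m : ZMod p) := by
  have he : (contPoly N β).map (Int.castRingHom (ZMod p)) =
      ((∑ i, (Multiset.range (β i)).map fun m : ℕ => -(m : ZMod p)).map fun a => X - C a).prod := by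
    rw [contPoly, Polynomial.map_prod,
      ← Multiset.coe_mapAddMonoidHom (fun a : ZMod p => X - C a), map_sum,
      ← Finset.prod_map_toList]
    simp only [map_ascPochhammer_eq]
    rw [Finset.prod_map_toList]
    induction (univ : Finset (Fin N)) using Finset.induction with
    | empty => simp
    | insert a s ha ih =>
      rw [Finset.prod_insert ha, Finset.sum_insert ha, Multiset.prod_add, ← ih]
      simp [Multiset.map_map]
  rw [he, roots_multiset_prod_X_sub_C]

theorem count_roots [Fact p.Prime] (β : Fin N → ℕ) (r : ZMod p) :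
    Multiset.count (-r) ((contPoly N β).map (Int.castRingHom (ZMod p))).roots =
      ∑ i, below p (β i) r := by
  rw [roots_contPoly, Multiset.count_sum']
  refine Finset.sum_congr rfl fun i _ => ?_
  rw [Multiset.count_map, below, Finset.card_def, Finset.filter_val, Finset.range_val]
  congr 1
  refine Multiset.filter_congr fun m _ => ?_
  rw [neg_inj, eq_comm]

theorem resCount_eq_of_map_eq [Fact p.Prime] {β γ : Fin N → ℕ}
    (h : (contPoly N β).map (Int.castRingHom (ZMod p)) =
      (contPoly N γ).map (Int.castRingHom (ZMod p))) :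
    ∀ r, resCount p β r = resCount p γ r := by
  intro r
  have hc : ∀ (δ : Fin N → ℕ), ∑ i, below p (δ i) r + resCount p δ r =
      ∑ i, below p (δ i) (r - 1) + ∑ _i : Fin N, if (0 : ZMod p) = r then 1 else 0 := by
    intro δ
    rw [resCount, Finset.card_filter, ← Finset.sum_add_distrib, ← Finset.sum_add_distrib]
    exact Finset.sum_congr rfl fun i _ => below_rel (δ i) r
  have h1 := hc β
  have h2 := hc γ
  rw [← count_roots, ← count_roots, h] at h1
  rw [← count_roots, ← count_roots] at h2
  omega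

theorem resCount_eq_of_sameBlock (hM : Cfsg.IsPModular p M) {β γ : Fin N → ℕ} (hs : StrictMono β)
    (hβ : ∑ i, β i = Fintype.card α + ∑ i, delta N i) (hs' : StrictMono γ)
    (hγ : ∑ i, γ i = Fintype.card α + ∑ i, delta N i)
    (hB : Cfsg.SameBlock M (psi (α := α) β) (psi γ)) (r : ZMod p) :
    resCount p β r = resCount p γ r := by
  haveI := Fact.mk hM.1
  exact resCount_eq_of_map_eq (contPoly_map_eq hM hs hβ hs' hγ hB) r

end Cfsg.Lib.SymBlocks
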