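import Cfsg.Agent.SymBlocks.Span

/-!
# Counting packed configurations

The excess of the quotient over the rank encodes a configuration as a word of fixed length.
-/

set_option autoImplicit false
set_option linter.unusedSectionVars false

namespace Cfsg.Lib.SymBlocks

open Finset

variable {N p : ℕ}

/-- The rank of `i` among the indices of its residue class. -/
def rk (p : ℕ) (γ : Fin N → ℕ) (i : Fin N) : ℕ :=
  (univ.filter fun j => j < i ∧ (γ j : ZMod p) = γ i).card

/-- The excess of the quotient over the rank. -/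
def excess (p : ℕ) (γ : Fin N → ℕ) (i : Fin N) : ℕ := γ i / p - rk p γ i

/-- The smallest configuration with the residues of `γ`. -/
def coreOf (p : ℕ) (γ : Fin N → ℕ) (i : Fin N) : ℕ := (γ i : ZMod p).val + p * rk p γ i

/-- The number of indices in the class `r` with excess at most `v`. -/
def exCount (p : ℕ) (γ : Fin N → ℕ) (r : ZMod p) (v : ℕ) : ℕ :=
  (univ.filter fun j => (γ j : ZMod p) = r ∧ excess p γ j ≤ v).card

/-- The sum of the smallest configuration with given residue counts. -/
def coreSum (p : ℕ) [NeZero p] (cnt : ZMod p → ℕ) : ℕ :=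
  ∑ r : ZMod p, ∑ k ∈ range (cnt r), (r.val + p * k)

variable [NeZero p]

theorem eq_val_add_mul (b : ℕ) : b = (b : ZMod p).val + p * (b / p) := by
  rw [ZMod.val_natCast, Nat.mod_add_div]

theorem quot_lt {γ : Fin N → ℕ} (hs : StrictMono γ) {i j : Fin N} (h : j < i)
    (hr : (γ j : ZMod p) = γ i) : γ j / p < γ i / p := by
  have h1 := eq_val_add_mul (p := p) (γ j)
  have h2 := eq_val_add_mul (p := p) (γ i)
  have h3 := hs h
  rw [hr] at h1
  by_contra hc
  have := Nat.mul_le_mul_left p (Nat.le_of_not_lt hc)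
  omega

theorem rk_lt_rk {γ : Fin N → ℕ} {i j : Fin N} (h : j < i) (hr : (γ j : ZMod p) = γ i) :
    rk p γ j < rk p γ i := by
  refine Finset.card_lt_card (Finset.ssubset_iff_of_subset ?_ |>.2 ⟨j, ?_, ?_⟩)
  · intro k hk
    rw [mem_filter] at hk ⊢
    exact ⟨mem_univ _, hk.2.1.trans h, hk.2.2.trans hr⟩
  · simp [h, hr]
  · simp

theorem rk_lt_resCount (γ : Fin N → ℕ) (i : Fin N) : rk p γ i < resCount p γ (γ i) := by
  refine Finset.card_lt_card (Finset.ssubset_iff_of_subset ?_ |>.2 ⟨i, ?_, ?_⟩)
  · intro k hk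
    rw [mem_filter] at hk ⊢
    exact ⟨mem_univ _, hk.2.2⟩
  · simp
  · simp

theorem rk_add_le {γ : Fin N → ℕ} (hs : StrictMono γ) {i j : Fin N} (h : j ≤ i)
    (hr : (γ j : ZMod p) = γ i) : γ j / p + rk p γ i ≤ γ i / p + rk p γ j := by
  have hsub : (univ.filter fun k => k < j ∧ (γ k : ZMod p) = γ j) ⊆
      univ.filter fun k => k < i ∧ (γ k : ZMod p) = γ i := by
    intro k hk
    rw [mem_filter] at hk ⊢
    exact ⟨mem_univ _, hk.2.1.trans_le h, hk.2.2.trans hr⟩
  set T := (univ.filter fun k => k < i ∧ (γ k : ZMod p) = γ i) \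
    univ.filter fun k => k < j ∧ (γ k : ZMod p) = γ j with hTdef
  have hT : T.card + rk p γ j = rk p γ i := by
    rw [hTdef, rk, rk]
    exact Finset.card_sdiff_add_card_eq_card hsub
  have hcard : T.card ≤ (Finset.Ico (γ j / p) (γ i / p)).card := by
    refine Finset.card_le_card_of_injOn (fun k => γ k / p) ?_ ?_
    · intro k hk
      rw [Finset.mem_coe, hTdef, mem_sdiff, mem_filter, mem_filter] at hk
      obtain ⟨⟨-, hki, hkr⟩, hkj⟩ := hk
      have hjk : j ≤ k := by
        by_contra hc
        exact hkj ⟨mem_univ _, lt_of_not_ge hc, hkr.trans hr.symm⟩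
      refine Finset.mem_coe.2 (Finset.mem_Ico.2 ⟨?_, quot_lt hs hki hkr⟩)
      exact Nat.div_le_div_right (hs.monotone hjk)
    · intro k hk k' hk' he
      rw [Finset.mem_coe, hTdef, mem_sdiff, mem_filter] at hk hk'
      simp only at he
      refine hs.injective ?_
      have h1 := eq_val_add_mul (p := p) (γ k)
      have h2 := eq_val_add_mul (p := p) (γ k')
      rw [hk.1.2.2] at h1
      rw [hk'.1.2.2, ← he] at h2
      omega
  rw [Nat.card_Ico] at hcard
  have := Nat.div_le_div_right (c := p) (hs.monotone h)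
  omega

theorem rk_le_quot {γ : Fin N → ℕ} (hs : StrictMono γ) (i : Fin N) : rk p γ i ≤ γ i / p := by
  refine (Finset.card_le_card_of_injOn (fun k => γ k / p) (t := range (γ i / p)) ?_ ?_).trans
    (card_range _).le
  · intro k hk
    rw [Finset.mem_coe, mem_filter] at hk
    exact Finset.mem_coe.2 (mem_range.2 (quot_lt hs hk.2.1 hk.2.2))
  · intro k hk k' hk' he
    rw [Finset.mem_coe, mem_filter] at hk hk'
    simp only at he
    refine hs.injective ?_
    have h1 := eq_val_add_mul (p := p) (γ k)
    have h2 := eq_val_add_mul (p := p) (γ k')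
    rw [hk.2.2] at h1
    rw [hk'.2.2, ← he] at h2
    omega

theorem eq_coreOf_add {γ : Fin N → ℕ} (hs : StrictMono γ) (i : Fin N) :
    γ i = coreOf p γ i + p * excess p γ i := by
  conv_lhs => rw [eq_val_add_mul (p := p) (γ i)]
  rw [coreOf, excess, add_assoc, ← mul_add, Nat.add_sub_cancel' (rk_le_quot hs i)]

theorem excess_mono {γ : Fin N → ℕ} (hs : StrictMono γ) {i j : Fin N} (h : j ≤ i)
    (hr : (γ j : ZMod p) = γ i) : excess p γ j ≤ excess p γ i := by
  have := rk_add_le hs h hr
  have := rk_le_quot (p := p) hs i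
  have := rk_le_quot (p := p) hs j
  rw [excess, excess]
  omega

theorem excess_le_iff {γ : Fin N → ℕ} (hs : StrictMono γ) (i : Fin N) (v : ℕ) :
    excess p γ i ≤ v ↔ rk p γ i < exCount p γ (γ i) v := by
  constructor
  · intro h
    refine Finset.card_lt_card (Finset.ssubset_iff_of_subset ?_ |>.2 ⟨i, ?_, ?_⟩)
    · intro k hk
      rw [mem_filter] at hk ⊢
      exact ⟨mem_univ _, hk.2.2, (excess_mono hs hk.2.1.le hk.2.2).trans h⟩
    · simp [h]
    · simp
  · intro h
    by_contra hc
    refine h.not_ge (Finset.card_le_card fun k hk => ?_)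
    rw [mem_filter] at hk ⊢
    refine ⟨mem_univ _, ?_, hk.2.1⟩
    by_contra hki
    exact hc ((excess_mono hs (le_of_not_gt hki) hk.2.1.symm).trans hk.2.2)

theorem exists_rk {γ : Fin N → ℕ} (r : ZMod p) {k : ℕ} (hk : k < resCount p γ r) :
    ∃ i, (γ i : ZMod p) = r ∧ rk p γ i = k := by
  have hinj : Set.InjOn (rk p γ) ↑(univ.filter fun i => (γ i : ZMod p) = r) := by
    intro a ha b hb he
    rw [Finset.mem_coe, mem_filter] at ha hb
    rcases lt_trichotomy a b with h | h | h
    · exact absurd he (rk_lt_rk h (ha.2.trans hb.2.symm)).ne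
    · exact h
    · exact absurd he (rk_lt_rk h (hb.2.trans ha.2.symm)).ne'
  have himg : (univ.filter fun i => (γ i : ZMod p) = r).image (rk p γ) = range (resCount p γ r) := by
    refine Finset.eq_of_subset_of_card_le ?_ (by rw [card_image_of_injOn hinj, card_range]; rfl)
    intro x hx
    obtain ⟨i, hi, rfl⟩ := mem_image.1 hx
    rw [mem_range, ← (mem_filter.1 hi).2]
    exact rk_lt_resCount γ i
  obtain ⟨i, hi, he⟩ := mem_image.1 (himg ▸ mem_range.2 hk)
  exact ⟨i, (mem_filter.1 hi).2, he⟩

/-- A strictly increasing configuration is determined by its excess counts. -/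
theorem eq_of_exCount {γ γ' : Fin N → ℕ} (hs : StrictMono γ) (hs' : StrictMono γ')
    (hc : ∀ r, resCount p γ r = resCount p γ' r)
    (he : ∀ r v, exCount p γ r v = exCount p γ' r v) : γ = γ' := by
  refine (hs.range_inj hs').1 (Set.Subset.antisymm ?_ ?_)
  all_goals rintro _ ⟨i, rfl⟩
  · obtain ⟨i', hr, hk⟩ := exists_rk (γ := γ') (γ i : ZMod p) (hc _ ▸ rk_lt_resCount γ i)
    refine ⟨i', ?_⟩
    have h1 : ∀ v, excess p γ' i' ≤ v ↔ excess p γ i ≤ v := fun v => by
      rw [excess_le_iff hs' i' v, excess_le_iff hs i v, hk, hr, he]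
    rw [eq_coreOf_add (p := p) hs' i', eq_coreOf_add (p := p) hs i, coreOf, coreOf, hk, hr,
      le_antisymm ((h1 _).2 le_rfl) ((h1 _).1 le_rfl)]
  · obtain ⟨i', hr, hk⟩ := exists_rk (γ := γ) (γ' i : ZMod p) ((hc _).symm ▸ rk_lt_resCount γ' i)
    refine ⟨i', ?_⟩
    have h1 : ∀ v, excess p γ i' ≤ v ↔ excess p γ' i ≤ v := fun v => by
      rw [excess_le_iff hs i' v, excess_le_iff hs' i v, hk, hr, he]
    rw [eq_coreOf_add (p := p) hs i', eq_coreOf_add (p := p) hs' i, coreOf, coreOf, hk, hr,
      le_antisymm ((h1 _).2 le_rfl) ((h1 _).1 le_rfl)]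

theorem sum_coreOf {γ : Fin N → ℕ} (hs : StrictMono γ) :
    ∑ i, coreOf p γ i = coreSum p (resCount p γ) := by
  rw [coreSum, ← Finset.sum_fiberwise_of_maps_to (g := fun i => (γ i : ZMod p)) (t := univ)
    fun i _ => mem_univ _]
  refine Finset.sum_congr rfl fun r _ => ?_
  refine Finset.sum_nbij (fun i => rk p γ i) ?_ ?_ ?_ ?_
  · intro i hi
    rw [mem_range, ← (mem_filter.1 hi).2]
    exact rk_lt_resCount γ i
  · intro a ha b hb he
    rw [Finset.mem_coe, mem_filter] at ha hb
    rcases lt_trichotomy a b with h | h | h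
    · exact absurd he (rk_lt_rk h (ha.2.trans hb.2.symm)).ne
    · exact h
    · exact absurd he (rk_lt_rk h (hb.2.trans ha.2.symm)).ne'
  · intro k hk
    obtain ⟨i, hr, hik⟩ := exists_rk (γ := γ) r (mem_range.1 hk)
    exact ⟨i, mem_filter.2 ⟨mem_univ _, hr⟩, hik⟩
  · intro i hi
    rw [coreOf, (mem_filter.1 hi).2]

theorem coreSum_add {γ : Fin N → ℕ} (hs : StrictMono γ) :
    coreSum p (resCount p γ) + p * ∑ i, excess p γ i = ∑ i, γ i := by
  rw [← sum_coreOf hs, Finset.mul_sum, ← Finset.sum_add_distrib]
  exact Finset.sum_congr rfl fun i _ => (eq_coreOf_add hs i).symm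

theorem coreOf_injective (γ : Fin N → ℕ) : Function.Injective (coreOf p γ) := by
  intro a b h
  have hmod : ∀ c, coreOf p γ c % p = (γ c : ZMod p).val := fun c => by
    rw [coreOf, Nat.add_mul_mod_self_left, Nat.mod_eq_of_lt (ZMod.val_lt _)]
  have hval : (γ a : ZMod p) = γ b := by
    apply ZMod.val_injective p
    rw [← hmod a, ← hmod b, h]
  have hk : rk p γ a = rk p γ b := by
    rw [coreOf, coreOf, hval] at h
    exact Nat.eq_of_mul_eq_mul_left (Nat.pos_of_ne_zero (NeZero.ne p)) (by omega)
  rcases lt_trichotomy a b with h' | h' | h'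
  · exact absurd hk (rk_lt_rk h' hval).ne
  · exact h'
  · exact absurd hk (rk_lt_rk h' hval.symm).ne'

theorem excess_eq_zero_of_packed {r₀ : ZMod p} {γ : Fin N → ℕ} (hs : StrictMono γ)
    (hpk : IsPacked p r₀ γ) {i : Fin N} (hi : (γ i : ZMod p) = r₀) : excess p γ i = 0 := by
  have hlt := rk_lt_resCount (p := p) γ i
  rw [hi] at hlt
  obtain ⟨j, hjr, hjk⟩ := exists_rk (γ := γ) r₀ (k := resCount p γ r₀ - 1) (by omega)
  have hj : γ j / p < resCount p γ r₀ := by
    refine Nat.div_lt_of_lt_mul ?_
    exact hpk j hjr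
  have hij : i ≤ j := by
    by_contra hc
    have := rk_lt_rk (p := p) (lt_of_not_ge hc) (hjr.trans hi.symm)
    omega
  have := excess_mono (p := p) hs hij (hi.trans hjr.symm)
  rw [excess, excess] at this
  rw [excess]
  omega

/-- The blocks of the word of a configuration. -/
def wordData (p : ℕ) (γ : Fin N → ℕ) : List (ZMod p × ℕ) :=
  ((List.finRange N).filter fun i => excess p γ i ≠ 0).map fun i =>
    ((γ i : ZMod p), excess p γ i - 1)

/-- The block of a colour followed by padding. -/
def block (r₀ : ZMod p) (b : ZMod p × ℕ) : List (ZMod p) := b.1 :: List.replicate b.2 r₀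

theorem flatMap_block_injective (r₀ : ZMod p) : ∀ {L L' : List (ZMod p × ℕ)},
    (∀ b ∈ L, b.1 ≠ r₀) → (∀ b ∈ L', b.1 ≠ r₀) →
      L.flatMap (block r₀) = L'.flatMap (block r₀) → L = L' := by
  have key : ∀ (k k' : ℕ) (u u' : List (ZMod p)),
      (∀ a, u.head? = some a → a ≠ r₀) → (∀ a, u'.head? = some a → a ≠ r₀) →
      List.replicate k r₀ ++ u = List.replicate k' r₀ ++ u' → k = k' ∧ u = u' := by
    intro k
    induction k with
    | zero =>
      intro k' u u' hu _ he
      cases k' with
      | zero => exact ⟨rfl, by simpa using he⟩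
      | succ k' =>
        exfalso
        simp only [List.replicate_zero, List.nil_append, List.replicate_succ, List.cons_append] at he
        exact hu r₀ (by rw [he]; rfl) rfl
    | succ k ih =>
      intro k' u u' hu hu' he
      cases k' with
      | zero =>
        exfalso
        simp only [List.replicate_zero, List.nil_append, List.replicate_succ, List.cons_append] at he
        exact hu' r₀ (by rw [← he]; rfl) rfl
      | succ k' =>
        simp only [List.replicate_succ, List.cons_append, List.cons.injEq, true_and] at he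
        obtain ⟨h1, h2⟩ := ih k' u u' hu hu' he
        exact ⟨by rw [h1], h2⟩
  have hhead : ∀ L : List (ZMod p × ℕ), (∀ b ∈ L, b.1 ≠ r₀) →
      ∀ a, (L.flatMap (block r₀)).head? = some a → a ≠ r₀ := by
    intro L hL a ha
    cases L with
    | nil => simp at ha
    | cons b L =>
      simp only [List.flatMap_cons, block, List.cons_append, List.head?_cons, Option.some.injEq] at ha
      exact ha ▸ hL b (List.mem_cons_self ..)
  intro L
  induction L with
  | nil =>
    intro L' _ _ he
    cases L' with
    | nil => rfl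
    | cons b' L' => simp [List.flatMap_cons, block] at he
  | cons b L ih =>
    intro L' hL hL' he
    cases L' with
    | nil => simp [List.flatMap_cons, block] at he
    | cons b' L' =>
      simp only [List.flatMap_cons, block, List.cons_append, List.cons.injEq] at he
      have hL1 := fun c hc => hL c (List.mem_cons_of_mem b hc)
      have hL2 := fun c hc => hL' c (List.mem_cons_of_mem b' hc)
      obtain ⟨h1, h2⟩ := key _ _ _ _ (hhead L hL1) (hhead L' hL2) he.2
      rw [ih hL1 hL2 h2, Prod.ext he.1 h1]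

theorem length_word (r₀ : ZMod p) (γ : Fin N → ℕ) :
    ((wordData p γ).flatMap (block r₀)).length = ∑ i, excess p γ i := by
  rw [List.length_flatMap, wordData, List.map_map]
  rw [Fin.sum_univ_def]
  induction List.finRange N with
  | nil => simp
  | cons a l ih =>
    rw [List.filter_cons]
    by_cases h : excess p γ a = 0
    · simpa [h] using ih
    · have h' : (decide (excess p γ a ≠ 0)) = true := by simpa using h
      rw [if_pos h']
      simp only [List.map_cons, List.sum_cons, Function.comp_apply, block, List.length_cons,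
        List.length_replicate] at ih ⊢
      omega

theorem countP_wordData (γ : Fin N → ℕ) (r : ZMod p) (v : ℕ) :
    (wordData p γ).countP (fun b => decide (b.1 = r ∧ v ≤ b.2)) =
      (univ.filter fun i => (γ i : ZMod p) = r ∧ v + 1 ≤ excess p γ i).card := by
  rw [wordData, List.countP_map, List.countP_filter, List.countP_eq_length_filter, Finset.card_def,
    Finset.filter_val, Fin.univ_def, Multiset.filter_coe, Multiset.coe_card]
  congr 1
  refine List.filter_congr fun i _ => ?_
  simp only [Function.comp_apply, Bool.decide_and, ne_eq, decide_not]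
  by_cases h : excess p γ i = 0 <;> by_cases h' : (γ i : ZMod p) = r <;> simp [h, h'] <;> omega

/-- The configurations as a finset. -/
theorem eq_of_wordData {γ γ' : Fin N → ℕ} (hs : StrictMono γ) (hs' : StrictMono γ')
    (hc : ∀ r, resCount p γ r = resCount p γ' r) (he : wordData p γ = wordData p γ') : γ = γ' := by
  refine eq_of_exCount hs hs' hc fun r v => ?_
  have hsplit : ∀ δ : Fin N → ℕ, exCount p δ r v +
      (univ.filter fun i => (δ i : ZMod p) = r ∧ v + 1 ≤ excess p δ i).card = resCount p δ r := by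
    intro δ
    rw [exCount, resCount, ← Finset.card_union_of_disjoint, ← Finset.filter_or]
    · refine congrArg Finset.card (Finset.filter_congr fun i _ => ?_)
      constructor
      · rintro (h | h) <;> exact h.1
      · intro h
        rcases Nat.lt_or_ge v (excess p δ i) with h' | h'
        · exact Or.inr ⟨h, h'⟩
        · exact Or.inl ⟨h, h'⟩
    · rw [Finset.disjoint_left]
      intro i h1 h2
      rw [mem_filter] at h1 h2
      omega
  have h1 := hsplit γ
  have h2 := hsplit γ'
  rw [← countP_wordData, he] at h1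
  rw [← countP_wordData] at h2
  have := hc r
  omega

variable {α : Type*} [Fintype α]

/-- The weight of the residue counts. -/
def weight (α : Type*) [Fintype α] (N p : ℕ) [NeZero p] (cnt : ZMod p → ℕ) : ℕ :=
  (Fintype.card α + ∑ i, delta N i - coreSum p cnt) / p

theorem sum_excess_eq_weight {γ : Fin N → ℕ} (hs : StrictMono γ)
    (hsum : ∑ i, γ i = Fintype.card α + ∑ i, delta N i) :
    ∑ i, excess p γ i = weight α N p (resCount p γ) := by
  rw [weight, ← hsum, ← coreSum_add (p := p) hs, Nat.add_sub_cancel_left,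
    Nat.mul_div_cancel_left _ (Nat.pos_of_ne_zero (NeZero.ne p))]

theorem mul_weight_le {γ : Fin N → ℕ} (hs : StrictMono γ)
    (hsum : ∑ i, γ i = Fintype.card α + ∑ i, delta N i) :
    p * weight α N p (resCount p γ) ≤ Fintype.card α := by
  have h1 := coreSum_add (p := p) hs
  have h2 : ∑ i, delta N i ≤ coreSum p (resCount p γ) := by
    rw [← sum_coreOf hs]
    exact sum_delta_le (coreOf_injective γ)
  rw [← sum_excess_eq_weight (p := p) hs hsum]
  omega

theorem finite_conf (r₀ : ZMod p) (cnt : ZMod p → ℕ) :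
    {γ : Fin N → ℕ | IsConf α p r₀ cnt γ}.Finite := by
  refine Set.Finite.subset (Set.Finite.pi fun _ : Fin N =>
    Set.finite_Iic (Fintype.card α + ∑ i, delta N i)) ?_
  intro γ hγ i _
  have := Finset.single_le_sum (f := γ) (fun j _ => Nat.zero_le _) (mem_univ i)
  show γ i ≤ _
  have := hγ.2.1
  omega

/-- The word of a configuration. -/
def word (r₀ : ZMod p) (γ : Fin N → ℕ) : List (ZMod p) := (wordData p γ).flatMap (block r₀)

theorem word_spec {r₀ : ZMod p} {cnt : ZMod p → ℕ} {γ : Fin N → ℕ} (hγ : IsConf α p r₀ cnt γ) :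
    (word r₀ γ).length = weight α N p cnt ∧ (∀ b ∈ wordData p γ, b.1 ≠ r₀) := by
  obtain ⟨hs, hsum, hc, hpk⟩ := hγ
  refine ⟨?_, fun b hb => ?_⟩
  · rw [word, length_word, sum_excess_eq_weight (α := α) hs hsum,
      show resCount p γ = cnt from funext hc]
  · rw [wordData, List.mem_map] at hb
    obtain ⟨i, hi, rfl⟩ := hb
    rw [List.mem_filter, decide_eq_true_eq] at hi
    exact fun e => hi.2 (excess_eq_zero_of_packed hs hpk e)

theorem word_injOn (r₀ : ZMod p) (cnt : ZMod p → ℕ) :
    Set.InjOn (word r₀) {γ : Fin N → ℕ | IsConf α p r₀ cnt γ} := by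
  intro γ hγ γ' hγ' he
  exact eq_of_wordData hγ.1 hγ'.1 (fun r => (hγ.2.2.1 r).trans (hγ'.2.2.1 r).symm)
    (flatMap_block_injective r₀ (word_spec hγ).2 (word_spec hγ').2 he)

theorem card_conf_le (r₀ : ZMod p) (cnt : ZMod p → ℕ) :
    (finite_conf (α := α) (N := N) r₀ cnt).toFinset.card ≤
      if weight α N p cnt = 0 then 1 else (p - 1) * p ^ (weight α N p cnt - 1) := by
  classical
  split_ifs with hw
  · refine Finset.card_le_one.2 fun γ hγ γ' hγ' => ?_
    rw [Set.Finite.mem_toFinset] at hγ hγ'
    refine word_injOn r₀ cnt hγ hγ' ?_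
    rw [List.eq_nil_of_length_eq_zero ((word_spec hγ).1.trans hw),
      List.eq_nil_of_length_eq_zero ((word_spec hγ').1.trans hw)]
  set w := weight α N p cnt with hwdef
  set V : Finset (ZMod p) := univ.erase r₀
  refine le_trans (Finset.card_le_card_of_injOn (fun γ => ((word r₀ γ).head?.getD r₀,
    fun k : Fin (w - 1) => (word r₀ γ).getD (k + 1) r₀))
    (t := V ×ˢ (univ : Finset (Fin (w - 1) → ZMod p))) ?_ ?_) ?_
  · intro γ hγ
    rw [Finset.mem_coe, Set.Finite.mem_toFinset] at hγ
    rw [Finset.mem_coe, mem_product]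
    refine ⟨mem_erase.2 ⟨?_, mem_univ _⟩, mem_univ _⟩
    obtain ⟨h1, h2⟩ := word_spec hγ
    simp only [word] at h1 ⊢
    cases hd : wordData p γ with
    | nil => rw [hd] at h1; simp at h1; omega
    | cons b L =>
      rw [hd] at h2
      simpa [block] using h2 b (List.mem_cons_self ..)
  · intro γ hγ γ' hγ' he
    rw [Finset.mem_coe, Set.Finite.mem_toFinset] at hγ hγ'
    refine word_injOn r₀ cnt hγ hγ' ?_
    have l1 := (word_spec hγ).1
    have l2 := (word_spec hγ').1
    simp only [Prod.mk.injEq] at he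
    refine List.ext_getElem (l1.trans l2.symm) fun k h1 h2 => ?_
    cases k with
    | zero =>
      have := he.1
      rwa [List.head?_eq_getElem?, List.head?_eq_getElem?, List.getElem?_eq_getElem h1,
        List.getElem?_eq_getElem h2, Option.getD_some, Option.getD_some] at this
    | succ k =>
      have := congrFun he.2 ⟨k, by omega⟩
      simp only at this
      rwa [List.getD_eq_getElem _ _ h1, List.getD_eq_getElem _ _ h2] at this
  · rw [card_product, card_univ, Fintype.card_pi, card_erase_of_mem (mem_univ _), card_univ,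
      ZMod.card]
    simp [ZMod.card]

end Cfsg.Lib.SymBlocks
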