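import Cfsg.Agent.SymBlocks.Value
import Cfsg.Agent.Blocks.BrauerHom
import Cfsg.Agent.Blocks.Second
import Cfsg.Agent.Blocks.Columns
import Cfsg.Prelude.Def_CaseTheorems

/-!
# An elementary abelian subgroup of the defect group

A character with `χ x ≠ 0` puts every normal `p`-subgroup of `C(x)` containing `x` into the defect
groups of its block. For `x` a product of `w` cycles of length `p` this gives rank `w`.
-/

set_option autoImplicit false
set_option linter.unusedSectionVars false
set_option linter.style.haveILetI false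

namespace Cfsg.Lib.SymBlocks

open Cfsg.Lib.Blocks Cfsg.Lib.Chars

universe u

/-- A nonzero value at a `p`-element puts local `p`-subgroups into the defect groups. -/
theorem exists_conj_le_of_apply_ne_zero {G : Type u} [Group G] [Fintype G] {p : ℕ}
    [Fact p.Prime] {M : Ideal Cfsg.AlgInt} (hM : Cfsg.IsPModular p M)
    {B : Set (Cfsg.IrrCharacter G)} (hB : Cfsg.IsPBlock M B) {χ : Cfsg.IrrCharacter G} (hχ : χ ∈ B)
    {x : G} (hx : ∃ k : ℕ, orderOf x = p ^ k) (hne : (χ : G → ℂ) x ≠ 0) {P : Subgroup G}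
    (hP : IsPGroup p P) (hxP : x ∈ P) (hPC : ∀ g ∈ P, Commute x g)
    (hN : ∀ y : G, Commute x y → ∀ g ∈ P, y * g * y⁻¹ ∈ P) {D : Subgroup G}
    (hD : Cfsg.IsDefectGroup p M B D) : ∃ a : G, P.map (MulAut.conj a).toMonoidHom ≤ D := by
  classical
  set H := Subgroup.centralizer (Subgroup.zpowers x : Set G) with hH
  letI := Fintype.ofFinite H
  have hmem : ∀ {c : G}, c ∈ H ↔ Commute x c := fun {c} => by
    rw [hH, centralizer_zpowers, Subgroup.mem_centralizer_singleton_iff]
    exact ⟨fun h => h.symm, fun h => h.symm⟩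
  have hθ := isClassFunction_translate χ x (C := H) fun c hc => hmem.1 hc
  obtain ⟨b, hb, hind⟩ : ∃ b : Set (Cfsg.IrrCharacter H), Cfsg.IsPBlock M b ∧
      Cfsg.IsInducedBlock M H b B := by
    by_contra hno
    push Not at hno
    have h1 := sum_blockPart hM hθ (1 : H)
    rw [Finset.sum_eq_zero fun b hb => blockPart_translate_eq_zero hM hx rfl hB hχ
      ((mem_blocksFinset hM).1 hb) (hno b ((mem_blocksFinset hM).1 hb)) 1 (by
        rw [orderOf_one, Nat.dvd_one]; exact hM.1.one_lt.ne')] at h1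
    exact hne (by simpa using h1.symm)
  have hPH : P ≤ H := fun g hg => hmem.2 (hPC g hg)
  have hCH : Subgroup.centralizer (P : Set G) ≤ H := fun c hc =>
    hmem.2 (Subgroup.mem_centralizer_iff.1 hc x hxP)
  have hHN : H ≤ Subgroup.normalizer (P : Set G) := by
    intro y hy
    rw [Subgroup.mem_normalizer_iff]
    refine fun g => ⟨hN y (hmem.1 hy) g, fun h => ?_⟩
    have := hN y⁻¹ (hmem.1 hy).inv_right _ h
    simpa [mul_assoc] using this
  obtain ⟨D', hD', a, ha⟩ := (exists_inducing_iff hM hP hPH hCH hHN hB).1 ⟨b, hind⟩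
  obtain ⟨c, hc⟩ := IsDefectGroup.exists_le_conj hM hB hD hD'
  refine ⟨c⁻¹ * a, ?_⟩
  rw [← map_conj_map]
  refine (Subgroup.map_mono (ha.trans hc)).trans (le_of_eq ?_)
  rw [map_conj_map, inv_mul_cancel, map_conj_one]

section Rank

variable {G : Type u} [Group G] {p : ℕ}

/-- Elementary abelian subgroups bound the sectional rank from below. -/
theorem card_le_pow_of_sectional {s : ℕ} {E : Type*} [Group E] [IsMulCommutative E]
    (hexp : ∀ a : E, a ^ p = 1) (hs : Cfsg.SectionalPRankLE p s G) (f : E →* G)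
    (hf : Function.Injective f) : Nat.card E ≤ p ^ s := by
  let q : E →* (↥(⊤ : Subgroup G)) ⧸ (⊥ : Subgroup ↥(⊤ : Subgroup G)) :=
    (QuotientGroup.mk' _).comp (f.codRestrict ⊤ fun _ => trivial)
  have hq : Function.Injective q := by
    intro a b h
    refine hf ?_
    have := (QuotientGroup.eq).1 h
    rw [Subgroup.mem_bot, inv_mul_eq_one] at this
    exact congrArg Subtype.val this
  have hc : IsMulCommutative q.range := ⟨⟨fun a b => by
    obtain ⟨a', ha⟩ := a.2
    obtain ⟨b', hb⟩ := b.2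
    exact Subtype.ext (by
      rw [Subgroup.coe_mul, Subgroup.coe_mul, ← ha, ← hb, ← map_mul, ← map_mul,
        (IsMulCommutative.is_comm (M := E)).comm a' b'])⟩⟩
  have h := hs ⊤ ⊥ q.range hc (fun a ha => by
    obtain ⟨a', rfl⟩ := ha
    rw [← map_pow, hexp, map_one])
  rwa [← Nat.card_congr (MonoidHom.ofInjective hq).toEquiv] at h

end Rank

variable {α : Type u} [Fintype α] [DecidableEq α]

/-- The permutations commuting with `x` and preserving each of its orbits. -/
def orbitStab (x : Equiv.Perm α) : Subgroup (Equiv.Perm α) where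
  carrier := {g | Commute x g ∧ ∀ a, x.SameCycle a (g a)}
  one_mem' := ⟨Commute.one_right x, fun a => Equiv.Perm.SameCycle.refl x a⟩
  mul_mem' := fun {g h} hg hh => ⟨hg.1.mul_right hh.1, fun a => (hh.2 a).trans (hg.2 (h a))⟩
  inv_mem' := fun {g} hg => ⟨hg.1.inv_right, fun a => by
    have := hg.2 (g⁻¹ a)
    rw [Equiv.Perm.inv_def, Equiv.apply_symm_apply] at this
    exact this.symm⟩

theorem mem_orbitStab {x g : Equiv.Perm α} :
    g ∈ orbitStab x ↔ Commute x g ∧ ∀ a, x.SameCycle a (g a) := Iff.rfl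

theorem pow_eq_one_of_mem_orbitStab {x g : Equiv.Perm α} {p : ℕ} (hx : x ^ p = 1)
    (hg : g ∈ orbitStab x) : g ^ p = 1 := by
  refine Equiv.ext fun a => ?_
  obtain ⟨k, hk⟩ := hg.2 a
  have hj : ∀ j : ℕ, (g ^ j) a = (x ^ (k * j)) a := by
    intro j
    induction j with
    | zero => simp
    | succ j ih =>
      have hc : Commute (x ^ (k * (j : ℤ))) g := hg.1.zpow_left _
      rw [pow_succ', Equiv.Perm.mul_apply, ih, ← Equiv.Perm.mul_apply, ← hc.eq,
        Equiv.Perm.mul_apply, ← hk, ← Equiv.Perm.mul_apply, ← zpow_add, Nat.cast_succ, mul_add,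
        mul_one]
  rw [hj p, mul_comm, zpow_mul, zpow_natCast, hx, one_zpow]

theorem conj_mem_orbitStab {x g y : Equiv.Perm α} (hy : Commute x y) (hg : g ∈ orbitStab x) :
    y * g * y⁻¹ ∈ orbitStab x := by
  refine ⟨(hy.mul_right hg.1).mul_right hy.inv_right, fun a => ?_⟩
  obtain ⟨k, hk⟩ := hg.2 (y⁻¹ a)
  refine ⟨k, ?_⟩
  rw [Equiv.Perm.mul_apply, Equiv.Perm.mul_apply, ← hk, ← Equiv.Perm.mul_apply y,
    ← (hy.zpow_left k).eq, Equiv.Perm.mul_apply, Equiv.Perm.inv_def, Equiv.apply_symm_apply]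

variable {p w r : ℕ}

/-- Translations of the `w` cycles. -/
def transFun (e : (Fin w × ZMod p) ⊕ Fin r ≃ α) (v : Fin w → ZMod p) : Equiv.Perm α :=
  e.permCongr ((Equiv.prodCongrRight fun i => Equiv.addRight (v i)).sumCongr (1 : Equiv.Perm (Fin r)))

theorem transFun_inl (e : (Fin w × ZMod p) ⊕ Fin r ≃ α) (v : Fin w → ZMod p) (i : Fin w)
    (a : ZMod p) : transFun e v (e (Sum.inl (i, a))) = e (Sum.inl (i, a + v i)) := by
  simp [transFun, Equiv.permCongr_apply]

theorem transFun_inr (e : (Fin w × ZMod p) ⊕ Fin r ≃ α) (v : Fin w → ZMod p) (j : Fin r) :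
    transFun e v (e (Sum.inr j)) = e (Sum.inr j) := by
  simp [transFun, Equiv.permCongr_apply]

/-- The translations as a homomorphism. -/
def transHom (e : (Fin w × ZMod p) ⊕ Fin r ≃ α) :
    Multiplicative (Fin w → ZMod p) →* Equiv.Perm α where
  toFun v := transFun e v.toAdd
  map_one' := Equiv.ext fun z => by
    obtain ⟨(⟨i, a⟩ | j), rfl⟩ := e.surjective z
    · rw [transFun_inl]; simp
    · rw [transFun_inr]; rfl
  map_mul' u v := Equiv.ext fun z => by
    obtain ⟨(⟨i, a⟩ | j), rfl⟩ := e.surjective z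
    · rw [Equiv.Perm.mul_apply, transFun_inl, transFun_inl, transFun_inl, toAdd_mul, Pi.add_apply,
        add_assoc, add_comm (v.toAdd i)]
    · rw [Equiv.Perm.mul_apply, transFun_inr, transFun_inr, transFun_inr]

theorem transHom_injective (e : (Fin w × ZMod p) ⊕ Fin r ≃ α) :
    Function.Injective (transHom e) := by
  intro u v h
  refine Multiplicative.toAdd.injective (funext fun i => ?_)
  have := congrArg (fun f : Equiv.Perm α => f (e (Sum.inl (i, 0)))) h
  simp only [transHom, MonoidHom.coe_mk, OneHom.coe_mk, transFun_inl] at this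
  simpa using e.injective this

/-- The product of the `w` cycles. -/
def cycleProd (e : (Fin w × ZMod p) ⊕ Fin r ≃ α) : Equiv.Perm α :=
  transHom e (Multiplicative.ofAdd fun _ => 1)

theorem cycleProd_eq (e : (Fin w × ZMod p) ⊕ Fin r ≃ α) :
    cycleProd e = e.permCongr ((rotProd p w).sumCongr (1 : Equiv.Perm (Fin r))) := by
  rfl

theorem cycleProd_pow (e : (Fin w × ZMod p) ⊕ Fin r ≃ α) : cycleProd e ^ p = 1 := by
  rw [cycleProd, ← map_pow, ← ofAdd_nsmul,
    show p • (fun _ : Fin w => (1 : ZMod p)) = 0 from funext fun i => by simp, ofAdd_zero, map_one]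

theorem transHom_mem_orbitStab [NeZero p] (e : (Fin w × ZMod p) ⊕ Fin r ≃ α)
    (v : Multiplicative (Fin w → ZMod p)) : transHom e v ∈ orbitStab (cycleProd e) := by
  refine ⟨((Commute.all _ v).map (transHom e)), fun z => ?_⟩
  obtain ⟨(⟨i, a⟩ | j), rfl⟩ := e.surjective z
  · refine ⟨((v.toAdd i).val : ℤ), ?_⟩
    rw [zpow_natCast, cycleProd, ← map_pow, ← ofAdd_nsmul]
    show transFun e _ _ = transFun e _ _
    rw [transFun_inl, transFun_inl]
    simp only [toAdd_ofAdd, Pi.smul_apply, nsmul_eq_mul, mul_one, Pi.mul_apply, Pi.natCast_apply]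
    rw [ZMod.natCast_zmod_val]
  · refine ⟨0, ?_⟩
    show _ = transFun e _ _
    rw [transFun_inr, zpow_zero]
    rfl

theorem exists_cycleEquiv {N : ℕ} [NeZero p] {γ : Fin N → ℕ} (hs : StrictMono γ)
    (hsum : ∑ i, γ i = Fintype.card α + ∑ i, delta N i) :
    Nonempty ((Fin (weight α N p (resCount p γ)) × ZMod p) ⊕
      Fin (Fintype.card α - p * weight α N p (resCount p γ)) ≃ α) := by
  refine ⟨Fintype.equivOfCardEq ?_⟩
  have := mul_weight_le (p := p) hs hsum
  rw [Fintype.card_sum, Fintype.card_prod, Fintype.card_fin, ZMod.card, Fintype.card_fin,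
    mul_comm _ p]
  omega

theorem weight_le_of_sectional [Fact p.Prime] {N : ℕ} {M : Ideal Cfsg.AlgInt}
    (hM : Cfsg.IsPModular p M) {B : Set (Cfsg.IrrCharacter (Equiv.Perm α))}
    (hB : Cfsg.IsPBlock M B) {D : Subgroup (Equiv.Perm α)} (hD : Cfsg.IsDefectGroup p M B D)
    {s : ℕ} (hs : Cfsg.SectionalPRankLE p s D) {γ : Fin N → ℕ} (hγ : StrictMono γ)
    (hsum : ∑ i, γ i = Fintype.card α + ∑ i, delta N i) {χ : Cfsg.IrrCharacter (Equiv.Perm α)}
    (hχ : χ ∈ B) (hval : (χ : Equiv.Perm α → ℂ) = psi γ) :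
    weight α N p (resCount p γ) ≤ s := by
  obtain ⟨e⟩ := exists_cycleEquiv (p := p) hγ hsum
  set x := cycleProd e with hx
  have hne : (χ : Equiv.Perm α → ℂ) x ≠ 0 := by
    rw [hval, hx, cycleProd_eq]
    exact Int.cast_ne_zero.2 (psiZ_rotProd_ne_zero hγ hsum rfl e)
  have hxord : ∃ k : ℕ, orderOf x = p ^ k := by
    obtain ⟨k, -, hk⟩ := (Nat.dvd_prime_pow (Fact.out : p.Prime)).1
      (show orderOf x ∣ p ^ 1 by rw [pow_one]; exact orderOf_dvd_of_pow_eq_one (cycleProd_pow e))
    exact ⟨k, hk⟩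
  have hP : IsPGroup p (orbitStab x) := fun g => ⟨1, Subtype.ext (by
    rw [pow_one]; exact pow_eq_one_of_mem_orbitStab (cycleProd_pow e) g.2)⟩
  obtain ⟨a, ha⟩ := exists_conj_le_of_apply_ne_zero hM hB hχ hxord hne hP
    (transHom_mem_orbitStab e _) (fun g hg => hg.1) (fun y hy g hg => conj_mem_orbitStab hy hg) hD
  have hcard := card_le_pow_of_sectional (E := Multiplicative (Fin (weight α N p (resCount p γ)) → ZMod p))
    (p := p) (fun v => by
      apply Multiplicative.toAdd.injective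
      rw [toAdd_pow, toAdd_one]
      exact funext fun i => by simp) hs
    ((((MulAut.conj a).toMonoidHom).comp (transHom e)).codRestrict D fun v =>
      ha ⟨_, transHom_mem_orbitStab e v, rfl⟩)
    fun u v h => transHom_injective e ((MulAut.conj a).injective (congrArg Subtype.val h))
  rw [Nat.card_eq_fintype_card, Fintype.card_multiplicative, Fintype.card_fun, Fintype.card_fin,
    ZMod.card] at hcard
  exact (Nat.pow_le_pow_iff_right (Fact.out : p.Prime).one_lt).1 hcard

theorem one_le_of_sectional {G : Type u} [Group G] [Finite G] [Fact p.Prime] {D : Subgroup G}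
    (hD : IsPGroup p D) (hD1 : D ≠ ⊥) {s : ℕ} (hs : Cfsg.SectionalPRankLE p s D) : 1 ≤ s := by
  haveI : Nontrivial D := (Subgroup.nontrivial_iff_ne_bot D).2 hD1
  obtain ⟨k, hk, hcard⟩ := hD.nontrivial_iff_card.1 inferInstance
  obtain ⟨z, hz⟩ := exists_prime_orderOf_dvd_card' p (hcard ▸ dvd_pow_self p hk.ne')
  have h := card_le_pow_of_sectional (E := Subgroup.zpowers z) (fun a => Subtype.ext (by
    obtain ⟨j, hj⟩ := a.2
    rw [SubmonoidClass.coe_pow, ← hj, OneMemClass.coe_one, ← zpow_natCast, ← zpow_mul, mul_comm,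
      zpow_mul, zpow_natCast, ← hz, pow_orderOf_eq_one, one_zpow])) hs (Subgroup.zpowers z).subtype
    (Subgroup.subtype_injective _)
  rw [Nat.card_zpowers, hz] at h
  by_contra hlt
  rw [show s = 0 by omega, pow_zero] at h
  exact absurd h (not_le.2 (Fact.out : p.Prime).one_lt)

end Cfsg.Lib.SymBlocks
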