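import Cfsg.Agent.SymBlocks.Frobenius

/-!
# Degrees and content polynomials
-/

set_option autoImplicit false
set_option linter.unusedSectionVars false

namespace Cfsg.Lib.SymBlocks

open Finset

variable {N : ℕ}

/-- Inverse factorial, zero in negative degree. -/
noncomputable def invFac (a b : ℕ) : ℚ := if b ≤ a then ((a - b).factorial : ℚ)⁻¹ else 0

/-- The determinant of inverse factorials. -/
noncomputable def dv (β : Fin N → ℕ) : ℚ :=
  (Matrix.of fun i j : Fin N => invFac (β i) (j : ℕ)).det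

theorem invFac_eq (a b : ℕ) : invFac a b = (a.factorial : ℚ)⁻¹ * (a.descFactorial b : ℚ) := by
  rw [invFac]
  split_ifs with h
  · have h1 : ((a - b).factorial : ℚ) ≠ 0 := by exact_mod_cast (a - b).factorial_ne_zero
    have h2 : (a.factorial : ℚ) ≠ 0 := by exact_mod_cast a.factorial_ne_zero
    rw [inv_eq_iff_eq_inv, mul_inv, inv_inv]
    have h3 := Nat.factorial_mul_descFactorial h
    have h4 : (a.descFactorial b : ℚ) ≠ 0 := by
      exact_mod_cast fun e => (a.factorial_ne_zero) (by rw [← h3, e, mul_zero])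
    field_simp
    exact_mod_cast h3
  · rw [Nat.descFactorial_eq_zero_iff_lt.2 (Nat.lt_of_not_le h), Nat.cast_zero, mul_zero]

theorem dv_eq (β : Fin N → ℕ) :
    dv β = (∏ i, ((β i).factorial : ℚ)⁻¹) *
      (Matrix.vandermonde fun i => (β i : ℚ)).det := by
  rw [dv, Matrix.det_eval_matrixOfPolynomials_eq_det_vandermonde (fun i => (β i : ℚ))
      (fun j => descPochhammer ℚ (j : ℕ)) (fun j => descPochhammer_natDegree ℚ j)
      (fun j => monic_descPochhammer ℚ j), ← Matrix.det_mul_column]
  congr 1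
  ext i j
  simp [invFac_eq, descPochhammer_eval_eq_descFactorial]

theorem vandermonde_pos {β : Fin N → ℕ} (h : StrictMono β) :
    0 < (Matrix.vandermonde fun i => (β i : ℚ)).det := by
  rw [Matrix.det_vandermonde]
  refine Finset.prod_pos fun i _ => Finset.prod_pos fun j hj => ?_
  rw [sub_pos]
  exact_mod_cast h (mem_Ioi.1 hj)

theorem dv_pos {β : Fin N → ℕ} (h : StrictMono β) : 0 < dv β := by
  rw [dv_eq]
  refine mul_pos (Finset.prod_pos fun i _ => ?_) (vandermonde_pos h)
  exact inv_pos.2 (by exact_mod_cast Nat.factorial_pos _)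

variable {α : Type*} [Fintype α] [DecidableEq α]

theorem nfix_one {c : Fin N → ℕ} (hc : ∑ i, c i = Fintype.card α) :
    nfix c (1 : Equiv.Perm α) = Nat.multinomial univ c := by
  have h := congrArg (MvPolynomial.coeff (mon c))
    (powProd_one (α := α) (fun i : Fin N => (MvPolynomial.X i : MvPolynomial (Fin N) ℤ)))
  rw [coeff_powProd, Finset.sum_pow_eq_sum_piAntidiag, MvPolynomial.coeff_sum,
    Finset.sum_eq_single c] at h
  · rw [prod_X_pow, ← map_natCast (MvPolynomial.C : ℤ →+* MvPolynomial (Fin N) ℤ),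
      MvPolynomial.coeff_C_mul, MvPolynomial.coeff_monomial, if_pos rfl, mul_one] at h
    exact_mod_cast h
  · intro l _ hl
    rw [prod_X_pow, ← map_natCast (MvPolynomial.C : ℤ →+* MvPolynomial (Fin N) ℤ),
      MvPolynomial.coeff_C_mul, MvPolynomial.coeff_monomial, if_neg (mon_inj.not.2 hl), mul_zero]
  · intro hn
    exact absurd (mem_piAntidiag.2 ⟨hc, fun i _ => mem_univ i⟩) hn

theorem psiZ_one {β : Fin N → ℕ} (hβ : ∑ i, β i = Fintype.card α + ∑ i, delta N i) :
    (psiZ β (1 : Equiv.Perm α) : ℚ) = (Fintype.card α).factorial * dv β := by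
  rw [psiZ_eq_sum, dv, ← Matrix.det_transpose, Matrix.det_apply, Int.cast_sum, Finset.mul_sum]
  refine Finset.sum_congr rfl fun σ _ => ?_
  rw [Units.smul_def, zsmul_eq_mul, Int.cast_mul, mul_left_comm]
  congr 1
  rw [show (∏ i, (Matrix.of fun i j : Fin N => invFac (β i) (j : ℕ)).transpose (σ i) i) =
    ∏ i, invFac (β i) (delta N (σ i)) from rfl]
  by_cases hle : ∀ i, delta N (σ i) ≤ β i
  · have hsum : ∑ i, (β i - delta N (σ i)) = Fintype.card α := by
      have : ∑ i, (β i - delta N (σ i)) + ∑ i, delta N (σ i) = ∑ i, β i := by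
        rw [← Finset.sum_add_distrib]
        exact Finset.sum_congr rfl fun i _ => Nat.sub_add_cancel (hle i)
      rw [Equiv.sum_comp σ (delta N)] at this
      omega
    rw [if_pos hle, Int.cast_natCast, nfix_one hsum]
    have h1 := congrArg (Nat.cast : ℕ → ℚ)
      (Nat.multinomial_spec univ fun i => β i - delta N (σ i))
    rw [Nat.cast_mul, Nat.cast_prod, hsum] at h1
    rw [← h1, mul_comm _ (Nat.multinomial _ _ : ℚ), mul_assoc, ← Finset.prod_mul_distrib,
      Finset.prod_eq_one, mul_one]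
    intro i _
    rw [invFac, if_pos (hle i)]
    exact mul_inv_cancel₀ (by exact_mod_cast Nat.factorial_ne_zero _)
  · obtain ⟨i, hi⟩ := not_forall.1 hle
    rw [if_neg hle, Finset.prod_eq_zero (mem_univ i) (if_neg hi)]
    simp

theorem psiZ_one_pos {β : Fin N → ℕ} (hs : StrictMono β)
    (hβ : ∑ i, β i = Fintype.card α + ∑ i, delta N i) : 0 < psiZ β (1 : Equiv.Perm α) := by
  have h : (0 : ℚ) < psiZ β (1 : Equiv.Perm α) := by
    rw [psiZ_one hβ]
    exact mul_pos (by exact_mod_cast Nat.factorial_pos _) (dv_pos hs)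
  exact_mod_cast h

theorem isIrr_psi {β : Fin N → ℕ} (hs : StrictMono β)
    (hβ : ∑ i, β i = Fintype.card α + ∑ i, delta N i) :
    Cfsg.IsIrrCharacter (Equiv.Perm α) (psi (α := α) β) := by
  rcases Cfsg.Lib.Chars.isIrr_or_neg_of_norm_one (isGeneralized_psi (α := α) β)
    (classInner_psi_self hs hβ) with h | h
  · exact h
  exfalso
  obtain ⟨m, hm⟩ := Cfsg.Lib.Chars.IsIrrCharacter.apply_one h
  rw [Pi.neg_apply, psi, ← Int.cast_neg] at hm
  have h1 : -psiZ β (1 : Equiv.Perm α) = (m : ℤ) := by exact_mod_cast hm.2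
  have := psiZ_one_pos hs hβ
  omega

/-! ## The content polynomial -/

theorem hh_one (t m : ℕ) :
    hh (fun _ : Fin t => (1 : ℚ)) m * m.factorial = (t.ascFactorial m : ℚ) := by
  have key : ∀ m : ℕ, ((m : ℚ) + 1) * hh (fun _ : Fin t => (1 : ℚ)) (m + 1) =
      t * ∑ i ∈ range (m + 1), hh (fun _ : Fin t => (1 : ℚ)) i := by
    intro m
    rw [newton, Finset.Nat.sum_antidiagonal_eq_sum_range_succ_mk, Finset.mul_sum]
    refine Finset.sum_congr rfl fun i _ => ?_
    simp [mul_comm]
  induction m with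
  | zero => simp [hh_zero]
  | succ m ih =>
    have hstep : ((m : ℚ) + 1) * hh (fun _ : Fin t => (1 : ℚ)) (m + 1) =
        ((t : ℚ) + m) * hh (fun _ : Fin t => (1 : ℚ)) m := by
      cases m with
      | zero => rw [key]; simp [hh_zero]
      | succ k =>
        rw [key, Finset.sum_range_succ, mul_add, ← key]
        push_cast
        ring
    rw [Nat.factorial_succ, Nat.ascFactorial_succ]
    push_cast
    rw [← ih, mul_comm (hh _ (m + 1)), mul_assoc, mul_comm (m.factorial : ℚ), ← mul_assoc, hstep,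
      mul_assoc]

theorem coeff_terms (b a l : Fin N →₀ ℕ) (s c e : ℤ) :
    MvPolynomial.coeff b ((s : MvPolynomial (Fin N) ℤ) * MvPolynomial.monomial a 1 *
      (MvPolynomial.C c * (MvPolynomial.monomial l 1 * MvPolynomial.C e))) =
      if a + l = b then s * c * e else 0 := by
  rw [← eq_intCast (MvPolynomial.C : ℤ →+* MvPolynomial (Fin N) ℤ), MvPolynomial.C_mul_monomial,
    mul_comm (MvPolynomial.monomial l 1), ← mul_assoc (MvPolynomial.C c), ← map_mul,
    MvPolynomial.C_mul_monomial, MvPolynomial.monomial_mul, MvPolynomial.coeff_monomial]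
  simp [mul_assoc]

/-- The sum of `psi β` against the colourings by `t` colours. -/
noncomputable def colSum (α : Type*) [Fintype α] [DecidableEq α] (β : Fin N → ℕ) (t : ℕ) : ℤ :=
  ∑ g : Equiv.Perm α, psiZ β g * ((fixedCol (Fin t) g).card : ℤ)

theorem colSum_eq {β : Fin N → ℕ} (hβ : ∑ i, β i = Fintype.card α + ∑ i, delta N i) (t : ℕ) :
    (colSum α β t : ℚ) = (Fintype.card α).factorial *
      (Matrix.of fun i j : Fin N =>
        if (j : ℕ) ≤ β i then hh (fun _ : Fin t => (1 : ℚ)) (β i - j) else 0).det := by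
  have h := sum_powProd (α := α) (fun q : Fin N × Fin t =>
    (MvPolynomial.X q.1 : MvPolynomial (Fin N) ℤ) * (fun _ : Fin t => (1 : MvPolynomial (Fin N) ℤ)) q.2)
  simp only [powProd_prod (fun i => (MvPolynomial.X i : MvPolynomial (Fin N) ℤ))
      (fun _ : Fin t => (1 : MvPolynomial (Fin N) ℤ)),
    hh_prod (fun i => (MvPolynomial.X i : MvPolynomial (Fin N) ℤ))
      (fun _ : Fin t => (1 : MvPolynomial (Fin N) ℤ))] at h
  have h1 : ∀ g : Equiv.Perm α, powProd (fun _ : Fin t => (1 : MvPolynomial (Fin N) ℤ)) g =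
      MvPolynomial.C ((fixedCol (Fin t) g).card : ℤ) := fun g => by
    rw [map_natCast, powProd]
    simp
  have h2 : ∀ m, hh (fun _ : Fin t => (1 : MvPolynomial (Fin N) ℤ)) m =
      MvPolynomial.C (hh (fun _ : Fin t => (1 : ℤ)) m) := fun m => by
    rw [map_hh, map_one]
  simp only [h1, h2] at h
  have h3 := congrArg
    (fun q => MvPolynomial.coeff (mon β) (alt MvPolynomial.X (delta N) * q)) h
  simp only [Finset.mul_sum, MvPolynomial.coeff_sum] at h3
  rw [Finset.sum_congr rfl (g := fun g : Equiv.Perm α =>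
      psiZ β g * ((fixedCol (Fin t) g).card : ℤ)) fun g _ => by
    rw [← mul_assoc, mul_comm _ (MvPolynomial.C _), MvPolynomial.coeff_C_mul, mul_comm]
    rfl] at h3
  rw [colSum, h3, ← Matrix.det_transpose, Matrix.det_apply, Finset.mul_sum, Int.cast_sum]
  simp only [Finset.prod_mul_distrib, prod_X_pow, ← map_prod,
    ← map_natCast (MvPolynomial.C : ℤ →+* MvPolynomial (Fin N) ℤ)]
  simp only [alt_eq_sum, Finset.sum_mul, MvPolynomial.coeff_sum, Int.cast_sum, prod_X_pow]
  rw [Finset.sum_comm]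
  refine Finset.sum_congr rfl fun σ _ => ?_
  rw [Units.smul_def, zsmul_eq_mul,
    show (∏ i, (Matrix.of fun i j : Fin N =>
        if (j : ℕ) ≤ β i then hh (fun _ : Fin t => (1 : ℚ)) (β i - j) else 0).transpose (σ i) i) =
      ∏ i, if delta N (σ i) ≤ β i then hh (fun _ : Fin t => (1 : ℚ)) (β i - delta N (σ i)) else 0
      from rfl]
  by_cases hle : ∀ i, delta N (σ i) ≤ β i
  · have hmem : (fun i => β i - delta N (σ i)) ∈ piAntidiag (univ : Finset (Fin N))
        (Fintype.card α) := by
      refine mem_piAntidiag.2 ⟨?_, fun i _ => mem_univ i⟩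
      have : ∑ i, (β i - delta N (σ i)) + ∑ i, delta N (σ i) = ∑ i, β i := by
        rw [← Finset.sum_add_distrib]
        exact Finset.sum_congr rfl fun i _ => Nat.sub_add_cancel (hle i)
      rw [Equiv.sum_comp σ (delta N)] at this
      omega
    rw [Finset.sum_eq_single (fun i => β i - delta N (σ i))]
    · rw [coeff_terms, if_pos (Finsupp.ext fun i => by simp [Nat.add_sub_cancel' (hle i)])]
      push_cast
      rw [mul_comm (((Equiv.Perm.sign σ : ℤˣ) : ℤ) : ℚ), mul_assoc]
      congr 2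
      refine Finset.prod_congr rfl fun i _ => ?_
      rw [if_pos (hle i)]
      exact map_hh (Int.castRingHom ℚ) (fun _ : Fin t => (1 : ℤ)) _ |>.trans (by simp)
    · intro l _ hl
      rw [coeff_terms, if_neg, Int.cast_zero]
      intro he
      refine hl (funext fun i => ?_)
      have := DFunLike.congr_fun he i
      simp only [Finsupp.add_apply, mon_apply] at this
      omega
    · intro hn; exact absurd hmem hn
  · obtain ⟨i, hi⟩ := not_forall.1 hle
    rw [Finset.prod_eq_zero (mem_univ i) (if_neg hi), mul_zero, mul_zero]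
    refine Finset.sum_eq_zero fun l _ => ?_
    rw [coeff_terms, if_neg, Int.cast_zero]
    intro he
    have := DFunLike.congr_fun he i
    simp only [Finsupp.add_apply, mon_apply] at this
    omega

theorem det_eval_eq (v : Fin N → ℚ) (q : Fin N → Polynomial ℚ)
    (hq : ∀ j, (q j).natDegree < N) :
    (Matrix.of fun i j => (q j).eval (v i)).det =
      (Matrix.vandermonde v).det * (Matrix.of fun k j : Fin N => (q j).coeff k).det := by
  rw [← Matrix.det_mul]
  congr 1
  ext i j
  rw [Matrix.mul_apply, Matrix.of_apply, Polynomial.eval_eq_sum_range' (hq j) (v i),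
    ← Fin.sum_univ_eq_sum_range]
  refine Finset.sum_congr rfl fun k _ => ?_
  rw [Matrix.vandermonde_apply, Matrix.of_apply, mul_comm]

theorem dv_delta : dv (delta N) = 1 := by
  rw [dv, Matrix.det_of_isLowerTriangular]
  · exact Finset.prod_eq_one fun i _ => by simp [invFac, delta]
  · intro i j hij
    have h : (i : ℕ) < (j : ℕ) := hij
    rw [Matrix.of_apply, invFac, delta, if_neg h.not_ge]

/-- The matrix of the content formula. -/
noncomputable def hOneMat (t : ℕ) (β : Fin N → ℕ) : Matrix (Fin N) (Fin N) ℚ :=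
  Matrix.of fun i j : Fin N =>
    if (j : ℕ) ≤ β i then hh (fun _ : Fin t => (1 : ℚ)) (β i - j) else 0

theorem hOneMat_delta (t : ℕ) : (hOneMat (N := N) t (delta N)).det = 1 :=
  by
  rw [hOneMat, Matrix.det_of_isLowerTriangular]
  · exact Finset.prod_eq_one fun i _ => by simp [delta, hh_zero]
  · intro i j hij
    have h : (i : ℕ) < (j : ℕ) := hij
    rw [Matrix.of_apply, delta, if_neg h.not_ge]

theorem hOneMat_entry (u e j b : ℕ) :
    (if j ≤ b then hh (fun _ : Fin (u + e + j) => (1 : ℚ)) (b - j) else 0) *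
        (u.ascFactorial (e + j) : ℚ) =
      (u.ascFactorial b : ℚ) * (b.factorial : ℚ)⁻¹ *
        (((u + b).ascFactorial e : ℚ) * (b.descFactorial j : ℚ)) := by
  split_ifs with h
  · have h1 := hh_one (u + e + j) (b - j)
    have h2 : ((b - j).factorial : ℚ) * (b.descFactorial j : ℚ) = b.factorial := by
      exact_mod_cast Nat.factorial_mul_descFactorial h
    have h3 : ((u + e + j).ascFactorial (b - j) : ℚ) * (u.ascFactorial (e + j) : ℚ) =
        (u.ascFactorial b : ℚ) * ((u + b).ascFactorial e : ℚ) := by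
      have e1 := Nat.ascFactorial_mul_ascFactorial u (e + j) (b - j)
      have e2 := Nat.ascFactorial_mul_ascFactorial u b e
      rw [show e + j + (b - j) = b + e by omega, ← e2, ← add_assoc, mul_comm] at e1
      exact_mod_cast e1
    have h4 : ((b - j).factorial : ℚ) ≠ 0 := by exact_mod_cast Nat.factorial_ne_zero _
    have h5 : (b.factorial : ℚ) ≠ 0 := by exact_mod_cast Nat.factorial_ne_zero _
    field_simp
    apply mul_right_cancel₀ h4
    linear_combination (b.factorial : ℚ) * (u.ascFactorial (e + j) : ℚ) * h1 +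
      (b.factorial : ℚ) * h3 - (u.ascFactorial b : ℚ) * ((u + b).ascFactorial e : ℚ) * h2
  · rw [zero_mul, Nat.descFactorial_eq_zero_iff_lt.2 (Nat.lt_of_not_le h)]
    simp

theorem hOneMat_det (u : ℕ) :
    ∃ K : ℚ, ∀ β : Fin N → ℕ,
      (u.ascFactorial (N - 1) : ℚ) ^ N * (hOneMat (u + (N - 1)) β).det =
        (∏ i, (u.ascFactorial (β i) : ℚ)) * dv β * K := by
  let q : Fin N → Polynomial ℚ := fun j =>
    (ascPochhammer ℚ (N - 1 - (j : ℕ))).comp (Polynomial.X + Polynomial.C (u : ℚ)) *
      descPochhammer ℚ (j : ℕ)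
  have hq : ∀ j, (q j).natDegree < N := fun j => by
    refine lt_of_le_of_lt Polynomial.natDegree_mul_le ?_
    rw [Polynomial.natDegree_comp, Polynomial.natDegree_X_add_C, mul_one, ascPochhammer_natDegree,
      descPochhammer_natDegree]
    have := j.isLt
    omega
  refine ⟨(Matrix.of fun k j : Fin N => (q j).coeff k).det, fun β => ?_⟩
  rw [dv_eq, mul_assoc (∏ i, (u.ascFactorial (β i) : ℚ)), mul_assoc (∏ i, ((β i).factorial : ℚ)⁻¹),
    ← det_eval_eq _ q hq, ← mul_assoc, ← Finset.prod_mul_distrib, ← Matrix.det_mul_column,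
    show (u.ascFactorial (N - 1) : ℚ) ^ N =
      ∏ _i : Fin N, (u.ascFactorial (N - 1) : ℚ) by simp,
    ← Matrix.det_mul_column]
  congr 1
  ext i j
  have hj := j.isLt
  have key := hOneMat_entry u (N - 1 - (j : ℕ)) j (β i)
  rw [show u + (N - 1 - (j : ℕ)) + j = u + (N - 1) by omega,
    show N - 1 - (j : ℕ) + j = N - 1 by omega] at key
  have hasc : (ascPochhammer ℚ (N - 1 - (j : ℕ))).eval ((β i : ℚ) + (u : ℚ)) =
      ((u + β i).ascFactorial (N - 1 - (j : ℕ)) : ℚ) := by
    rw [show ((β i : ℚ) + (u : ℚ)) = ((u + β i : ℕ) : ℚ) by push_cast; ring,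
      ← ascPochhammer_eval_cast, ascPochhammer_nat_eq_ascFactorial]
  simp only [Matrix.of_apply, hOneMat, q, Polynomial.eval_mul, Polynomial.eval_comp,
    Polynomial.eval_add, Polynomial.eval_X, Polynomial.eval_C, hasc,
    descPochhammer_eval_eq_descFactorial]
  rw [mul_comm, key]

theorem prod_asc_pos {u : ℕ} (hu : 0 < u) (β : Fin N → ℕ) :
    (0 : ℚ) < ∏ i, (u.ascFactorial (β i) : ℚ) := by
  refine Finset.prod_pos fun i _ => ?_
  obtain ⟨v, rfl⟩ := Nat.exists_eq_succ_of_ne_zero hu.ne'
  exact_mod_cast Nat.ascFactorial_pos v _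

/-- **The content formula.** -/
theorem colSum_content {β : Fin N → ℕ} (hβ : ∑ i, β i = Fintype.card α + ∑ i, delta N i) {u : ℕ}
    (hu : 0 < u) :
    colSum α β (u + (N - 1)) * ∏ i, (u.ascFactorial (delta N i) : ℤ) =
      psiZ β (1 : Equiv.Perm α) * ∏ i, (u.ascFactorial (β i) : ℤ) := by
  obtain ⟨K, hK⟩ := hOneMat_det (N := N) u
  have hd := hK (delta N)
  rw [hOneMat_delta, dv_delta, mul_one, mul_one] at hd
  have hb := hK β
  have hA : (u.ascFactorial (N - 1) : ℚ) ^ N ≠ 0 := by
    obtain ⟨v, rfl⟩ := Nat.exists_eq_succ_of_ne_zero hu.ne'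
    exact pow_ne_zero _ (by exact_mod_cast (Nat.ascFactorial_pos v _).ne')
  have h : (colSum α β (u + (N - 1)) : ℚ) * ∏ i, (u.ascFactorial (delta N i) : ℚ) =
      (psiZ β (1 : Equiv.Perm α) : ℚ) * ∏ i, (u.ascFactorial (β i) : ℚ) := by
    rw [colSum_eq hβ, psiZ_one hβ, mul_assoc, mul_assoc, ← hOneMat]
    congr 1
    apply mul_left_cancel₀ hA
    linear_combination (∏ i, (u.ascFactorial (delta N i) : ℚ)) * hb -
      dv β * (∏ i, (u.ascFactorial (β i) : ℚ)) * hd
  exact_mod_cast h

end Cfsg.Lib.SymBlocks
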