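import Cfsg.Agent.SymBlocks.Colour
import Cfsg.Agent.Chars.Perm
import Cfsg.Agent.Chars.Construct

/-!
# The Frobenius formula

`psi β` is the coefficient of `X ^ β` in the product of the Vandermonde alternant and the power
sum product; these functions satisfy the orthogonality relations of alternants, are generalized
characters, and span the class functions.
-/

set_option autoImplicit false
set_option linter.unusedSectionVars false

namespace Cfsg.Lib.SymBlocks

open Finset MvPolynomial

/-! ## Coefficients -/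

/-- An exponent vector as a finitely supported function. -/
noncomputable def mon {N : ℕ} (c : Fin N → ℕ) : Fin N →₀ ℕ := Finsupp.equivFunOnFinite.symm c

@[simp] theorem mon_apply {N : ℕ} (c : Fin N → ℕ) (i : Fin N) : mon c i = c i := rfl

theorem mon_inj {N : ℕ} {c d : Fin N → ℕ} : mon c = mon d ↔ c = d :=
  Finsupp.equivFunOnFinite.symm.injective.eq_iff

theorem prod_X_pow {N : ℕ} {R : Type*} [CommRing R] (c : Fin N → ℕ) :
    ∏ i, (X i : MvPolynomial (Fin N) R) ^ c i = monomial (mon c) 1 := by
  rw [MvPolynomial.monomial_eq, C_1, one_mul,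
    Finsupp.prod_fintype _ _ fun i => pow_zero _]
  rfl

variable {N : ℕ}

/-- The exponents of the Vandermonde alternant. -/
def delta (N : ℕ) : Fin N → ℕ := fun i => (i : ℕ)

theorem coeff_alt (α β : Fin N → ℕ) :
    coeff (mon β) (alt (X : Fin N → MvPolynomial (Fin N) ℤ) α) =
      ∑ σ : Equiv.Perm (Fin N), if α ∘ σ = β then (Equiv.Perm.sign σ : ℤ) else 0 := by
  rw [alt_eq_sum, coeff_sum]
  refine Finset.sum_congr rfl fun σ _ => ?_
  rw [prod_X_pow, ← zsmul_eq_mul, coeff_smul, coeff_monomial, smul_eq_mul,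
    mul_ite, mul_one, mul_zero]
  exact if_congr mon_inj rfl rfl

theorem eq_one_of_comp_strictMono {α β : Fin N → ℕ} (hα : StrictMono α) (hβ : StrictMono β)
    {σ : Equiv.Perm (Fin N)} (h : α ∘ σ = β) : σ = 1 := by
  have hσ : StrictMono σ := fun i j hij => hα.lt_iff_lt.1 (by
    have := hβ hij
    rwa [← h] at this)
  ext i
  have : (σ : Fin N → Fin N) = id := by
    exact (hσ.range_inj strictMono_id).1 (by rw [σ.surjective.range_eq, Set.range_id])
  rw [this]
  rfl

theorem sum_sign_comp_strictMono {α β : Fin N → ℕ} (hα : StrictMono α) (hβ : StrictMono β) :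
    (∑ σ : Equiv.Perm (Fin N), if α ∘ σ = β then (Equiv.Perm.sign σ : ℤ) else 0) =
      if α = β then 1 else 0 := by
  rw [Finset.sum_eq_single (1 : Equiv.Perm (Fin N))]
  · simp
  · intro σ _ hσ
    exact if_neg fun h => hσ (eq_one_of_comp_strictMono hα hβ h)
  · intro h; exact absurd (mem_univ _) h

/-! ## The functions -/

variable {α : Type*} [Fintype α] [DecidableEq α]

/-- The number of colourings of content `c` fixed by `g`. -/
def nfix (c : Fin N → ℕ) (g : Equiv.Perm α) : ℕ :=
  ((fixedCol (Fin N) g).filter fun f => content f = c).card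

theorem coeff_powProd (c : Fin N → ℕ) (g : Equiv.Perm α) :
    coeff (mon c) (powProd (X : Fin N → MvPolynomial (Fin N) ℤ) g) = (nfix c g : ℤ) := by
  rw [powProd, coeff_sum, nfix]
  rw [Finset.sum_congr rfl (g := fun f => if content f = c then (1 : ℤ) else 0) fun f _ => by
    rw [prod_eq_pow_content, prod_X_pow, coeff_monomial]
    exact if_congr mon_inj rfl rfl]
  rw [Finset.sum_boole]

theorem nfix_eq_zero {c : Fin N → ℕ} (g : Equiv.Perm α) (h : ∑ i, c i ≠ Fintype.card α) :
    nfix c g = 0 := by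
  rw [nfix, Finset.card_eq_zero, Finset.filter_eq_empty_iff]
  intro f _ hf
  exact h (hf ▸ (mem_piAntidiag.1 (content_mem f)).1)

/-- The coefficient of `X ^ β` in the alternant times the power sum product. -/
noncomputable def psiZ (β : Fin N → ℕ) (g : Equiv.Perm α) : ℤ :=
  coeff (mon β) (alt (X : Fin N → MvPolynomial (Fin N) ℤ) (delta N) * powProd X g)

theorem psiZ_eq_sum (β : Fin N → ℕ) (g : Equiv.Perm α) :
    psiZ β g = ∑ σ : Equiv.Perm (Fin N), (Equiv.Perm.sign σ : ℤ) *
      if (∀ i, delta N (σ i) ≤ β i) then (nfix (fun i => β i - delta N (σ i)) g : ℤ) else 0 := by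
  rw [psiZ, alt_eq_sum, Finset.sum_mul, coeff_sum]
  refine Finset.sum_congr rfl fun σ _ => ?_
  rw [mul_assoc, ← zsmul_eq_mul, coeff_smul, smul_eq_mul, prod_X_pow]
  congr 1
  rw [coeff_monomial_mul', one_mul]
  refine if_congr (by simp [Finsupp.le_def]) ?_ rfl
  rw [← coeff_powProd]
  congr 1
  ext i
  simp

theorem psiZ_conj (β : Fin N → ℕ) (g h : Equiv.Perm α) : psiZ β (h * g * h⁻¹) = psiZ β g := by
  rw [psiZ, psiZ, powProd_conj]

theorem powProd_prod {κ κ' : Type*} [Fintype κ] [DecidableEq κ] [Fintype κ'] [DecidableEq κ']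
    {R : Type*} [CommRing R] (y : κ → R) (z : κ' → R) (g : Equiv.Perm α) :
    powProd (fun q : κ × κ' => y q.1 * z q.2) g = powProd y g * powProd z g := by
  rw [powProd, powProd, powProd, Finset.sum_mul_sum, ← Finset.sum_product']
  refine Finset.sum_nbij' (fun f => (fun a => (f a).1, fun a => (f a).2))
    (fun q => fun a => (q.1 a, q.2 a)) ?_ ?_ ?_ ?_ ?_
  · intro f hf
    rw [mem_fixedCol] at hf
    simp [mem_fixedCol, hf]
  · intro q hq
    rw [mem_product, mem_fixedCol, mem_fixedCol] at hq
    simp [mem_fixedCol, hq.1, hq.2]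
  · intro f _; rfl
  · intro q _; rfl
  · intro f _
    exact Finset.prod_mul_distrib

theorem geom_mul {R : Type*} [CommRing R] (a b : R) :
    geom (a * b) = PowerSeries.rescale a (geom b) := by
  ext n
  rw [PowerSeries.coeff_rescale, coeff_geom, coeff_geom, mul_pow]

theorem hh_prod {κ κ' : Type*} [Fintype κ] [DecidableEq κ] [Fintype κ']
    {R : Type*} [CommRing R] (y : κ → R) (z : κ' → R) (m : ℕ) :
    hh (fun q : κ × κ' => y q.1 * z q.2) m =
      ∑ l ∈ piAntidiag (univ : Finset κ) m, ∏ i, y i ^ l i * hh z (l i) := by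
  rw [hh, hser, Fintype.prod_prod_type]
  rw [Finset.prod_congr rfl (g := fun i => PowerSeries.rescale (y i) (hser z)) fun i _ => by
    simp only [geom_mul, hser, map_prod]]
  rw [PowerSeries.coeff_prod]
  simp only [PowerSeries.coeff_rescale]
  refine Finset.sum_nbij' (fun l => ⇑l) (fun c => Finsupp.equivFunOnFinite.symm c) ?_ ?_ ?_ ?_ ?_
  · intro l hl
    rw [mem_finsuppAntidiag] at hl
    rw [mem_piAntidiag]
    exact ⟨hl.1, fun i _ => mem_univ i⟩
  · intro c hc
    rw [mem_piAntidiag] at hc
    rw [mem_finsuppAntidiag]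
    exact ⟨by simpa using hc.1, subset_univ _⟩
  · intro l _; simp
  · intro c _; simp
  · intro l _; rfl

/-- The pair count: colourings of content `c` against the power sums. -/
theorem sum_nfix_powProd {c : Fin N → ℕ} (hc : ∑ i, c i = Fintype.card α) :
    ∑ g : Equiv.Perm α, (nfix c g : MvPolynomial (Fin N) ℤ) * powProd X g =
      ((Fintype.card α).factorial : MvPolynomial (Fin N) ℤ) * ∏ i, hh X (c i) := by
  have h := sum_powProd (α := α) fun q : Fin N × Fin N =>
    (X q.1 : MvPolynomial (Fin N) (MvPolynomial (Fin N) ℤ)) * C (X q.2)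
  simp only [powProd_prod (fun i => (X i : MvPolynomial (Fin N) (MvPolynomial (Fin N) ℤ)))
      (fun k => C (X k)),
    hh_prod (fun i => (X i : MvPolynomial (Fin N) (MvPolynomial (Fin N) ℤ))) (fun k => C (X k)),
    ← map_powProd, ← map_hh] at h
  have h2 := congrArg (coeff (mon c)) h
  rw [coeff_sum, ← map_natCast (C : MvPolynomial (Fin N) ℤ →+* _), coeff_C_mul, coeff_sum] at h2
  simp only [mul_comm (powProd _ _) (C _), coeff_C_mul] at h2
  rw [Finset.sum_eq_single c] at h2
  · rw [Finset.prod_mul_distrib, prod_X_pow, ← map_prod, mul_comm (monomial _ _), coeff_C_mul,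
      coeff_monomial, if_pos rfl, mul_one] at h2
    rw [← h2]
    refine Finset.sum_congr rfl fun g _ => ?_
    rw [mul_comm]
    congr 1
    rw [← map_natCast (Int.castRingHom (MvPolynomial (Fin N) ℤ)), ← coeff_powProd,
      ← coeff_map, map_powProd]
    simp only [map_X]
  · intro l _ hl
    rw [Finset.prod_mul_distrib, prod_X_pow, ← map_prod, mul_comm (monomial _ _), coeff_C_mul,
      coeff_monomial, if_neg (mon_inj.not.2 hl), mul_zero]
  · intro hn
    exact absurd (mem_piAntidiag.2 ⟨hc, fun i _ => mem_univ i⟩) hn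

/-- **The fundamental identity.** -/
theorem sum_psiZ_powProd {a : Fin N → ℕ} (ha : ∑ i, a i = Fintype.card α + ∑ i, delta N i) :
    (∑ g : Equiv.Perm α, (psiZ a g : MvPolynomial (Fin N) ℤ) * powProd X g) * alt X (delta N) =
      ((Fintype.card α).factorial : MvPolynomial (Fin N) ℤ) * alt X a := by
  rw [jacobi_trudi X a, ← mul_assoc]
  congr 1
  simp only [psiZ_eq_sum, Int.cast_sum, Int.cast_mul, Finset.sum_mul]
  rw [Finset.sum_comm, ← Matrix.det_transpose, Matrix.det_apply, Finset.mul_sum]
  refine Finset.sum_congr rfl fun σ _ => ?_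
  rw [Units.smul_def, zsmul_eq_mul, mul_left_comm]
  simp only [mul_assoc, ← Finset.mul_sum]
  congr 1
  rw [show (∏ i, (hmat X a).transpose (σ i) i : MvPolynomial (Fin N) ℤ) =
      ∏ i, if delta N (σ i) ≤ a i then hh X (a i - delta N (σ i)) else 0 from rfl]
  by_cases hle : ∀ i, delta N (σ i) ≤ a i
  · rw [Finset.prod_congr rfl (g := fun i => hh X (a i - delta N (σ i))) fun i _ =>
      if_pos (hle i)]
    simp only [if_pos hle, Int.cast_natCast]
    refine sum_nfix_powProd ?_
    have : ∑ i, (a i - delta N (σ i)) + ∑ i, delta N (σ i) = ∑ i, a i := by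
      rw [← Finset.sum_add_distrib]
      exact Finset.sum_congr rfl fun i _ => Nat.sub_add_cancel (hle i)
    rw [Equiv.sum_comp σ (delta N)] at this
    omega
  · rw [not_forall] at hle
    obtain ⟨i, hi⟩ := hle
    rw [Finset.prod_eq_zero (mem_univ i) (if_neg hi), mul_zero]
    refine Finset.sum_eq_zero fun g _ => ?_
    rw [if_neg fun h => hi (h i), Int.cast_zero, zero_mul]

theorem sum_psiZ_mul {a : Fin N → ℕ} (ha : ∑ i, a i = Fintype.card α + ∑ i, delta N i)
    (b : Fin N → ℕ) :
    ∑ g : Equiv.Perm α, psiZ a g * psiZ b g = ((Fintype.card α).factorial : ℤ) *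
      ∑ σ : Equiv.Perm (Fin N), if a ∘ σ = b then (Equiv.Perm.sign σ : ℤ) else 0 := by
  have h := congrArg (coeff (mon b)) (sum_psiZ_powProd (α := α) ha)
  rw [Finset.sum_mul, coeff_sum, ← map_natCast (C : ℤ →+* MvPolynomial (Fin N) ℤ), coeff_C_mul,
    coeff_alt] at h
  rw [← h]
  refine Finset.sum_congr rfl fun g _ => ?_
  rw [mul_assoc, ← eq_intCast (C : ℤ →+* MvPolynomial (Fin N) ℤ), coeff_C_mul,
    mul_comm (powProd _ _)]
  rfl

/-- The complex valued function. -/
noncomputable def psi (β : Fin N → ℕ) : Equiv.Perm α → ℂ := fun g => (psiZ β g : ℂ)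

theorem isClassFunction_psi (β : Fin N → ℕ) :
    Cfsg.IsClassFunction (Equiv.Perm α) (psi (α := α) β) :=
  fun g h => by rw [psi, psi, psiZ_conj]

theorem classInner_psi {a : Fin N → ℕ} (ha : ∑ i, a i = Fintype.card α + ∑ i, delta N i)
    (b : Fin N → ℕ) :
    Cfsg.classInner (psi (α := α) a) (psi b) =
      ((∑ σ : Equiv.Perm (Fin N), if a ∘ σ = b then (Equiv.Perm.sign σ : ℤ) else 0 : ℤ) : ℂ) := by
  rw [Cfsg.Lib.Chars.classInner_def]
  simp only [psi, map_intCast, ← Int.cast_mul, ← Int.cast_sum]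
  rw [sum_psiZ_mul ha, Int.cast_mul, Int.cast_natCast, ← Fintype.card_perm, Nat.card_eq_fintype_card,
    ← mul_assoc,
    inv_mul_cancel₀ (by exact_mod_cast Fintype.card_ne_zero), one_mul]

/-- Colourings of a given content. -/
abbrev ColC (α : Type*) [Fintype α] [DecidableEq α] {N : ℕ} (c : Fin N → ℕ) :=
  {f : α → Fin N // content f = c}

theorem content_comp (g : Equiv.Perm α) (f : α → Fin N) : content (f ∘ g) = content f := by
  funext k
  refine Finset.card_nbij' (fun a => g a) (fun a => g.symm a) ?_ ?_ ?_ ?_ <;> intro a ha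
  · simpa using ha
  · simpa using ha
  · simp
  · simp

/-- The action on the colourings of a given content. -/
@[reducible] def colAction (c : Fin N → ℕ) : MulAction (Equiv.Perm α) (ColC α c) where
  smul g f := ⟨f.1 ∘ g.symm, (content_comp g.symm f.1).trans f.2⟩
  one_smul f := Subtype.ext rfl
  mul_smul g h f := Subtype.ext rfl

theorem isGeneralized_psi (β : Fin N → ℕ) :
    Cfsg.IsGeneralizedCharacter (Equiv.Perm α) (psi (α := α) β) := by
  have hperm : ∀ c : Fin N → ℕ,
      Cfsg.IsGeneralizedCharacter (Equiv.Perm α) fun g => (nfix c g : ℂ) := by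
    intro c
    letI := colAction (α := α) c
    refine Cfsg.Lib.Chars.IsCharacter.isGeneralized ?_
    convert Cfsg.Lib.Chars.isCharacter_permChar (G := Equiv.Perm α) (ColC α c) using 1
    funext g
    rw [Cfsg.Lib.Chars.permChar, nfix, Nat.cast_inj, ← Nat.card_eq_finsetCard]
    refine Nat.card_congr
      { toFun := fun f => ⟨⟨f.1, (mem_filter.1 f.2).2⟩, ?_⟩
        invFun := fun f => ⟨f.1.1, mem_filter.2 ⟨mem_fixedCol.2 fun a => ?_, f.1.2⟩⟩
        left_inv := fun f => rfl
        right_inv := fun f => rfl }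
    · refine Subtype.ext (funext fun a => ?_)
      have := mem_fixedCol.1 (mem_filter.1 f.2).1 (g.symm a)
      rw [Equiv.apply_symm_apply] at this
      exact this.symm
    · have := congrFun (congrArg Subtype.val f.2) (g a)
      change f.1.1 (g.symm (g a)) = f.1.1 (g a) at this
      rw [Equiv.symm_apply_apply] at this
      exact this.symm
  have he : psi (α := α) β = ∑ σ : Equiv.Perm (Fin N), (Equiv.Perm.sign σ : ℤ) •
      if (∀ i, delta N (σ i) ≤ β i) then
        (fun g => (nfix (fun i => β i - delta N (σ i)) g : ℂ)) else 0 := by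
    funext g
    rw [psi, psiZ_eq_sum, Finset.sum_apply, Int.cast_sum]
    refine Finset.sum_congr rfl fun σ _ => ?_
    by_cases h : ∀ i, delta N (σ i) ≤ β i <;> simp [h, zsmul_eq_mul]
  rw [he]
  refine Cfsg.Lib.Chars.IsGeneralizedCharacter.sum _ _ fun σ _ =>
    Cfsg.Lib.Chars.IsGeneralizedCharacter.zsmul ?_ _
  split_ifs
  exacts [hperm _, Cfsg.Lib.Chars.isGeneralized_zero]

theorem classInner_psi_self {a : Fin N → ℕ} (hs : StrictMono a)
    (ha : ∑ i, a i = Fintype.card α + ∑ i, delta N i) :
    Cfsg.classInner (psi (α := α) a) (psi a) = 1 := by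
  rw [classInner_psi ha, sum_sign_comp_strictMono hs hs, if_pos rfl, Int.cast_one]

end Cfsg.Lib.SymBlocks
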