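import Cfsg.Agent.SymBlocks.Valuation
import Cfsg.Agent.SymBlocks.Defect
import Cfsg.Agent.SymBlocks.AltCount
import Cfsg.Agent.SymBlocks.Wreath2
import Cfsg.Agent.Blocks.Covering
import Cfsg.Agent.Blocks.InducedDefect
import Cfsg.Agent.Chars.DefectZero

/-!
# Blocks of symmetric groups are determined by the residue counts

A block with residue counts of weight `w` is induced from the block of the centraliser of a product
of `w` cycles of length `p` lying over the core character. This gives the converse of the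
Nakayama rule and the defect groups.
-/

set_option autoImplicit false
set_option linter.unusedSectionVars false
set_option linter.style.haveILetI false

namespace Cfsg.Lib.SymBlocks

open Finset Cfsg.Lib.Blocks Cfsg.Lib.Chars
open scoped ComplexConjugate

universe u

variable {α : Type u} [Fintype α] [DecidableEq α] {p w r N : ℕ}

/-- The permutations of the points outside the cycles. -/
def restHom (e : (Fin w × ZMod p) ⊕ Fin r ≃ α) : Equiv.Perm (Fin r) →* Equiv.Perm α :=
  MonoidHom.mk' (fun σ => e.permCongr ((1 : Equiv.Perm (Fin w × ZMod p)).sumCongr σ)) fun σ τ =>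
    Equiv.ext fun z => by
      obtain ⟨(x | j), rfl⟩ := e.surjective z <;> simp [Equiv.permCongr_apply]

/-- The permutations of the points on the cycles. -/
def suppHom (e : (Fin w × ZMod p) ⊕ Fin r ≃ α) : Equiv.Perm (Fin w × ZMod p) →* Equiv.Perm α :=
  MonoidHom.mk' (fun σ => e.permCongr (σ.sumCongr (1 : Equiv.Perm (Fin r)))) fun σ τ =>
    Equiv.ext fun z => by
      obtain ⟨(x | j), rfl⟩ := e.surjective z <;> simp [Equiv.permCongr_apply]

variable (e : (Fin w × ZMod p) ⊕ Fin r ≃ α)

theorem restHom_inl (σ : Equiv.Perm (Fin r)) (x : Fin w × ZMod p) :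
    restHom e σ (e (Sum.inl x)) = e (Sum.inl x) := by
  simp [restHom, Equiv.permCongr_apply]

theorem restHom_inr (σ : Equiv.Perm (Fin r)) (j : Fin r) :
    restHom e σ (e (Sum.inr j)) = e (Sum.inr (σ j)) := by
  simp [restHom, Equiv.permCongr_apply]

theorem suppHom_inl (σ : Equiv.Perm (Fin w × ZMod p)) (x : Fin w × ZMod p) :
    suppHom e σ (e (Sum.inl x)) = e (Sum.inl (σ x)) := by
  simp [suppHom, Equiv.permCongr_apply]

theorem suppHom_inr (σ : Equiv.Perm (Fin w × ZMod p)) (j : Fin r) :
    suppHom e σ (e (Sum.inr j)) = e (Sum.inr j) := by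
  simp [suppHom, Equiv.permCongr_apply]

theorem restHom_injective : Function.Injective (restHom e) := fun σ τ h => Equiv.ext fun j => by
  have := congrArg (fun g : Equiv.Perm α => g (e (Sum.inr j))) h
  simp only [restHom_inr] at this
  simpa using e.injective this

theorem suppHom_injective : Function.Injective (suppHom e) := fun σ τ h => Equiv.ext fun x => by
  have := congrArg (fun g : Equiv.Perm α => g (e (Sum.inl x))) h
  simp only [suppHom_inl] at this
  simpa using e.injective this

theorem commute_suppHom_restHom (σ : Equiv.Perm (Fin w × ZMod p)) (τ : Equiv.Perm (Fin r)) :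
    Commute (suppHom e σ) (restHom e τ) := Equiv.ext fun z => by
  obtain ⟨(x | j), rfl⟩ := e.surjective z <;>
    simp [suppHom_inl, suppHom_inr, restHom_inl, restHom_inr]

theorem sign_suppHom (σ : Equiv.Perm (Fin w × ZMod p)) [NeZero p] :
    Equiv.Perm.sign (suppHom e σ) = Equiv.Perm.sign σ := by
  show Equiv.Perm.sign (e.permCongr _) = _
  rw [Equiv.Perm.sign_permCongr, Equiv.Perm.sign_sumCongr, map_one, mul_one]

theorem cycleProd_eq_suppHom : cycleProd e = suppHom e (rotProd p w) := cycleProd_eq e

/-- A function commuting with the cycles and fixing the complement is a monomial one. -/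
theorem mem_range_restHom_iff [Fact p.Prime] (g : Equiv.Perm α) :
    g ∈ (restHom e).range ↔ ∀ x, g (e (Sum.inl x)) = e (Sum.inl x) := by
  constructor
  · rintro ⟨σ, rfl⟩ x
    exact restHom_inl e σ x
  · intro h
    have h' : ∀ j, ∃ k, g (e (Sum.inr j)) = e (Sum.inr k) := by
      intro j
      obtain ⟨(x | k), hk⟩ := e.surjective (g (e (Sum.inr j)))
      · exfalso
        have := g.injective ((h x).trans hk)
        simpa using e.injective this
      · exact ⟨k, hk.symm⟩
    choose f hf using h'
    have hinj : Function.Injective f := fun a b he => by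
      have := g.injective (show g (e (Sum.inr a)) = g (e (Sum.inr b)) by rw [hf, hf, he])
      simpa using e.injective this
    refine ⟨Equiv.ofBijective f (Finite.injective_iff_bijective.1 hinj), Equiv.ext fun z => ?_⟩
    obtain ⟨(x | j), rfl⟩ := e.surjective z
    · rw [restHom_inl, h]
    · rw [restHom_inr, hf]; rfl

/-- The centraliser of the product of the cycles. -/
abbrev cycCent : Subgroup (Equiv.Perm α) :=
  Subgroup.centralizer (Subgroup.zpowers (cycleProd e) : Set (Equiv.Perm α))

theorem mem_cycCent {g : Equiv.Perm α} : g ∈ cycCent e ↔ Commute (cycleProd e) g := by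
  rw [cycCent, centralizer_zpowers, Subgroup.mem_centralizer_singleton_iff]
  exact ⟨fun h => h.symm, fun h => h.symm⟩

theorem restHom_mem_cycCent [Fact p.Prime] (σ : Equiv.Perm (Fin r)) : restHom e σ ∈ cycCent e := by
  rw [mem_cycCent, cycleProd_eq_suppHom]
  exact commute_suppHom_restHom e _ σ

/-- The embedding of the complement into the centraliser. -/
def restCent [Fact p.Prime] : Equiv.Perm (Fin r) →* cycCent e :=
  (restHom e).codRestrict _ (restHom_mem_cycCent e)

/-- A block over the core character. -/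
def OverCore [Fact p.Prime] (a : Fin N → ℕ) (f : Set (Cfsg.IrrCharacter (cycCent e))) : Prop :=
  ∃ ξ ∈ f, Cfsg.classInner (fun σ => (ξ : cycCent e → ℂ) (restCent e σ))
    (psi (α := Fin r) a) ≠ 0

variable [Fact p.Prime]

theorem core_defect_zero {a : Fin N → ℕ} (hsa : StrictMono a)
    (hasum : ∑ i, a i = Fintype.card (Fin r) + ∑ i, delta N i)
    (hw0 : weight (Fin r) N p (resCount p a) = 0) :
    padicValNat p (deg (psi (α := Fin r) a)) = padicValNat p r.factorial := by
  have h1 := deg_valuation (α := Fin r) (p := p) hsa hasum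
  have h2 := hk_image_le (α := Fin r) (p := p) hsa hasum
  rw [hw0, Nat.factorial_zero, padicValNat_one_right] at h2
  rw [Fintype.card_fin] at h1
  simp only [Nat.cast_zero, add_zero] at h2
  omega

/-- Some block over the core induces the block. -/
theorem exists_inducing_overCore {M : Ideal Cfsg.AlgInt} (hM : Cfsg.IsPModular p M)
    {B : Set (Cfsg.IrrCharacter (Equiv.Perm α))} (hB : Cfsg.IsPBlock M B)
    {χ : Cfsg.IrrCharacter (Equiv.Perm α)} (hχ : χ ∈ B) {a : Fin N → ℕ} (hsa : StrictMono a)
    (hasum : ∑ i, a i = Fintype.card (Fin r) + ∑ i, delta N i)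
    (hw0 : weight (Fin r) N p (resCount p a) = 0) {c : ℂ} (hc : c ≠ 0)
    (hval : ∀ σ, (χ : Equiv.Perm α → ℂ) (cycleProd e * restHom e σ) = c * psi a σ) :
    ∃ f, Cfsg.IsInducedBlock M (cycCent e) f B ∧ OverCore e a f := by
  classical
  have hp := (Fact.out : p.Prime)
  letI := Fintype.ofFinite (cycCent e)
  by_contra hno
  push Not at hno
  set x := cycleProd e with hx
  have hxord : ∃ k : ℕ, orderOf x = p ^ k := by
    obtain ⟨k, -, hk⟩ := (Nat.dvd_prime_pow hp).1
      (show orderOf x ∣ p ^ 1 by rw [pow_one]; exact orderOf_dvd_of_pow_eq_one (cycleProd_pow e))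
    exact ⟨k, hk⟩
  set θ : cycCent e → ℂ := fun h => (χ : Equiv.Perm α → ℂ) (x * (h : Equiv.Perm α)) with hθdef
  have hθ : Cfsg.IsClassFunction (cycCent e) θ :=
    isClassFunction_translate χ x (fun h hh => (mem_cycCent e).1 hh)
  have hirr : Cfsg.IsIrrCharacter (Equiv.Perm (Fin r)) (psi (α := Fin r) a) := isIrr_psi hsa hasum
  have hvan : ∀ σ : Equiv.Perm (Fin r), p ∣ orderOf σ → psi (α := Fin r) a σ = 0 := fun σ hσ => by
    refine eq_zero_of_defect_zero hirr hp (n := padicValNat p r.factorial) ?_ ?_ ?_ hσ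
    · rw [Nat.card_perm, Nat.card_fin]; exact pow_padicValNat_dvd
    · rw [Nat.card_perm, Nat.card_fin]
      exact pow_succ_padicValNat_not_dvd (Nat.factorial_ne_zero r)
    · rw [← core_defect_zero hsa hasum hw0]; exact pow_padicValNat_dvd
  have key : Cfsg.classInner (fun σ => θ (restCent e σ)) (psi (α := Fin r) a) =
      ∑ f ∈ blocksFinset M (cycCent e),
        Cfsg.classInner (fun σ => Cfsg.blockPart f θ (restCent e σ)) (psi (α := Fin r) a) := by
    simp only [classInner_def, ← Finset.mul_sum]
    congr 1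
    rw [Finset.sum_comm]
    refine Finset.sum_congr rfl fun σ _ => ?_
    rw [← Finset.sum_mul, sum_blockPart hM hθ]
  have hne : Cfsg.classInner (fun σ => θ (restCent e σ)) (psi (α := Fin r) a) ≠ 0 := by
    rw [show (fun σ => θ (restCent e σ)) = c • psi (α := Fin r) a from funext fun σ => hval σ,
      classInner_smul_left, classInner_psi_self hsa hasum, mul_one]
    exact hc
  refine hne (key.trans (Finset.sum_eq_zero fun f hf => ?_))
  have hfb := (mem_blocksFinset hM).1 hf
  by_cases hind : Cfsg.IsInducedBlock M (cycCent e) f B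
  · have hz : ∀ ξ ∈ f, Cfsg.classInner (fun σ => (ξ : cycCent e → ℂ) (restCent e σ))
        (psi (α := Fin r) a) = 0 := fun ξ hξ => by
      by_contra h
      exact hno f hind ⟨ξ, hξ, h⟩
    rw [show (fun σ => Cfsg.blockPart f θ (restCent e σ)) =
      ∑ ξ ∈ univ.filter (· ∈ f), Cfsg.classInner θ (ξ : cycCent e → ℂ) •
        fun σ => (ξ : cycCent e → ℂ) (restCent e σ) from funext fun σ => by
        rw [blockPart_eq_sum, Finset.sum_apply]; rfl, classInner_sum_left]
    exact Finset.sum_eq_zero fun ξ hξ => by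
      rw [classInner_smul_left, hz ξ (mem_filter.1 hξ).2, mul_zero]
  · rw [classInner_def]
    refine mul_eq_zero_of_right _ (Finset.sum_eq_zero fun σ _ => ?_)
    by_cases hσ : p ∣ orderOf σ
    · rw [hvan σ hσ, map_zero, mul_zero]
    · have hreg : ¬ p ∣ orderOf (restCent e σ) := by
        rwa [← Subgroup.orderOf_coe, show ((restCent e σ : cycCent e) : Equiv.Perm α) = restHom e σ
          from rfl, orderOf_injective _ (restHom_injective e)]
      rw [blockPart_translate_eq_zero hM hxord rfl hB hχ hfb hind _ hreg, zero_mul]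

/-- The elementary abelian subgroup inside the centraliser. -/
abbrev transSub : Subgroup (cycCent e) := (orbitStab (cycleProd e)).subgroupOf (cycCent e)

theorem transSub_normal : (transSub e).Normal :=
  ⟨fun g hg h => conj_mem_orbitStab ((mem_cycCent e).1 h.2) hg⟩

theorem isPGroup_transSub : IsPGroup p (transSub e) := fun g => ⟨1, Subtype.ext (Subtype.ext (by
  rw [pow_one]; exact pow_eq_one_of_mem_orbitStab (cycleProd_pow e) g.2))⟩

theorem pow_mem_range_of_centralizer {k : cycCent e}
    (hk : k ∈ Subgroup.centralizer (transSub e : Set (cycCent e))) :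
    ((k ^ p : cycCent e) : Equiv.Perm α) ∈ (restHom e).range := by
  rw [mem_range_restHom_iff]
  set g := (k : Equiv.Perm α) with hg
  have hcomm : ∀ v, Commute (transHom e v) g := fun v => by
    have := hk ⟨transHom e v, (mem_cycCent e).2 (transHom_mem_orbitStab e v).1⟩
      (show transHom e v ∈ orbitStab (cycleProd e) from transHom_mem_orbitStab e v)
    exact congrArg Subtype.val this
  -- `g` preserves each cycle
  have hcyc : ∀ i b, ∃ b', g (e (Sum.inl (i, b))) = e (Sum.inl (i, b')) := by
    intro i b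
    have hT := congrArg (fun h : Equiv.Perm α => h (e (Sum.inl (i, b))))
      (hcomm (Multiplicative.ofAdd (Pi.single i 1))).eq
    simp only [Equiv.Perm.mul_apply] at hT
    rw [show transHom e (Multiplicative.ofAdd (Pi.single i 1)) (e (Sum.inl (i, b))) =
      e (Sum.inl (i, b + 1)) by
        show transFun e _ _ = _
        rw [transFun_inl]; simp] at hT
    obtain ⟨(⟨j, b'⟩ | j), hj⟩ := e.surjective (g (e (Sum.inl (i, b))))
    · by_cases hij : j = i
      · exact ⟨b', hij ▸ hj.symm⟩
      · exfalso
        rw [← hj, show transHom e (Multiplicative.ofAdd (Pi.single i 1)) (e (Sum.inl (j, b'))) =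
          e (Sum.inl (j, b')) by
            show transFun e _ _ = _
            rw [transFun_inl]; simp [hij]] at hT
        have := g.injective (hj.symm.trans hT)
        simp at this
    · exfalso
      rw [← hj, show transHom e (Multiplicative.ofAdd (Pi.single i 1)) (e (Sum.inr j)) =
        e (Sum.inr j) by show transFun e _ _ = _; rw [transFun_inr]] at hT
      have := g.injective (hj.symm.trans hT)
      simp at this
  rintro ⟨i, b⟩
  choose f hf using hcyc i
  have hshift : ∀ b, f b = f 0 + b := by
    intro b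
    have hT := congrArg (fun h : Equiv.Perm α => h (e (Sum.inl (i, 0))))
      (hcomm (Multiplicative.ofAdd (Pi.single i b))).eq
    simp only [Equiv.Perm.mul_apply, hf] at hT
    rw [show transHom e (Multiplicative.ofAdd (Pi.single i b)) (e (Sum.inl (i, 0))) =
      e (Sum.inl (i, b)) by show transFun e _ _ = _; rw [transFun_inl]; simp,
      show transHom e (Multiplicative.ofAdd (Pi.single i b)) (e (Sum.inl (i, f 0))) =
      e (Sum.inl (i, f 0 + b)) by show transFun e _ _ = _; rw [transFun_inl]; simp, hf] at hT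
    simpa using (e.injective hT).symm
  have hpow : ∀ n : ℕ, (g ^ n) (e (Sum.inl (i, b))) = e (Sum.inl (i, n • f 0 + b)) := by
    intro n
    induction n with
    | zero => simp
    | succ n ih =>
      rw [pow_succ', Equiv.Perm.mul_apply, ih, hf, hshift, succ_nsmul, add_left_comm, add_assoc]
  rw [SubmonoidClass.coe_pow, ← hg, hpow, nsmul_eq_mul, ZMod.natCast_self, zero_mul, zero_add]

/-- The block over the core is unique. -/
theorem overCore_unique {M : Ideal Cfsg.AlgInt} (hM : Cfsg.IsPModular p M) {a : Fin N → ℕ}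
    (hsa : StrictMono a) (hasum : ∑ i, a i = Fintype.card (Fin r) + ∑ i, delta N i)
    {f f' : Set (Cfsg.IrrCharacter (cycCent e))} (hf : Cfsg.IsPBlock M f)
    (hf' : Cfsg.IsPBlock M f') (h : OverCore e a f) (h' : OverCore e a f') : f = f' := by
  classical
  letI := Fintype.ofFinite (cycCent e)
  haveI := transSub_normal e
  set K := Subgroup.centralizer (transSub e : Set (cycCent e)) with hKdef
  haveI : K.Normal := by rw [hKdef]; infer_instance
  letI := Fintype.ofFinite K
  have hjK : ∀ σ, restCent e σ ∈ K := fun σ => by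
    rintro ⟨g, hgH⟩ hg
    refine Subtype.ext ?_
    show g * restHom e σ = restHom e σ * g
    have hgt : g ∈ orbitStab (cycleProd e) := hg
    refine Equiv.ext fun z => ?_
    obtain ⟨(y | j), rfl⟩ := e.surjective z
    · obtain ⟨k, hk⟩ := hgt.2 (e (Sum.inl y))
      obtain ⟨y', hy'⟩ : ∃ y', g (e (Sum.inl y)) = e (Sum.inl y') := by
        refine ⟨(rotProd p w ^ k) y, ?_⟩
        rw [← hk, cycleProd_eq_suppHom, ← map_zpow, suppHom_inl]
      simp [restHom_inl, hy']
    · obtain ⟨k, hk⟩ := hgt.2 (e (Sum.inr (σ j)))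
      obtain ⟨k', hk'⟩ := hgt.2 (e (Sum.inr j))
      rw [cycleProd_eq_suppHom, ← map_zpow, suppHom_inr] at hk hk'
      simp [restHom_inr, ← hk, ← hk']
  set jK : Equiv.Perm (Fin r) →* K := (restCent e).codRestrict K hjK with hjKdef
  have hjinj : Function.Injective jK := fun σ τ h =>
    restHom_injective e (congrArg (fun x : K => ((x : cycCent e) : Equiv.Perm α)) h)
  set R := jK.range with hRdef
  have hRn : R.Normal := by
    refine ⟨?_⟩
    rintro _ ⟨σ, rfl⟩ k
    have : (((k * jK σ * k⁻¹ : K) : cycCent e) : Equiv.Perm α) ∈ (restHom e).range := by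
      rw [mem_range_restHom_iff]
      rintro ⟨i, b⟩
      obtain ⟨(y | j), hy⟩ := e.surjective (((k : cycCent e) : Equiv.Perm α)⁻¹ (e (Sum.inl (i, b))))
      · simp only [Subgroup.coe_mul, Subgroup.coe_inv, Equiv.Perm.mul_apply, ← hy]
        rw [show ((jK σ : cycCent e) : Equiv.Perm α) = restHom e σ from rfl, restHom_inl, hy,
          Equiv.Perm.inv_def, Equiv.apply_symm_apply]
      · exfalso
        have hc := ((mem_cycCent e).1 (k : cycCent e).2).inv_right
        have hx1 : cycleProd e (e (Sum.inr j)) = e (Sum.inr j) := by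
          rw [cycleProd_eq_suppHom, suppHom_inr]
        rw [hy, ← Equiv.Perm.mul_apply, hc.eq, Equiv.Perm.mul_apply, cycleProd_eq_suppHom,
          suppHom_inl] at hx1
        have h1 := e.injective (Equiv.injective _ hx1)
        simp [rotProd, rot] at h1
    obtain ⟨τ, hτ⟩ := this
    exact ⟨τ, Subtype.ext (Subtype.ext hτ)⟩
  haveI := hRn
  letI := Fintype.ofFinite R
  obtain ⟨n, hn⟩ : ∃ n : ℕ, R.index = p ^ n := by
    have hq : IsPGroup p (K ⧸ R) := by
      intro q
      obtain ⟨k, rfl⟩ := QuotientGroup.mk_surjective q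
      refine ⟨1, ?_⟩
      rw [pow_one, ← QuotientGroup.mk_pow, QuotientGroup.eq_one_iff]
      obtain ⟨τ, hτ⟩ := pow_mem_range_of_centralizer e k.2
      exact ⟨τ, Subtype.ext (Subtype.ext hτ)⟩
    exact IsPGroup.iff_card.1 hq
  let iso : Equiv.Perm (Fin r) ≃* R := MonoidHom.ofInjective hjinj
  set φ₀ : Cfsg.IrrCharacter R :=
    ⟨fun u => psi (α := Fin r) a (iso.symm u),
      IsIrrCharacter.comp_mulEquiv (isIrr_psi hsa hasum) iso.symm⟩
  set c₀ := Cfsg.blockOf M (φ₀ : R → ℂ)
  have hc₀ : Cfsg.IsPBlock M c₀ := isPBlock_blockOf φ₀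
  obtain ⟨E, -, huniq⟩ := existsUnique_covering hM R hn hc₀
  have hstep : ∀ g, Cfsg.IsPBlock M g → OverCore e a g →
      ∃ ξ ∈ g, ∃ θ : Cfsg.IrrCharacter K,
        Cfsg.classInner (fun k : K => (ξ : cycCent e → ℂ) k) (θ : K → ℂ) ≠ 0 ∧
        Cfsg.blockOf M (θ : K → ℂ) = E := by
    rintro g - ⟨ξ, hξ, hne⟩
    obtain ⟨m, hm⟩ := IsCharacter.exists_decomp
      (IsCharacter.comp_hom (isCharacter_of_irr ξ.2) K.subtype)
    have hexp : (fun σ => (ξ : cycCent e → ℂ) (restCent e σ)) =
        ∑ θ : Cfsg.IrrCharacter K, (m θ : ℂ) • fun σ => (θ : K → ℂ) (jK σ) := by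
      funext σ
      have := congrFun hm (jK σ)
      simp only [Finset.sum_apply, Pi.smul_apply, nsmul_eq_mul] at this
      rw [Finset.sum_apply]
      simp only [Pi.smul_apply, smul_eq_mul]
      exact this
    rw [hexp, classInner_sum_left] at hne
    obtain ⟨θ, -, hθ⟩ := Finset.exists_ne_zero_of_sum_ne_zero hne
    rw [classInner_smul_left, mul_ne_zero_iff] at hθ
    refine ⟨ξ, hξ, θ, ?_, huniq _ ⟨isPBlock_blockOf θ, θ, mem_blockOf_self hM θ, φ₀,
      mem_blockOf_self hM φ₀, ?_⟩⟩
    · have hres : (fun k : K => (ξ : cycCent e → ℂ) k) =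
          ∑ θ : Cfsg.IrrCharacter K, (m θ : ℂ) • (θ : K → ℂ) := by
        rw [show (fun k : K => (ξ : cycCent e → ℂ) k) =
          (fun x => (ξ : cycCent e → ℂ) (K.subtype x)) from rfl, hm]
        simp only [← Nat.cast_smul_eq_nsmul ℂ]
      rw [hres, classInner_irrSum]
      exact hθ.1
    · have := classInner_comp_surjective iso.toMonoidHom iso.surjective
        (fun u : R => (θ : K → ℂ) u) (φ₀ : R → ℂ)
      rw [← this]
      simp only [φ₀, MulEquiv.coe_toMonoidHom, MulEquiv.symm_apply_apply]
      exact hθ.2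
  obtain ⟨ξ, hξ, θ, hθ, hθE⟩ := hstep f hf h
  obtain ⟨ξ', hξ', θ', hθ', hθ'E⟩ := hstep f' hf' h'
  have hs : SuppOn K (blockElem f) := fun g hg => by
    rw [fn_blockElem]
    exact blockCoeff_eq_zero_of_not_mem_centralizer hM (isPGroup_transSub e) hf hg
  have h1 := omega_eq_of_constituent K (isCentralFn_blockElem f) hs ξ θ hθ
  have h2 := omega_eq_of_constituent K (isCentralFn_blockElem f) hs ξ' θ' hθ'
  have hEb : Cfsg.IsPBlock M E := hθE ▸ isPBlock_blockOf θ
  have h3 := res_omega_eq_of_sameBlock hM (IsPBlock.sameBlock hM hEb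
    (hθE ▸ mem_blockOf_self hM θ) (hθ'E ▸ mem_blockOf_self hM θ'))
    ((isCentralFn_blockElem f).resElem K) ((integral_blockElem hM hf).resElem K)
  rw [← h1, ← h2, omega_blockElem, omega_blockElem, if_pos hξ] at h3
  have hmem : ξ' ∈ f := by
    by_contra hn'
    rw [if_neg hn', res_eq_iff (one_mem _) (zero_mem _), sub_zero] at h3
    exact not_small_one h3
  exact IsPBlock.eq_of_mem_inter hM hf hf' hmem hξ'

end Cfsg.Lib.SymBlocks
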