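import Cfsg.Agent.SymBlocks.Content
import Cfsg.Prelude.Def_BlockRank

/-!
# Ribbon sums vanish on regular elements

For `p ∣ m` the sum of the `psi (a + m eᵢ)` vanishes on the elements of order prime to `p`.
-/

set_option autoImplicit false
set_option linter.unusedSectionVars false
set_option linter.style.haveILetI false
set_option maxHeartbeats 1600000

namespace Cfsg.Lib.SymBlocks

open Finset

variable {N : ℕ}

/-- `a` with `m` added at `i`. -/
def addAt (a : Fin N → ℕ) (i : Fin N) (m : ℕ) : Fin N → ℕ := Function.update a i (a i + m)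

theorem sum_addAt (a : Fin N → ℕ) (i : Fin N) (m : ℕ) :
    ∑ j, addAt a i m j = ∑ j, a j + m := by
  rw [addAt, Finset.sum_update_of_mem (mem_univ i)]
  have := Finset.sum_sdiff (f := a) (Finset.subset_univ {i})
  rw [Finset.sum_singleton] at this
  omega

theorem mon_addAt (a : Fin N → ℕ) (i : Fin N) (m : ℕ) :
    mon (addAt a i m) = mon a + Finsupp.single i m := by
  ext j
  rw [Finsupp.add_apply, mon_apply, mon_apply, addAt, Function.update_apply, Finsupp.single_apply]
  split_ifs with h1 h2 h3 <;> subst_vars <;> simp_all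

theorem sum_alt_addAt {R : Type*} [CommRing R] (x : Fin N → R) (a : Fin N → ℕ) (m : ℕ) :
    ∑ i, alt x (addAt a i m) = alt x a * ∑ i, x i ^ m := by
  simp only [alt_eq_sum]
  rw [Finset.sum_comm, Finset.sum_mul]
  refine Finset.sum_congr rfl fun σ _ => ?_
  rw [mul_assoc, ← Finset.mul_sum]
  congr 1
  rw [Finset.mul_sum, ← Equiv.sum_comp σ (fun i => ∏ j, x j ^ addAt a i m (σ j))]
  refine Finset.sum_congr rfl fun i _ => ?_
  rw [← Finset.mul_prod_erase univ _ (mem_univ i), ← Finset.mul_prod_erase univ
      (fun j => x j ^ a (σ j)) (mem_univ i), addAt, Function.update_self, pow_add]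
  rw [Finset.prod_congr rfl (g := fun j => x j ^ a (σ j)) fun j hj => by
    rw [Function.update_of_ne fun e => (mem_erase.1 hj).1 (σ.injective e)]]
  ring

theorem sum_delta_le {a : Fin N → ℕ} (h : Function.Injective a) :
    ∑ i, delta N i ≤ ∑ i, a i := by
  obtain ⟨τ, hτ⟩ := exists_sort h
  rw [← Equiv.sum_comp τ a]
  refine Finset.sum_le_sum fun i _ => ?_
  have hkey : ∀ k : ℕ, ∀ hk : k < N, k ≤ a (τ ⟨k, hk⟩) := by
    intro k
    induction k with
    | zero => intro _; exact Nat.zero_le _
    | succ k ih =>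
      intro hk
      have h1 := ih (by omega)
      have h2 : a (τ ⟨k, by omega⟩) < a (τ ⟨k + 1, hk⟩) :=
        hτ (show (⟨k, by omega⟩ : Fin N) < ⟨k + 1, hk⟩ from Nat.lt_succ_self k)
      omega
  exact hkey i i.2

theorem alt_eq_zero_of_not_injective {R : Type*} [CommRing R] (x : Fin N → R) {a : Fin N → ℕ}
    (h : ¬ Function.Injective a) : alt x a = 0 := by
  obtain ⟨i, j, hij, hne⟩ : ∃ i j, a i = a j ∧ i ≠ j := by
    simpa [Function.Injective] using h
  exact Matrix.det_zero_of_row_eq hne (funext fun k => by simp [hij])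

variable {α : Type*} [Fintype α] [DecidableEq α]

/-- The translation of `ZMod m` by one. -/
def rot (m : ℕ) : Equiv.Perm (ZMod m) := Equiv.addRight 1

theorem rot_pow_apply (m k : ℕ) (a : ZMod m) : ((rot m) ^ k) a = a + k := by
  induction k with
  | zero => simp
  | succ k ih =>
    rw [pow_succ', Equiv.Perm.mul_apply, ih, rot, Equiv.coe_addRight, Nat.cast_succ]
    exact add_assoc _ _ _

theorem powProd_rot {κ R : Type*} [Fintype κ] [DecidableEq κ] [CommRing R] (x : κ → R) {m : ℕ}
    [NeZero m] : powProd x (rot m) = ∑ k, x k ^ m := by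
  rw [powProd_cycle x (rot m) 0 fun a => ⟨(a.val : ℤ), by
    rw [zpow_natCast, rot_pow_apply, zero_add, ZMod.natCast_zmod_val]⟩, ZMod.card]

/-- The integral ribbon sum. -/
noncomputable def ribbon (a : Fin N → ℕ) (m : ℕ) (g : Equiv.Perm α) : ℤ :=
  ∑ i, psiZ (addAt a i m) g

theorem ribbon_eq_zero (hN : Fintype.card α ≤ N) {p : ℕ} {a : Fin N → ℕ} {m : ℕ} (hm : m ≠ 0)
    (hpm : p ∣ m) {g : Equiv.Perm α} (hg : ¬ p ∣ orderOf g) : ribbon a m g = 0 := by
  classical
  by_cases hs : ∑ i, a i + m = Fintype.card α + ∑ i, delta N i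
  case neg =>
    refine Finset.sum_eq_zero fun i _ => psiZ_eq_zero_of_sum ?_ g
    rwa [sum_addAt]
  have hcancel : ∀ {P Q : MvPolynomial (Fin N) ℤ},
      P * alt MvPolynomial.X (delta N) = Q * alt MvPolynomial.X (delta N) → P = Q := fun h =>
    mul_right_cancel₀ (fun e => by
      have h1 := congrArg (MvPolynomial.coeff (mon (delta N))) e
      rw [coeff_alt, sum_sign_comp_strictMono (α := delta N) (β := delta N) (fun i j hij => hij)
        (fun i j hij => hij), if_pos rfl] at h1
      simp at h1) h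
  -- the identity of polynomials
  have hpoly : (∑ g : Equiv.Perm α, (ribbon a m g : MvPolynomial (Fin N) ℤ) *
      powProd MvPolynomial.X g) * alt MvPolynomial.X (delta N) =
      ((Fintype.card α).factorial : MvPolynomial (Fin N) ℤ) *
        (alt MvPolynomial.X a * ∑ i, (MvPolynomial.X i : MvPolynomial (Fin N) ℤ) ^ m) := by
    simp only [ribbon, Int.cast_sum, Finset.sum_mul]
    rw [Finset.sum_comm, ← sum_alt_addAt, Finset.mul_sum]
    refine Finset.sum_congr rfl fun i _ => ?_
    rw [← Finset.sum_mul]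
    exact sum_psiZ_powProd (by rwa [sum_addAt])
  by_cases hmn : m ≤ Fintype.card α
  case neg =>
    have hni : ¬ Function.Injective a := fun hi => by
      have := sum_delta_le hi
      omega
    rw [alt_eq_zero_of_not_injective _ hni, zero_mul, mul_zero] at hpoly
    have h0 := hcancel (Q := 0) (by rw [hpoly, zero_mul])
    have hθ : (fun g : Equiv.Perm α => (ribbon a m g : ℂ)) = 0 := by
      refine class_fun_eq_zero (fun x y => ?_) hN fun c => ?_
      · simp only [ribbon, psiZ_conj]
      · have := congrArg (MvPolynomial.coeff (mon c)) h0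
        rw [MvPolynomial.coeff_sum, MvPolynomial.coeff_zero] at this
        rw [Finset.sum_congr rfl (g := fun g : Equiv.Perm α =>
          ((ribbon a m g * (nfix c g : ℤ) : ℤ) : ℂ)) fun g _ => by push_cast; rfl, ← Int.cast_sum]
        rw [← Int.cast_zero, ← this]
        congr 1
        refine Finset.sum_congr rfl fun g _ => ?_
        rw [← eq_intCast (MvPolynomial.C : ℤ →+* MvPolynomial (Fin N) ℤ),
          MvPolynomial.coeff_C_mul, coeff_powProd]
    have hg0 : (ribbon a m g : ℂ) = 0 := congrFun hθ g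
    exact_mod_cast hg0
  haveI : NeZero m := ⟨hm⟩
  set r := Fintype.card α - m with hr
  obtain ⟨e⟩ : Nonempty (Fin r ⊕ ZMod m ≃ α) := ⟨Fintype.equivOfCardEq (by
    rw [Fintype.card_sum, Fintype.card_fin, ZMod.card]; omega)⟩
  set emb : Equiv.Perm (Fin r) → Equiv.Perm α := fun h => e.permCongr (h.sumCongr (rot m)) with hemb
  have ha : ∑ i, a i = Fintype.card (Fin r) + ∑ i, delta N i := by
    rw [Fintype.card_fin]; omega
  have hP : (r.factorial : MvPolynomial (Fin N) ℤ) * ∑ g : Equiv.Perm α,
      (ribbon a m g : MvPolynomial (Fin N) ℤ) * powProd MvPolynomial.X g =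
      ((Fintype.card α).factorial : MvPolynomial (Fin N) ℤ) * ∑ h : Equiv.Perm (Fin r),
        (psiZ a h : MvPolynomial (Fin N) ℤ) * powProd MvPolynomial.X (emb h) := by
    refine hcancel ?_
    rw [mul_assoc, hpoly]
    have h1 := sum_psiZ_powProd (α := Fin r) ha
    rw [Fintype.card_fin] at h1
    calc _ = ((Fintype.card α).factorial : MvPolynomial (Fin N) ℤ) *
          (((r.factorial : MvPolynomial (Fin N) ℤ) * alt MvPolynomial.X a) *
            ∑ i, (MvPolynomial.X i : MvPolynomial (Fin N) ℤ) ^ m) := by ring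
      _ = _ := by
        rw [← h1, Finset.sum_mul, Finset.sum_mul, Finset.mul_sum, Finset.mul_sum, Finset.sum_mul]
        refine Finset.sum_congr rfl fun h _ => ?_
        rw [hemb, powProd_congr, powProd_sum, powProd_rot]
        ring
  obtain ⟨θ, hθdef⟩ : ∃ θ : Equiv.Perm α → ℂ, ∀ g, θ g = (r.factorial : ℂ) * (ribbon a m g : ℂ) -
    ∑ x : Equiv.Perm α, ∑ h : Equiv.Perm (Fin r),
      if x * emb h * x⁻¹ = g then (psiZ a h : ℂ) else 0 := ⟨_, fun g => rfl⟩
  have hθ : θ = 0 := by
    refine class_fun_eq_zero (θ := θ) (N := N) (fun u y => ?_) hN fun c => ?_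
    · rw [hθdef, hθdef, show ribbon a m (y * u * y⁻¹) = ribbon a m u by
        simp only [ribbon, psiZ_conj]]
      refine congrArg (fun z => (r.factorial : ℂ) * (ribbon a m u : ℂ) - z) ?_
      refine Fintype.sum_equiv (Equiv.mulLeft y⁻¹) _ _ fun x => ?_
      refine Finset.sum_congr rfl fun h _ => if_congr ?_ rfl rfl
      simp only [Equiv.coe_mulLeft]
      constructor <;> intro hh
      · have := congrArg (fun z => y⁻¹ * z * y) hh
        simpa [mul_assoc] using this
      · have := congrArg (fun z => y * z * y⁻¹) hh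
        simpa [mul_assoc] using this
    · have h2 := congrArg (MvPolynomial.coeff (mon c)) hP
      simp only [← map_natCast (MvPolynomial.C : ℤ →+* MvPolynomial (Fin N) ℤ),
        ← eq_intCast (MvPolynomial.C : ℤ →+* MvPolynomial (Fin N) ℤ), MvPolynomial.coeff_C_mul,
        MvPolynomial.coeff_sum, coeff_powProd] at h2
      have h3 := congrArg (Int.cast : ℤ → ℂ) h2
      push_cast at h3
      simp only [hθdef, sub_mul, Finset.sum_sub_distrib]
      rw [sub_eq_zero, Finset.sum_congr rfl fun g _ => mul_assoc _ _ _, ← Finset.mul_sum, h3]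
      simp only [Finset.sum_mul, ite_mul, zero_mul]
      rw [Finset.sum_comm,
        Finset.sum_congr rfl (g := fun _ : Equiv.Perm α => ∑ h : Equiv.Perm (Fin r),
          (psiZ a h : ℂ) * (nfix c (emb h) : ℂ)) fun x _ => by
        rw [Finset.sum_comm]
        refine Finset.sum_congr rfl fun h _ => ?_
        rw [Finset.sum_ite_eq, if_pos (mem_univ _)]
        congr 2
        have hc := coeff_powProd c (x * emb h * x⁻¹)
        rw [powProd_conj, coeff_powProd] at hc
        exact_mod_cast hc.symm,
        Finset.sum_const, Finset.card_univ, Fintype.card_perm, nsmul_eq_mul]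
  have := congrFun hθ g
  simp only [hθdef, Pi.zero_apply] at this
  rw [Finset.sum_eq_zero fun x _ => Finset.sum_eq_zero fun h _ => if_neg ?_, sub_zero,
    mul_eq_zero] at this
  · exact_mod_cast this.resolve_left (Nat.cast_ne_zero.2 r.factorial_ne_zero)
  intro hx
  refine hg (hpm.trans ?_)
  rw [← hx, show x * emb h * x⁻¹ = MulAut.conj x (emb h) from rfl, MulEquiv.orderOf_eq, hemb]
  simp only
  rw [show e.permCongr (h.sumCongr (rot m)) =
      e.permCongrHom (Equiv.Perm.sumCongrHom (Fin r) (ZMod m) (h, rot m)) from rfl,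
    MulEquiv.orderOf_eq, orderOf_injective _ Equiv.Perm.sumCongrHom_injective, Prod.orderOf_mk]
  refine dvd_trans ?_ (Nat.dvd_lcm_right _ _)
  have hk := congrArg (fun f : Equiv.Perm (ZMod m) => f 0) (pow_orderOf_eq_one (rot m))
  simp only [rot_pow_apply, zero_add, Equiv.Perm.coe_one, id] at hk
  exact (ZMod.natCast_eq_zero_iff _ _).1 hk

end Cfsg.Lib.SymBlocks
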