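import Cfsg.Agent.SymBlocks.Count

/-!
# The value at a product of `w` cycles of length `p`

If `w` is the weight of the residue counts of `γ`, then `psi γ` does not vanish at a product of
`w` disjoint `p`-cycles.
-/

set_option autoImplicit false
set_option linter.unusedSectionVars false

namespace Cfsg.Lib.SymBlocks

open Finset

variable {N p : ℕ} [NeZero p]

/-- `w` cycles of length `p` on `Fin w × ZMod p`. -/
def rotProd (p w : ℕ) : Equiv.Perm (Fin w × ZMod p) :=
  (Equiv.refl (Fin w)).prodCongr (rot p)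

theorem powProd_rotProd {κ R : Type*} [Fintype κ] [DecidableEq κ] [CommRing R] (x : κ → R)
    (w : ℕ) : powProd x (rotProd p w) = (∑ k, x k ^ p) ^ w := by
  have hconst : ∀ {f : Fin w × ZMod p → κ}, f ∈ fixedCol κ (rotProd p w) →
      ∀ i a, f (i, a) = f (i, 0) := by
    intro f hf i a
    have h : ∀ n : ℕ, f (i, (n : ZMod p)) = f (i, 0) := by
      intro n
      induction n with
      | zero => simp
      | succ n ih =>
        have := mem_fixedCol.1 hf (i, (n : ZMod p))
        rw [rotProd, Equiv.prodCongr_apply, Prod.map_apply, Equiv.refl_apply, rot,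
          Equiv.coe_addRight] at this
        rw [Nat.cast_succ, this, ih]
    have := h a.val
    rwa [ZMod.natCast_zmod_val] at this
  conv_rhs => rw [← Fin.prod_const w (∑ k, x k ^ p), Finset.prod_univ_sum]
  refine Finset.sum_nbij' (fun f i => f (i, 0)) (fun h q => h q.1) ?_ ?_ ?_ ?_ ?_
  · intro f _; simp
  · intro h _; exact mem_fixedCol.2 fun a => rfl
  · intro f hf; funext q; exact (hconst hf q.1 q.2).symm
  · intro h _; rfl
  · intro f hf
    rw [Fintype.prod_prod_type]
    refine Finset.prod_congr rfl fun i _ => ?_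
    rw [Finset.prod_congr rfl (g := fun _ => x (f (i, 0))) fun a _ => by rw [hconst hf i a],
      Finset.prod_const, Finset.card_univ, ZMod.card]

/-- The matrix whose determinant is the sign count. -/
noncomputable def qmat (p : ℕ) (γ : Fin N → ℕ) : Matrix (Fin N) (Fin N) ℚ :=
  Matrix.of fun i j => if (γ i : ZMod p) = γ j then invFac (γ i / p) (rk p γ j) else 0

theorem det_qmat_pos {γ : Fin N → ℕ} (hs : StrictMono γ) : 0 < (qmat p γ).det := by
  classical
  let res : Fin N → Fin p := fun i => ⟨γ i % p, Nat.mod_lt _ (Nat.pos_of_ne_zero (NeZero.ne p))⟩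
  have hres : ∀ i j, res i = res j ↔ (γ i : ZMod p) = γ j := fun i j => by
    rw [Fin.ext_iff, ZMod.natCast_eq_natCast_iff']
  have htri : (qmat p γ).BlockTriangular res := fun i j hij => by
    rw [qmat, Matrix.of_apply, if_neg]
    exact fun e => (ne_of_gt hij) ((hres i j).2 e)
  rw [htri.det_fintype]
  refine Finset.prod_pos fun r _ => ?_
  set c := Fintype.card {i // res i = r} with hc
  have hrk : ∀ i : {i // res i = r}, rk p γ i.1 < c := by
    intro i
    rw [hc, Fintype.card_subtype]
    have := rk_lt_resCount (p := p) γ i.1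
    refine this.trans_le (le_of_eq (congrArg Finset.card (Finset.filter_congr fun j _ => ?_)))
    rw [← hres, i.2]
  let f : {i // res i = r} → Fin c := fun i => ⟨rk p γ i.1, hrk i⟩
  have hf : Function.Injective f := by
    intro a b he
    have he' : rk p γ a.1 = rk p γ b.1 := congrArg Fin.val he
    have hr : (γ a.1 : ZMod p) = γ b.1 := (hres _ _).1 (a.2.trans b.2.symm)
    rcases lt_trichotomy a.1 b.1 with h | h | h
    · exact absurd he' (rk_lt_rk h hr).ne
    · exact Subtype.ext h
    · exact absurd he' (rk_lt_rk h hr.symm).ne'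
  let e : {i // res i = r} ≃ Fin c := Equiv.ofBijective f
    ((Fintype.bijective_iff_injective_and_card f).2 ⟨hf, (Fintype.card_fin c).symm⟩)
  rw [← Matrix.det_submatrix_equiv_self e.symm]
  have hmono : StrictMono fun k : Fin c => γ (e.symm k).1 / p := by
    intro k l hkl
    have hr : (γ (e.symm k).1 : ZMod p) = γ (e.symm l).1 :=
      (hres _ _).1 ((e.symm k).2.trans (e.symm l).2.symm)
    have hk : rk p γ (e.symm k).1 = k := congrArg Fin.val (e.apply_symm_apply k)
    have hl : rk p γ (e.symm l).1 = l := congrArg Fin.val (e.apply_symm_apply l)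
    rcases lt_trichotomy (e.symm k).1 (e.symm l).1 with h | h | h
    · exact quot_lt hs h hr
    · rw [h, hl] at hk
      exact absurd hk (Nat.ne_of_gt hkl)
    · have := rk_lt_rk (p := p) h hr.symm
      rw [hk, hl] at this
      exact absurd this (Nat.lt_asymm hkl)
  refine lt_of_lt_of_eq (dv_pos hmono) (congrArg Matrix.det ?_)
  ext k l
  have hl : rk p γ (e.symm l).1 = l := congrArg Fin.val (e.apply_symm_apply l)
  have hr : (γ (e.symm k).1 : ZMod p) = γ (e.symm l).1 :=
    (hres _ _).1 ((e.symm k).2.trans (e.symm l).2.symm)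
  simp [qmat, Matrix.toSquareBlock_def, hr, hl]

variable {α : Type*} [Fintype α] [DecidableEq α]

/-- Removing all ribbons leaves a nonzero multiple of the core function. -/
theorem psiZ_rotProd_mul {γ : Fin N → ℕ} (hs : StrictMono γ)
    (hsum : ∑ i, γ i = Fintype.card α + ∑ i, delta N i) {r w : ℕ}
    (hw : w = weight α N p (resCount p γ)) (e : (Fin w × ZMod p) ⊕ Fin r ≃ α) :
    ∃ d : ℤ, d ≠ 0 ∧ ∀ ρ : Equiv.Perm (Fin r),
      psiZ γ (e.permCongr ((rotProd p w).sumCongr ρ)) = d * psiZ (coreOf p γ) ρ := by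
  classical
  set κ := coreOf p γ with hκ
  have hcard : Fintype.card α = w * p + r := by
    rw [← Fintype.card_congr e, Fintype.card_sum, Fintype.card_prod, Fintype.card_fin, ZMod.card,
      Fintype.card_fin]
  have hex : ∑ i, excess p γ i = w := (sum_excess_eq_weight hs hsum).trans hw.symm
  have hκsum : ∑ i, κ i = Fintype.card (Fin r) + ∑ i, delta N i := by
    have := coreSum_add (p := p) hs
    rw [← sum_coreOf hs, hex, hsum, hcard, mul_comm p w] at this
    rw [Fintype.card_fin, hκ]
    omega
  -- expansion along the power sums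
  have h0 : ∀ ρ : Equiv.Perm (Fin r), psiZ γ (e.permCongr ((rotProd p w).sumCongr ρ)) =
      ∑ l ∈ piAntidiag (univ : Finset (Fin N)) w, (Nat.multinomial univ l : ℤ) *
        if (∀ i, p * l i ≤ γ i) then psiZ (fun i => γ i - p * l i) ρ else 0 := by
    intro ρ
    rw [psiZ, powProd_congr, powProd_sum, powProd_rotProd, Finset.sum_pow_eq_sum_piAntidiag,
      Finset.sum_mul, Finset.mul_sum, MvPolynomial.coeff_sum]
    refine Finset.sum_congr rfl fun l _ => ?_
    simp only [← pow_mul]
    rw [prod_X_pow, ← map_natCast (MvPolynomial.C : ℤ →+* MvPolynomial (Fin N) ℤ), mul_assoc,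
      mul_left_comm, MvPolynomial.coeff_C_mul, mul_left_comm, MvPolynomial.coeff_monomial_mul',
      one_mul]
    congr 1
    refine if_congr (by simp [Finsupp.le_def]) ?_ rfl
    exact congrArg (fun d => MvPolynomial.coeff d _) (Finsupp.ext fun i => rfl)
  -- the residue preserving permutations
  set T : Finset (Equiv.Perm (Fin N)) := univ.filter fun τ =>
    ∀ i, (γ (τ i) : ZMod p) = γ i ∧ rk p γ (τ i) ≤ γ i / p with hT
  set lof : Equiv.Perm (Fin N) → Fin N → ℕ := fun τ i => γ i / p - rk p γ (τ i) with hlof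
  have hsub : ∀ τ ∈ T, ∀ i, γ i = p * lof τ i + κ (τ i) := by
    intro τ hτ i
    obtain ⟨h1, h2⟩ := (mem_filter.1 hτ).2 i
    have h3 := eq_val_add_mul (p := p) (γ i)
    show γ i = p * (γ i / p - rk p γ (τ i)) + ((γ (τ i) : ZMod p).val + p * rk p γ (τ i))
    rw [h1, add_left_comm, ← mul_add, Nat.sub_add_cancel h2]
    omega
  have hmem : ∀ τ ∈ T, lof τ ∈ piAntidiag (univ : Finset (Fin N)) w := by
    intro τ hτ
    refine mem_piAntidiag.2 ⟨?_, fun i _ => mem_univ i⟩
    have h1 : ∑ i, γ i = p * ∑ i, lof τ i + ∑ i, κ (τ i) := by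
      rw [Finset.mul_sum, ← Finset.sum_add_distrib]
      exact Finset.sum_congr rfl fun i _ => hsub τ hτ i
    rw [Equiv.sum_comp τ κ, hκsum, hsum, hcard, Fintype.card_fin] at h1
    show ∑ i, lof τ i = w
    exact Nat.eq_of_mul_eq_mul_left (Nat.pos_of_ne_zero (NeZero.ne p)) (by rw [mul_comm p w]; omega)
  have himg : T.image lof ⊆ piAntidiag (univ : Finset (Fin N)) w := by
    intro l hl
    obtain ⟨τ, hτ, rfl⟩ := mem_image.1 hl
    exact hmem τ hτ
  suffices hd : ∃ d : ℤ, (d : ℚ) = (w.factorial : ℚ) * (qmat p γ).det ∧ ∀ ρ : Equiv.Perm (Fin r),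
      psiZ γ (e.permCongr ((rotProd p w).sumCongr ρ)) = d * psiZ κ ρ by
    obtain ⟨d, hd1, hd2⟩ := hd
    refine ⟨d, fun h => ?_, hd2⟩
    rw [h, Int.cast_zero] at hd1
    exact mul_ne_zero (by exact_mod_cast w.factorial_ne_zero) (det_qmat_pos hs).ne' hd1.symm
  refine ⟨∑ τ ∈ T, (Nat.multinomial univ (lof τ) : ℤ) * (Equiv.Perm.sign τ : ℤ), ?_, fun ρ => ?_⟩
  rotate_left
  rw [h0, ← Finset.sum_subset himg ?_, Finset.sum_image ?_]
  rotate_left
  · intro τ hτ τ' hτ' he
    ext i
    have h1 := hsub τ hτ i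
    have h2 := hsub τ' hτ' i
    rw [he] at h1
    exact congrArg Fin.val (coreOf_injective γ (show κ (τ i) = κ (τ' i) by omega))
  · intro l hl hnot
    by_contra hne
    have hle : ∀ i, p * l i ≤ γ i := by
      by_contra h
      rw [if_neg h, mul_zero] at hne
      exact hne rfl
    rw [if_pos hle] at hne
    set b : Fin N → ℕ := fun i => γ i - p * l i with hb
    have hbne : psiZ b ρ ≠ 0 := right_ne_zero_of_mul hne
    have hbinj : Function.Injective b := by
      by_contra h
      exact hbne (psiZ_eq_zero_of_not_injective h _)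
    obtain ⟨σ, hσ⟩ := exists_sort hbinj
    have hbres : ∀ i, (b i : ZMod p) = γ i := fun i => by
      rw [hb, Nat.cast_sub (hle i), Nat.cast_mul, ZMod.natCast_self, zero_mul, sub_zero]
    have hcnt : ∀ s, resCount p (b ∘ σ) s = resCount p γ s := fun s => by
      rw [resCount_comp]
      exact congrArg Finset.card (Finset.filter_congr fun i _ => by rw [hbres])
    have hbsum : ∑ i, (b ∘ σ) i = coreSum p (resCount p γ) := by
      simp only [Function.comp_apply]
      rw [Equiv.sum_comp σ b, ← sum_coreOf hs, ← hκ]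
      have h1 : ∑ i, b i + p * ∑ i, l i = ∑ i, γ i := by
        rw [Finset.mul_sum, ← Finset.sum_add_distrib]
        exact Finset.sum_congr rfl fun i _ => Nat.sub_add_cancel (hle i)
      rw [(mem_piAntidiag.1 hl).1, hsum, hcard, mul_comm p w] at h1
      rw [hκsum, Fintype.card_fin]
      omega
    have hz : ∀ i, excess p (b ∘ σ) i = 0 := by
      have h1 := coreSum_add (p := p) hσ
      rw [hbsum, funext hcnt] at h1
      have h2 : p * ∑ i, excess p (b ∘ σ) i = 0 := by omega
      have h3 := (Nat.mul_eq_zero.1 h2).resolve_left (NeZero.ne p)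
      exact fun i => (Finset.sum_eq_zero_iff.1 h3) i (mem_univ i)
    have hex' : ∀ i, ∃ j, κ j = b i ∧ (γ j : ZMod p) = γ i := by
      intro i
      have h1 := eq_coreOf_add (p := p) hσ (σ.symm i)
      rw [hz, mul_zero, add_zero, Function.comp_apply, Equiv.apply_symm_apply] at h1
      obtain ⟨j, hj, hjk⟩ := exists_rk (γ := γ) (γ i : ZMod p)
        (k := rk p (b ∘ σ) (σ.symm i)) (by
          have := rk_lt_resCount (p := p) (b ∘ σ) (σ.symm i)
          rwa [Function.comp_apply, Equiv.apply_symm_apply, hbres, hcnt] at this)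
      refine ⟨j, ?_, hj⟩
      rw [h1, hκ, coreOf, coreOf, hjk, hj, Function.comp_apply, Equiv.apply_symm_apply, hbres]
    choose t ht htr using hex'
    have htinj : Function.Injective t := fun a c he => hbinj (by rw [← ht a, ← ht c, he])
    refine hnot (mem_image.2 ⟨Equiv.ofBijective t (Finite.injective_iff_bijective.1 htinj), ?_, ?_⟩)
    · refine mem_filter.2 ⟨mem_univ _, fun i => ⟨htr i, ?_⟩⟩
      have h1 := eq_val_add_mul (p := p) (γ i)
      have h2 := ht i
      rw [hκ, coreOf, htr i] at h2
      have h3 : b i ≤ γ i := Nat.sub_le _ _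
      show rk p γ (t i) ≤ γ i / p
      exact Nat.le_of_mul_le_mul_left (by omega) (Nat.pos_of_ne_zero (NeZero.ne p))
    · funext i
      show γ i / p - rk p γ (t i) = l i
      have h1 := eq_val_add_mul (p := p) (γ i)
      have h2 := ht i
      rw [hκ, coreOf, htr i] at h2
      have h3 : b i + p * l i = γ i := Nat.sub_add_cancel (hle i)
      have h4 : p * (rk p γ (t i) + l i) = p * (γ i / p) := by rw [mul_add]; omega
      have := Nat.eq_of_mul_eq_mul_left (Nat.pos_of_ne_zero (NeZero.ne p)) h4
      omega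
  · rw [← Matrix.det_transpose, Matrix.det_apply, Finset.mul_sum, Int.cast_sum,
      ← Finset.sum_subset (Finset.subset_univ T)]
    · refine Finset.sum_congr rfl fun τ hτ => ?_
      have h1 := congrArg (Nat.cast : ℕ → ℚ) (Nat.multinomial_spec univ (lof τ))
      rw [Nat.cast_mul, Nat.cast_prod, (mem_piAntidiag.1 (hmem τ hτ)).1] at h1
      rw [Units.smul_def, zsmul_eq_mul, ← h1]
      have h2 : ∀ i, ((lof τ i).factorial : ℚ) * (qmat p γ).transpose (τ i) i = 1 := fun i => by
        obtain ⟨h3, h4⟩ := (mem_filter.1 hτ).2 i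
        rw [Matrix.transpose_apply, qmat, Matrix.of_apply, if_pos h3.symm, invFac, if_pos h4, hlof]
        exact mul_inv_cancel₀ (by exact_mod_cast Nat.factorial_ne_zero _)
      have h5 : (∏ i, ((lof τ i).factorial : ℚ)) * ∏ i, (qmat p γ).transpose (τ i) i = 1 := by
        rw [← Finset.prod_mul_distrib]
        exact Finset.prod_eq_one fun i _ => h2 i
      push_cast
      linear_combination (-(Nat.multinomial univ (lof τ) : ℚ) * ((Equiv.Perm.sign τ : ℤ) : ℚ)) * h5
    · intro τ _ hτ
      obtain ⟨i, hi⟩ := not_forall.1 fun h => hτ (mem_filter.2 ⟨mem_univ τ, h⟩)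
      rw [Finset.prod_eq_zero (mem_univ i), smul_zero, mul_zero]
      rw [Matrix.transpose_apply, qmat, Matrix.of_apply]
      split_ifs with h3
      · rw [invFac, if_neg fun h4 => hi ⟨h3.symm, h4⟩]
      · rfl
  -- each term
  rw [Finset.sum_mul]
  refine Finset.sum_congr rfl fun τ hτ => ?_
  rw [if_pos fun i => by have := hsub τ hτ i; omega, mul_assoc, ← psiZ_comp κ τ]
  congr 2
  funext i
  have := hsub τ hτ i
  simp only [Function.comp_apply]
  omega

theorem psiZ_rotProd_ne_zero {γ : Fin N → ℕ} (hs : StrictMono γ)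
    (hsum : ∑ i, γ i = Fintype.card α + ∑ i, delta N i) {r w : ℕ}
    (hw : w = weight α N p (resCount p γ)) (e : (Fin w × ZMod p) ⊕ Fin r ≃ α) :
    psiZ γ (e.permCongr ((rotProd p w).sumCongr (1 : Equiv.Perm (Fin r)))) ≠ 0 := by
  classical
  obtain ⟨d, hd, h⟩ := psiZ_rotProd_mul hs hsum hw e
  rw [h]
  refine mul_ne_zero hd (Int.cast_ne_zero (α := ℚ).1 ?_)
  have hκsum : ∑ i, coreOf p γ i = Fintype.card (Fin r) + ∑ i, delta N i := by
    have hcard : Fintype.card α = w * p + r := by
      rw [← Fintype.card_congr e, Fintype.card_sum, Fintype.card_prod, Fintype.card_fin, ZMod.card,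
        Fintype.card_fin]
    have := coreSum_add (p := p) hs
    rw [← sum_coreOf hs, sum_excess_eq_weight (α := α) hs hsum, ← hw, hsum, hcard, mul_comm p w] at this
    rw [Fintype.card_fin]
    omega
  rw [psiZ_one hκsum, dv_eq]
  refine mul_ne_zero (by exact_mod_cast Nat.factorial_ne_zero _)
    (mul_ne_zero (Finset.prod_ne_zero_iff.2 fun i _ => ?_) ?_)
  · exact inv_ne_zero (by exact_mod_cast Nat.factorial_ne_zero _)
  · rw [Matrix.det_vandermonde_ne_zero_iff]
    exact Nat.cast_injective.comp (coreOf_injective γ)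

end Cfsg.Lib.SymBlocks
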