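import Mathlib
import Cfsg.Prelude.Def_Characters
import Cfsg.Prelude.Def_Blocks
import Cfsg.Agent.Chars.Irr
import Cfsg.Agent.Chars.Construct
import Cfsg.Agent.Chars.StronglyRealAbove

/-!
# Wreath subgroups of `Perm (Fin w × ZMod p)` and their characters of degree `p`
-/

set_option autoImplicit false
set_option linter.unusedSectionVars false
set_option linter.style.haveILetI false

namespace Cfsg.Lib.SymBlocks

open Finset Cfsg.Lib.Chars

/-- A character of degree `p` from a linear character of an index `p` subgroup. -/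
theorem exists_deg_of_noninvariant {G : Type*} [Group G] [Finite G] {p : ℕ} (hp : p.Prime)
    (hG : IsPGroup p G) (K : Subgroup G) [K.Normal] (hK : K.index = p) (ψ : K →* ℂˣ) (t : G) (u : K)
    (h : ψ (MulAut.conjNormal t u) ≠ ψ u) :
    ∃ φ : Cfsg.IrrCharacter G, Cfsg.charDegree (φ : G → ℂ) = p := by
  haveI := Fact.mk hp
  letI := Fintype.ofFinite G
  letI := Fintype.ofFinite K
  have hθ : Cfsg.IsIrrCharacter K (fun k => (ψ k : ℂ)) := isIrrCharacter_linear ψ
  obtain ⟨χ, hχ, hover⟩ := exists_over (G := G) K hθ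
  refine ⟨⟨χ, hχ⟩, ?_⟩
  show deg χ = p
  have hle : deg χ ≤ p := by
    have h1 := StronglyRealAbove.deg_le_index_mul K hχ hθ hover
    have h2 : deg (fun k : K => (ψ k : ℂ)) = 1 := by simp [deg]
    rwa [h2, mul_one, hK] at h1
  have hne : deg χ ≠ 1 := by
    intro h1
    have hchi1 : χ 1 = 1 := by
      have := irr_apply_one_eq_deg (⟨χ, hχ⟩ : Cfsg.IrrCharacter G)
      simp only [h1, Nat.cast_one] at this
      exact this
    obtain ⟨f, hf⟩ := exists_hom_of_deg_one (isCharacter_of_irr hχ) hchi1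
    have hres : (f.comp K.subtype) = ψ := by
      by_contra hne
      refine hover ?_
      have hn : (⟨_, isIrrCharacter_linear (f.comp K.subtype)⟩ : Cfsg.IrrCharacter K) ≠
          ⟨_, hθ⟩ := fun e => hne (MonoidHom.ext fun k => Units.ext (congrFun (congrArg Subtype.val e) k))
      have := classInner_irr_ne hn
      rw [hf]
      exact this
    refine h ?_
    rw [← hres, MonoidHom.comp_apply, MonoidHom.comp_apply, Subgroup.coe_subtype,
      MulAut.conjNormal_apply, map_mul, map_mul, map_inv, mul_comm (f t) (f u), mul_assoc,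
      mul_inv_cancel, mul_one]
  obtain ⟨k, hk⟩ := IsPGroup.iff_card.1 hG
  obtain ⟨j, -, hj⟩ := (Nat.dvd_prime_pow hp).1 (hk ▸ IsIrrCharacter.deg_dvd hχ)
  rw [hj] at hle hne ⊢
  rcases Nat.eq_zero_or_pos j with rfl | hj0
  · simp at hne
  · have h2 : j ≤ 1 := (Nat.pow_le_pow_iff_right hp.one_lt).1 (by simpa using hle)
    rw [show j = 1 by omega, pow_one]

variable {w p : ℕ} [NeZero p]

/-- The monomial permutation. -/
def wr (v : Fin w → ZMod p) (σ : Equiv.Perm (Fin w)) : Equiv.Perm (Fin w × ZMod p) where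
  toFun x := (σ x.1, x.2 + v x.1)
  invFun x := (σ.symm x.1, x.2 - v (σ.symm x.1))
  left_inv x := by simp
  right_inv x := by simp

theorem wr_apply (v : Fin w → ZMod p) (σ : Equiv.Perm (Fin w)) (x : Fin w × ZMod p) :
    wr v σ x = (σ x.1, x.2 + v x.1) := rfl

theorem wr_mul (v v' : Fin w → ZMod p) (σ σ' : Equiv.Perm (Fin w)) :
    wr v σ * wr v' σ' = wr (fun i => v' i + v (σ' i)) (σ * σ') := by
  refine Equiv.ext fun x => ?_
  simp [wr_apply, add_assoc]

theorem wr_zero_one : wr (0 : Fin w → ZMod p) 1 = 1 := Equiv.ext fun x => by simp [wr_apply]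

theorem wr_inv (v : Fin w → ZMod p) (σ : Equiv.Perm (Fin w)) :
    (wr v σ)⁻¹ = wr (fun i => - v (σ.symm i)) σ⁻¹ := by
  refine inv_eq_of_mul_eq_one_right ?_
  rw [wr_mul, mul_inv_cancel, ← wr_zero_one]
  congr 1
  funext i
  simp [Equiv.Perm.inv_def]

theorem wr_injective {v v' : Fin w → ZMod p} {σ σ' : Equiv.Perm (Fin w)} (h : wr v σ = wr v' σ') :
    v = v' ∧ σ = σ' := by
  have h1 : ∀ i, (σ i, v i) = (σ' i, v' i) := fun i => by
    simpa [wr_apply] using congrArg (fun g : Equiv.Perm _ => g (i, (0 : ZMod p))) h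
  exact ⟨funext fun i => congrArg Prod.snd (h1 i), Equiv.ext fun i => congrArg Prod.fst (h1 i)⟩

/-- The wreath subgroup over `S`. -/
def wreath (p : ℕ) [NeZero p] (S : Subgroup (Equiv.Perm (Fin w))) :
    Subgroup (Equiv.Perm (Fin w × ZMod p)) where
  carrier := {g | ∃ v : Fin w → ZMod p, ∃ σ ∈ S, g = wr v σ}
  one_mem' := ⟨0, 1, one_mem S, wr_zero_one.symm⟩
  mul_mem' := by
    rintro _ _ ⟨v, σ, hσ, rfl⟩ ⟨v', σ', hσ', rfl⟩
    exact ⟨_, σ * σ', mul_mem hσ hσ', wr_mul v v' σ σ'⟩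
  inv_mem' := by
    rintro _ ⟨v, σ, hσ, rfl⟩
    exact ⟨_, σ⁻¹, inv_mem hσ, wr_inv v σ⟩

theorem wr_mem_wreath {S : Subgroup (Equiv.Perm (Fin w))} {σ : Equiv.Perm (Fin w)} (hσ : σ ∈ S)
    (v : Fin w → ZMod p) : wr v σ ∈ wreath p S := ⟨v, σ, hσ, rfl⟩

theorem card_wreath (S : Subgroup (Equiv.Perm (Fin w))) :
    Nat.card (wreath p S) = p ^ w * Nat.card S := by
  rw [← Nat.card_congr (Equiv.ofBijective
    (fun x : (Fin w → ZMod p) × S => (⟨wr x.1 x.2, wr_mem_wreath x.2.2 x.1⟩ : wreath p S))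
    ⟨fun x y h => by
      obtain ⟨h1, h2⟩ := wr_injective (congrArg Subtype.val h)
      exact Prod.ext h1 (Subtype.ext h2),
    fun ⟨_, v, σ, hσ, e⟩ => ⟨(v, ⟨σ, hσ⟩), Subtype.ext e.symm⟩⟩), Nat.card_prod,
    Nat.card_eq_fintype_card (α := Fin w → ZMod p), Fintype.card_fun, Fintype.card_fin, ZMod.card]

theorem wreath_isPGroup [Fact p.Prime] {S : Subgroup (Equiv.Perm (Fin w))} (hS : IsPGroup p S) :
    IsPGroup p (wreath p S) := by
  obtain ⟨k, hk⟩ := IsPGroup.iff_card.1 hS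
  exact IsPGroup.of_card (n := w + k) (by rw [card_wreath, hk, pow_add])

/-- The projection on the cycles. -/
def wreathProj (p : ℕ) [NeZero p] (S : Subgroup (Equiv.Perm (Fin w))) :
    wreath p S →* Equiv.Perm (Fin w) :=
  MonoidHom.mk' (fun g =>
    { toFun := fun i => ((g : Equiv.Perm (Fin w × ZMod p)) (i, 0)).1
      invFun := fun i => ((g : Equiv.Perm (Fin w × ZMod p))⁻¹ (i, 0)).1
      left_inv := fun i => by
        obtain ⟨v, σ, -, hg⟩ := g.2
        simp only [hg, wr_inv]; simp [wr_apply, Equiv.Perm.inv_def]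
      right_inv := fun i => by
        obtain ⟨v, σ, -, hg⟩ := g.2
        simp only [hg, wr_inv]; simp [wr_apply, Equiv.Perm.inv_def] })
    fun g h => by
      obtain ⟨v, σ, -, hg⟩ := g.2
      obtain ⟨v', σ', -, hh⟩ := h.2
      refine Equiv.ext fun i => ?_
      simp [hg, hh, wr_apply]

theorem wreathProj_apply {S : Subgroup (Equiv.Perm (Fin w))} {g : wreath p S}
    {v : Fin w → ZMod p} {σ : Equiv.Perm (Fin w)}
    (h : (g : Equiv.Perm (Fin w × ZMod p)) = wr v σ) : wreathProj p S g = σ :=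
  Equiv.ext fun i => by simp [wreathProj, h, wr_apply]

theorem wreathProj_mem {S : Subgroup (Equiv.Perm (Fin w))} (g : wreath p S) :
    wreathProj p S g ∈ S := by
  obtain ⟨v, σ, hσ, hg⟩ := g.2
  rwa [wreathProj_apply hg]

/-- A subgroup of index `p` containing the stabiliser of a moved point. -/
theorem exists_stab_le_index [hp : Fact p.Prime] {S : Subgroup (Equiv.Perm (Fin w))}
    (hS : IsPGroup p S) {a : Fin w} {τ₀ : Equiv.Perm (Fin w)} (hτ₀ : τ₀ ∈ S) (ha : τ₀ a ≠ a) :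
    ∃ L : Subgroup S, L.Normal ∧ L.index = p ∧ ∀ σ : S, (σ : Equiv.Perm (Fin w)) a = a → σ ∈ L := by
  obtain ⟨k, hk⟩ := IsPGroup.iff_card.1 hS
  set St : Subgroup S := (MulAction.stabilizer (Equiv.Perm (Fin w)) a).subgroupOf S with hSt
  obtain ⟨n, hn⟩ := IsPGroup.iff_card.1 (hS.to_subgroup St)
  have hdvd : p ^ n ∣ p ^ k := hn ▸ hk ▸ Subgroup.card_subgroup_dvd_card St
  have hnk : n ≤ k := (Nat.pow_dvd_pow_iff_le_right hp.out.one_lt).1 hdvd
  have hlt : n < k := by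
    refine lt_of_le_of_ne hnk fun e => ha ?_
    have htop : St = ⊤ := Subgroup.eq_top_of_card_eq St (by rw [hn, e, hk])
    have hmem : (⟨τ₀, hτ₀⟩ : S) ∈ St := htop ▸ Subgroup.mem_top _
    rw [hSt, Subgroup.mem_subgroupOf, MulAction.mem_stabilizer_iff] at hmem
    exact hmem
  obtain ⟨L, hL, hle⟩ := Sylow.exists_subgroup_card_pow_prime_le p (m := k - 1)
    (hk ▸ pow_dvd_pow p (by omega)) St hn (by omega)
  have hidx : L.index = p := by
    have h1 := L.card_mul_index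
    rw [hL, hk] at h1
    refine Nat.eq_of_mul_eq_mul_left (pow_pos hp.out.pos (k - 1)) ?_
    rw [h1, ← pow_succ, Nat.sub_add_cancel (by omega)]
  refine ⟨L, Subgroup.normal_of_index_eq_minFac_card ?_, hidx, fun σ hσ => hle ?_⟩
  · rw [hidx, hk, Nat.Prime.pow_minFac hp.out (by omega)]
  · rw [hSt, Subgroup.mem_subgroupOf, MulAction.mem_stabilizer_iff]
    exact hσ

/-- **A character of degree `p` on an even or full wreath subgroup.** -/
theorem exists_deg_p_of_sub [hp : Fact p.Prime] {S : Subgroup (Equiv.Perm (Fin w))}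
    (hS : IsPGroup p S) {a b : Fin w} {τ₀ : Equiv.Perm (Fin w)} (hτ₀ : τ₀ ∈ S) (ha : τ₀ a ≠ a)
    (T : Subgroup (Equiv.Perm (Fin w × ZMod p))) (hT : T ≤ wreath p S)
    (hlift : ∀ σ ∈ S, wr (0 : Fin w → ZMod p) σ ∈ T) (u₀ : Fin w → ZMod p) (hu : wr u₀ 1 ∈ T)
    (hu₀ : u₀ a = 1 ∧ (∀ i, i ≠ a → i ≠ b → u₀ i = 0) ∧
      (b ≠ a → ∀ σ ∈ S, σ a ≠ b)) :
    ∃ φ : Cfsg.IrrCharacter T, Cfsg.charDegree (φ : T → ℂ) = p := by
  classical
  obtain ⟨L, hLn, hLi, hLa⟩ := exists_stab_le_index hS hτ₀ ha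
  haveI := hLn
  let π : T →* S := ((wreathProj p S).comp (Subgroup.inclusion hT)).codRestrict S fun g =>
    wreathProj_mem _
  have hπ : ∀ (g : T) (v : Fin w → ZMod p) (σ : Equiv.Perm (Fin w)),
      (g : Equiv.Perm (Fin w × ZMod p)) = wr v σ → (π g : Equiv.Perm (Fin w)) = σ :=
    fun g v σ h => wreathProj_apply (g := Subgroup.inclusion hT g) h
  have hsurj : Function.Surjective π := fun σ =>
    ⟨⟨_, hlift σ σ.2⟩, Subtype.ext (hπ _ _ _ rfl)⟩
  set K : Subgroup T := L.comap π with hK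
  haveI : K.Normal := hLn.comap π
  have hKi : K.index = p := by
    rw [hK, Subgroup.index_comap_of_surjective _ hsurj, hLi]
  -- the orbit of `a` under `L`
  set O : Finset (Fin w) := univ.filter fun i => ∃ σ : S, σ ∈ L ∧ (σ : Equiv.Perm (Fin w)) a = i with hO
  have hOL : ∀ σ : S, σ ∈ L → ∀ i, (σ : Equiv.Perm (Fin w)) i ∈ O ↔ i ∈ O := by
    intro σ hσ i
    simp only [hO, mem_filter, mem_univ, true_and]
    constructor
    · rintro ⟨ρ, hρ, e⟩
      exact ⟨σ⁻¹ * ρ, mul_mem (inv_mem hσ) hρ, by simp [e]⟩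
    · rintro ⟨ρ, hρ, rfl⟩
      exact ⟨σ * ρ, mul_mem hσ hρ, rfl⟩
  have hvers : ∀ g : T, ∃ v : Fin w → ZMod p, ∀ i, v i =
      ((g : Equiv.Perm (Fin w × ZMod p)) (i, 0)).2 := fun g => ⟨_, fun i => rfl⟩
  let ver : T → Fin w → ZMod p := fun g i => ((g : Equiv.Perm (Fin w × ZMod p)) (i, 0)).2
  have hmul : ∀ g h : T, ∀ i, ver (g * h) i = ver h i + ver g ((π h : Equiv.Perm (Fin w)) i) := by
    intro g h i
    obtain ⟨v, σ, -, hg⟩ := hT g.2
    obtain ⟨v', σ', -, hh⟩ := hT h.2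
    rw [hπ h _ _ hh]
    simp [ver, hg, hh, wr_apply]
  let ψ₀ : K →* Multiplicative (ZMod p) := MonoidHom.mk'
    (fun g => Multiplicative.ofAdd (∑ i ∈ O, ver g i)) fun g h => by
      rw [← ofAdd_add]
      congr 1
      simp only [Subgroup.coe_mul, hmul, Finset.sum_add_distrib]
      rw [add_comm]
      congr 1
      exact Finset.sum_equiv (π (h : T) : Equiv.Perm (Fin w)) (fun i => (hOL _ h.2 i).symm)
        fun i _ => rfl
  obtain ⟨ζ, hζ⟩ : ∃ ζ : Multiplicative (ZMod p) →* ℂˣ, Function.Injective ζ := by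
    refine ⟨(Units.map (Circle.coeHom : Circle →* ℂ)).comp
      (((toUnits : Circle ≃* Circleˣ) : Circle →* Circleˣ).comp
        ((ZMod.toCircle (N := p)).toMonoidHom)), fun x y h => ?_⟩
    have h1 := congrArg (fun z : ℂˣ => (z : ℂ)) h
    exact Multiplicative.toAdd.injective (ZMod.injective_toCircle (Subtype.val_injective h1))
  have haO : a ∈ O := mem_filter.2 ⟨mem_univ _, 1, one_mem L, rfl⟩
  have hbO : b = a ∨ b ∉ O := by
    by_cases h : b = a
    · exact Or.inl h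
    · refine Or.inr fun hb => ?_
      obtain ⟨σ, -, hσ⟩ := (mem_filter.1 hb).2
      exact hu₀.2.2 h σ σ.2 hσ
  obtain ⟨τ, hτ⟩ : ∃ τ : S, τ ∉ L := by
    by_contra h
    push Not at h
    rw [show L = ⊤ from eq_top_iff.2 fun x _ => h x, Subgroup.index_top] at hLi
    exact hp.out.one_lt.ne hLi
  have hτO : ∀ i ∈ O, (τ⁻¹ : S).1 i ∉ O ∧ (τ : Equiv.Perm (Fin w)) i ∉ O := by
    intro i hi
    obtain ⟨ρ, hρ, rfl⟩ := (mem_filter.1 hi).2
    constructor <;>
    · intro h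
      obtain ⟨ρ', hρ', e⟩ := (mem_filter.1 h).2
      have hst := hLa (ρ'⁻¹ * (_ * ρ)) (by
        simp only [Subgroup.coe_mul, Subgroup.coe_inv, Equiv.Perm.mul_apply]
        rw [← e]; simp)
      have h2 := mul_mem (mul_mem hρ' hst) (inv_mem hρ)
      simp only [mul_assoc, mul_inv_cancel_left, mul_inv_cancel, mul_one] at h2
      first
        | exact hτ h2
        | exact hτ (by simpa using inv_mem h2)
  have huK : (⟨_, hu⟩ : T) ∈ K := by
    rw [hK, Subgroup.mem_comap]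
    rw [show π ⟨_, hu⟩ = 1 from Subtype.ext (hπ _ _ _ rfl)]
    exact one_mem L
  refine exists_deg_of_noninvariant hp.out ((wreath_isPGroup (p := p) hS).to_le hT) K hKi (ζ.comp ψ₀)
    ⟨_, hlift τ τ.2⟩ ⟨_, huK⟩ fun h => ?_
  have h1 : ψ₀ _ = ψ₀ _ := hζ h
  simp only [ψ₀, MonoidHom.mk'_apply, EmbeddingLike.apply_eq_iff_eq, MulAut.conjNormal_apply] at h1
  have hr : ∑ i ∈ O, ver ⟨_, hu⟩ i = 1 := by
    simp only [ver, wr_apply, zero_add]
    rw [Finset.sum_eq_single a (fun i hi hne => hu₀.2.1 i hne fun e => ?_) fun h => absurd haO h]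
    · exact hu₀.1
    · rcases hbO with e' | e'
      · exact hne (e.trans e')
      · exact e' (e ▸ hi)
  have hl : ∑ i ∈ O, ver (⟨_, hlift τ τ.2⟩ * ⟨_, hu⟩ * (⟨_, hlift τ τ.2⟩ : T)⁻¹) i = 0 := by
    refine Finset.sum_eq_zero fun i hi => ?_
    simp only [ver, Subgroup.coe_mul, Subgroup.coe_inv]
    simp only [wr_inv, wr_mul, wr_apply, zero_add, Pi.zero_apply, add_zero, neg_zero]
    have hna : (τ : Equiv.Perm (Fin w))⁻¹ i ≠ a := fun e => (hτO a haO).2 (by
      rw [← e]; simpa using hi)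
    refine (hu₀.2.1 _ hna fun e => ?_)
    obtain ⟨ρ, -, hρ⟩ := (mem_filter.1 hi).2
    refine hu₀.2.2 (fun e' => hna (e.trans e')) ((τ⁻¹ : S) * ρ) (τ⁻¹ * ρ).2 ?_
    simp [hρ, ← e]
  rw [hl, hr] at h1
  exact zero_ne_one h1

end Cfsg.Lib.SymBlocks
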